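import Groth.Agent.Desc44.FamUniv
import Groth.Agent.GrpdLib.FamDescent

/-!
# Effectivity of descent data for fpqc families from the affine case
-/

set_option autoImplicit false
set_option backward.isDefEq.respectTransparency false
set_option linter.style.haveILetI false

universe u

open CategoryTheory CategoryTheory.Limits AlgebraicGeometry Opposite

namespace Groth.Agent.Desc44

variable {S : Scheme.{u}} {ι : Type u} {X : ι → Scheme.{u}} {f : ∀ i, X i ⟶ S} {D : Desc.SchDDFam f}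

namespace IsUniv

variable {B' B : Scheme.{u}} {g : B' ⟶ B} {β : B ⟶ S} {Y : Over B'} {z : Fam D (Y.hom ≫ g ≫ β)}

theorem lifts_w {T : Scheme.{u}} {x : T ⟶ B'} {t : T ⟶ S} (ht : x ≫ g ≫ β = t) (v : Desc.Lifts Y x) :
    v.1 ≫ Y.hom ≫ g ≫ β = t := by
  rw [← ht, ← Category.assoc, v.2]

/-- Lifts to a universal family are compatible families. -/
noncomputable def liftsEquiv (h : IsUniv D (g ≫ β) Y z) {T : Scheme.{u}} (x : T ⟶ B') (t : T ⟶ S)
    (ht : x ≫ g ≫ β = t) : Desc.Lifts Y x ≃ Fam D t :=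
  Equiv.ofBijective (fun v => z.map v.1 (lifts_w ht v))
    ⟨fun v v' e => Subtype.ext (h.hom_ext v.1 v'.1 (v.2.trans v'.2.symm) _ _ e), fun w => by
      obtain ⟨a, ha, hap, haw⟩ := h.exists_hom x ht w
      exact ⟨⟨a, hap⟩, haw⟩⟩

theorem liftsEquiv_apply (h : IsUniv D (g ≫ β) Y z) {T : Scheme.{u}} (x : T ⟶ B') (t : T ⟶ S)
    (ht : x ≫ g ≫ β = t) (v : Desc.Lifts Y x) : h.liftsEquiv x t ht v = z.map v.1 (lifts_w ht v) := rfl

/-- The gluing of a universal family. -/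
noncomputable def glue (h : IsUniv D (g ≫ β) Y z) {T : Scheme.{u}} (x₀ x₁ : T ⟶ B')
    (hx : x₀ ≫ g = x₁ ≫ g) : Desc.Lifts Y x₀ ≃ Desc.Lifts Y x₁ :=
  (h.liftsEquiv x₀ (x₀ ≫ g ≫ β) rfl).trans (h.liftsEquiv x₁ (x₀ ≫ g ≫ β)
    (by rw [← Category.assoc, ← hx, Category.assoc])).symm

theorem map_glue (h : IsUniv D (g ≫ β) Y z) {T : Scheme.{u}} (x₀ x₁ : T ⟶ B') (hx : x₀ ≫ g = x₁ ≫ g)
    (v : Desc.Lifts Y x₀) {t : T ⟶ S} (h₁ : (h.glue x₀ x₁ hx v).1 ≫ Y.hom ≫ g ≫ β = t)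
    (h₀ : v.1 ≫ Y.hom ≫ g ≫ β = t) : z.map (h.glue x₀ x₁ hx v).1 h₁ = z.map v.1 h₀ :=
  have e : z.map (h.glue x₀ x₁ hx v).1 (lifts_w (by rw [← Category.assoc, ← hx, Category.assoc]) _) =
      z.map v.1 (lifts_w (rfl : x₀ ≫ g ≫ β = _) v) :=
    (h.liftsEquiv x₁ (x₀ ≫ g ≫ β) (by rw [← Category.assoc, ← hx, Category.assoc])).apply_symm_apply _
  Fam.retarget e _ _

theorem glue_eq (h : IsUniv D (g ≫ β) Y z) {T : Scheme.{u}} (x₀ x₁ : T ⟶ B') (hx : x₀ ≫ g = x₁ ≫ g)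
    (v : Desc.Lifts Y x₀) (w : T ⟶ Y.left) (hw : w ≫ Y.hom = x₁) {t : T ⟶ S}
    (h₁ : w ≫ Y.hom ≫ g ≫ β = t) (h₀ : v.1 ≫ Y.hom ≫ g ≫ β = t) (e : z.map w h₁ = z.map v.1 h₀) :
    (h.glue x₀ x₁ hx v).1 = w := by
  have h2 : (h.glue x₀ x₁ hx v).1 ≫ Y.hom ≫ g ≫ β = t := by
    rw [← h₁, ← Category.assoc, (h.glue x₀ x₁ hx v).2, ← hw, Category.assoc]
  exact h.hom_ext _ _ ((h.glue x₀ x₁ hx v).2.trans hw.symm) h2 h₁
    ((h.map_glue x₀ x₁ hx v h2 h₀).trans e.symm)

theorem comp_lifts_w {T T' : Scheme.{u}} (c : T' ⟶ T) {a : T ⟶ Y.left} {t : T ⟶ S}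
    (ha : a ≫ Y.hom ≫ g ≫ β = t) : (c ≫ a) ≫ Y.hom ≫ g ≫ β = c ≫ t := by
  rw [Category.assoc, ha]

/-- The descent datum along `g` carried by a universal family. -/
noncomputable def datum (h : IsUniv D (g ≫ β) Y z) : Desc.SchDD g where
  obj := Y
  φ _ x₀ x₁ hx := h.glue x₀ x₁ hx
  φ_natural T T' c x₀ x₁ hx hx' v v' hv' := by
    have hv := lifts_w (rfl : x₀ ≫ g ≫ β = _) v
    have h₁ : (h.glue x₀ x₁ hx v).1 ≫ Y.hom ≫ g ≫ β = x₀ ≫ g ≫ β :=
      lifts_w (by rw [← Category.assoc, ← hx, Category.assoc]) _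
    refine h.glue_eq _ _ _ v' _ (by rw [Category.assoc, (h.glue x₀ x₁ hx v).2])
      (comp_lifts_w c h₁) (by rw [hv']; exact comp_lifts_w c hv) ?_
    rw [← Fam.map_map _ h₁ c rfl, h.map_glue x₀ x₁ hx v h₁ hv, Fam.map_map]
    exact Fam.map_congr hv'.symm _ _
  φ_self T x v := Subtype.ext (h.glue_eq _ _ _ v v.1 v.2 (lifts_w rfl v) (lifts_w rfl v) rfl)
  φ_comp T x₀ x₁ x₂ h₀₁ h₁₂ v := by
    have e2 : x₂ ≫ g ≫ β = x₀ ≫ g ≫ β := by
      rw [← Category.assoc, ← h₁₂, ← h₀₁, Category.assoc]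
    have e1 : x₁ ≫ g ≫ β = x₀ ≫ g ≫ β := by rw [← Category.assoc, ← h₀₁, Category.assoc]
    refine Subtype.ext (h.glue_eq _ _ _ _ _ (h.glue x₀ x₂ (h₀₁.trans h₁₂) v).2
      (lifts_w e2 _) (lifts_w e1 _) ?_)
    rw [h.map_glue x₀ x₂ _ v _ (lifts_w rfl v), h.map_glue x₀ x₁ _ v _ (lifts_w rfl v)]

theorem datum_phi (h : IsUniv D (g ≫ β) Y z) {T : Scheme.{u}} (x₀ x₁ : T ⟶ B') (hx : x₀ ≫ g = x₁ ≫ g)
    (v : Desc.Lifts Y x₀) : (h.datum.φ x₀ x₁ hx v).1 = (h.glue x₀ x₁ hx v).1 := rfl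

/-- Universal families descend along effective descent data. -/
theorem descend (h : IsUniv D (g ≫ β) Y z) [Flat g] [Surjective g] [QuasiCompact g] (U : Over B)
    (e : (Desc.toDD g).obj U ≅ h.datum) : ∃ z₀ : Fam D (U.hom ≫ β), IsUniv D β U z₀ := by
  let q : pullback g U.hom ⟶ Y.left := e.hom.hom.left
  let qi : Y.left ⟶ pullback g U.hom := e.inv.hom.left
  have hq : q ≫ Y.hom = pullback.fst g U.hom := Over.w e.hom.hom
  have hqi : qi ≫ pullback.fst g U.hom = Y.hom := Over.w e.inv.hom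
  have hqq : q ≫ qi = 𝟙 _ := congrArg (fun k => k.hom.left) e.hom_inv_id
  have hqiq : qi ≫ q = 𝟙 Y.left := congrArg (fun k => k.hom.left) e.inv_hom_id
  have hqt : q ≫ Y.hom ≫ g ≫ β = pullback.snd g U.hom ≫ U.hom ≫ β := by
    rw [← Category.assoc, hq, pullback.condition_assoc]
  obtain ⟨z₀, hz₀⟩ := Fam.exists_glue (D := D) (t := U.hom ≫ β)
    (g := fun _ : PUnit.{u + 1} => pullback.snd g U.hom) (isDescFam_fpqc _) (fun _ => rfl)
    (fun _ => z.map q hqt) fun _ _ W a b w ha hb hab => by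
      have hx : (a ≫ pullback.fst g U.hom) ≫ g = (b ≫ pullback.fst g U.hom) ≫ g := by
        simp only [Category.assoc, pullback.condition, reassoc_of% hab]
      have hc := e.hom.comm (a ≫ pullback.fst g U.hom) (b ≫ pullback.fst g U.hom) hx ⟨a, rfl⟩
        ⟨a ≫ q, by rw [Category.assoc]; exact congrArg (a ≫ ·) hq⟩ rfl
      have hcan : (((Desc.toDD g).obj U).φ _ _ hx ⟨a, rfl⟩).1 = b := by
        refine pullback.hom_ext ?_ ?_
        · exact pullback.lift_fst _ _ _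
        · exact (pullback.lift_snd _ _ _).trans hab
      rw [hcan] at hc
      have hqa : (a ≫ q) ≫ Y.hom = a ≫ pullback.fst g U.hom := by rw [Category.assoc, hq]
      have hc' : (h.glue _ _ hx ⟨a ≫ q, hqa⟩).1 = b ≫ q := (h.datum_phi _ _ hx ⟨a ≫ q, hqa⟩).symm.trans hc
      have hw1 : (a ≫ q) ≫ Y.hom ≫ g ≫ β = w := by rw [Category.assoc, hqt, ha]
      have hw2 : (b ≫ q) ≫ Y.hom ≫ g ≫ β = w := by rw [Category.assoc, hqt, hb]
      have hG : (h.glue _ _ hx ⟨a ≫ q, hqa⟩).1 ≫ Y.hom ≫ g ≫ β = w := by rw [hc']; exact hw2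
      refine (Fam.map_map q hqt a ha z).trans (Eq.trans ?_ (Fam.map_map q hqt b hb z).symm)
      exact (h.map_glue _ _ hx ⟨a ≫ q, hqa⟩ hG hw1).symm.trans (Fam.map_congr hc' hG z)
  have hz : z₀.map (pullback.snd g U.hom) rfl = z.map q hqt := hz₀ ⟨⟩
  have hzq : ∀ {T : Scheme.{u}} (a : T ⟶ pullback g U.hom) {t : T ⟶ S}
      (h₁ : (a ≫ q) ≫ Y.hom ≫ g ≫ β = t) (h₂ : (a ≫ pullback.snd g U.hom) ≫ U.hom ≫ β = t),
      z₀.map (a ≫ pullback.snd g U.hom) h₂ = z.map (a ≫ q) h₁ := by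
    intro T a t h₁ h₂
    have h3 : a ≫ pullback.snd g U.hom ≫ U.hom ≫ β = t := by rw [← h₂, Category.assoc]
    rw [← Fam.map_map _ rfl a h3, hz, Fam.map_map]
  have hinj : ∀ (T : Scheme.{u}) (a b : T ⟶ U.left) (t : T ⟶ S) (ha : a ≫ U.hom ≫ β = t)
      (hb : b ≫ U.hom ≫ β = t), a ≫ U.hom = b ≫ U.hom → z₀.map a ha = z₀.map b hb → a = b := by
    intro T a b t ha hb hab he
    let c := pullback.fst (a ≫ U.hom) g
    let r := pullback.snd (a ≫ U.hom) g
    have hcond : c ≫ a ≫ U.hom = r ≫ g := pullback.condition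
    let a' := pullback.lift r (c ≫ a) (by rw [← hcond, Category.assoc])
    let b' := pullback.lift r (c ≫ b)
      (hcond.symm.trans ((congrArg (c ≫ ·) hab).trans (Category.assoc _ _ _).symm))
    have ha' : (a' ≫ q) ≫ Y.hom ≫ g ≫ β = c ≫ t := by
      rw [Category.assoc, hqt, ← ha, pullback.lift_snd_assoc, Category.assoc]
    have hb' : (b' ≫ q) ≫ Y.hom ≫ g ≫ β = c ≫ t := by
      rw [Category.assoc, hqt, ← hb, pullback.lift_snd_assoc, Category.assoc]
    have key : a' ≫ q = b' ≫ q := by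
      refine h.hom_ext _ _ ?_ ha' hb' ?_
      · simp only [Category.assoc, hq, a', b', pullback.lift_fst]
      · rw [← hzq a' ha' (by simp [a', ha]), ← hzq b' hb' (by simp [b', hb]),
          Fam.map_congr (show a' ≫ pullback.snd g U.hom = c ≫ a from pullback.lift_snd _ _ _),
          Fam.map_congr (show b' ≫ pullback.snd g U.hom = c ≫ b from pullback.lift_snd _ _ _),
          ← Fam.map_map a ha c rfl, ← Fam.map_map b hb c rfl, he]
    have key2 : a' = b' := by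
      have := congrArg (· ≫ qi) key
      simpa only [Category.assoc, hqq, Category.comp_id] using this
    rw [← cancel_epi c]
    have := congrArg (· ≫ pullback.snd g U.hom) key2
    simpa [a', b'] using this
  refine ⟨z₀, IsUniv.mk' hinj fun T p w => ?_⟩
  let c := pullback.fst p g
  let r := pullback.snd p g
  have hcond : c ≫ p = r ≫ g := pullback.condition
  obtain ⟨v, hv, hvp, hvw⟩ := h.exists_hom r (t := c ≫ p ≫ β)
    (by rw [← Category.assoc r, ← hcond, Category.assoc]) (w.map c rfl)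
  let y' := (v ≫ qi) ≫ pullback.snd g U.hom
  have hy'U : y' ≫ U.hom = c ≫ p := by
    simp only [y', Category.assoc, ← pullback.condition, reassoc_of% hqi, reassoc_of% hvp, hcond]
  have hy'z : z₀.map y' (t' := c ≫ p ≫ β) (by rw [← Category.assoc, hy'U, Category.assoc]) =
      w.map c rfl := by
    have e1 : (v ≫ qi) ≫ q = v := by rw [Category.assoc, hqiq, Category.comp_id]
    rw [hzq (v ≫ qi) (by rw [e1, hv]) (by rw [← Category.assoc, hy'U, Category.assoc]),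
      Fam.map_congr e1, hvw]
  have hcompat : ∀ {Z : Scheme.{u}} (a b : Z ⟶ pullback p g), a ≫ c = b ≫ c → a ≫ y' = b ≫ y' := by
    intro Z a b hab
    refine hinj Z _ _ (a ≫ c ≫ p ≫ β) (by simp only [Category.assoc]; rw [reassoc_of% hy'U])
      (by simp only [Category.assoc]; rw [reassoc_of% hy'U, reassoc_of% hab])
      (by simp only [Category.assoc, hy'U]; rw [reassoc_of% hab]) ?_
    rw [← Fam.map_map y' (by rw [← Category.assoc, hy'U, Category.assoc]) a rfl,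
      ← Fam.map_map y' (t' := c ≫ p ≫ β) (by rw [← Category.assoc, hy'U, Category.assoc]) b
        (by rw [reassoc_of% hab]), hy'z, Fam.map_map, Fam.map_map]
    exact Fam.map_congr hab _ _
  let y := EffectiveEpi.desc c y' fun a b hab => hcompat a b hab
  have hcy : c ≫ y = y' := EffectiveEpi.fac _ _ _
  have hyU : y ≫ U.hom = p := by rw [← cancel_epi c, reassoc_of% hcy, hy'U]
  refine ⟨y, by rw [← Category.assoc, hyU], hyU, ?_⟩
  refine Fam.ext_desc (g := fun _ : PUnit.{u + 1} => c) (isDescFam_fpqc c) fun _ => ?_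
  rw [Fam.map_map, Fam.map_congr hcy]
  exact hy'z

end IsUniv

/-- A universal family over `S` makes a descent datum effective. -/
theorem isEffective_of_isUniv {Y : Over S} {z : Fam D (Y.hom ≫ 𝟙 S)} (h : IsUniv D (𝟙 S) Y z) :
    D.IsEffective := by
  have hw : ∀ i, pullback.snd (f i) Y.hom ≫ Y.hom ≫ 𝟙 S = pullback.fst (f i) Y.hom ≫ f i := fun i => by
    rw [Category.comp_id, pullback.condition]
  let ψ : ∀ i, Over.mk (pullback.fst (f i) Y.hom) ⟶ D.obj i := fun i =>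
    Over.homMk (z.val (pullback.snd (f i) Y.hom) (pullback.fst (f i) Y.hom) (hw i)) (z.val_hom _ _ _)
  have hψ : ∀ (i : ι) {T : Scheme.{u}} (a : T ⟶ pullback (f i) Y.hom),
      a ≫ (ψ i).left = z.val (a ≫ pullback.snd _ _) (a ≫ pullback.fst _ _)
        (by simp only [Category.assoc, hw]) := fun i T a => z.comp_val _ _ _ _
  have hiso : ∀ i, IsIso (ψ i) := by
    intro i
    let v : Fam D ((D.obj i).hom ≫ f i) := Fam.ofLift rfl ⟨𝟙 _, Category.id_comp _⟩
    obtain ⟨y, hy, hyp, hyv⟩ := h.exists_hom ((D.obj i).hom ≫ f i) (Category.comp_id _) v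
    let χ := pullback.lift (D.obj i).hom y hyp.symm
    have hval : ∀ {T : Scheme.{u}} (a : T ⟶ (D.obj i).left)
        (e : (a ≫ y) ≫ Y.hom ≫ 𝟙 S = (a ≫ (D.obj i).hom) ≫ f i),
        z.val (a ≫ y) (a ≫ (D.obj i).hom) e = a := by
      intro T a e
      have h1 : a ≫ (D.obj i).hom ≫ f i = (a ≫ (D.obj i).hom) ≫ f i := (Category.assoc _ _ _).symm
      rw [← Fam.val_map y hy z a (a ≫ (D.obj i).hom) h1, hyv]
      exact (Fam.val_ofVal _ _ _ _ _ _ _).trans (phi_eq_of_famRel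
        (by rw [Category.comp_id]; exact famRel_refl a) _ _ _ _ rfl)
    have e1 : χ ≫ (ψ i).left = 𝟙 _ := by
      rw [hψ, z.val_congr (pullback.lift_snd _ _ _) (pullback.lift_fst _ _ _)]
      have := hval (𝟙 _) (by simp only [Category.id_comp, Category.comp_id]; exact hyp)
      simpa only [Category.id_comp] using this
    have e2 : (ψ i).left ≫ χ = 𝟙 _ := by
      refine pullback.hom_ext ?_ ?_
      · rw [Category.assoc, pullback.lift_fst, Category.id_comp]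
        exact Over.w (ψ i)
      · rw [Category.assoc, pullback.lift_snd, Category.id_comp]
        refine h.hom_ext _ _ ?_ (t := pullback.fst (f i) Y.hom ≫ f i)
          (by rw [Category.assoc, hy]; simpa using congrArg (· ≫ f i) (Over.w (ψ i))) (hw i) ?_
        · rw [Category.assoc, hyp, ← pullback.condition, ← Category.assoc]
          exact congrArg (· ≫ f i) (Over.w (ψ i))
        · refine (Fam.evEquiv (i := i) (x := pullback.fst (f i) Y.hom) (h := rfl)).injective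
            (Subtype.ext ?_)
          show (Fam.map _ _ _).val _ _ _ = (Fam.map _ _ _).val _ _ _
          rw [Fam.val_map, Fam.val_map]
          refine (z.val_congr (Category.id_comp _) (Over.w (ψ i)).symm _).trans ?_
          refine (hval (ψ i).left _).trans ?_
          exact z.val_congr (Category.id_comp _).symm rfl _
    exact ⟨Over.homMk χ (pullback.lift_fst _ _ _), Over.OverMorphism.ext e2, Over.OverMorphism.ext e1⟩
  have hcomm : ∀ ⦃T : Scheme.{u}⦄ ⦃i j : ι⦄ (x₀ : T ⟶ X i) (x₁ : T ⟶ X j) (hx : x₀ ≫ f i = x₁ ≫ f j)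
      (v : Desc.Lifts ((Desc.canonicalDDFam f Y).obj i) x₀) (w : Desc.Lifts (D.obj i) x₀),
      w.1 = v.1 ≫ (ψ i).left →
      (D.φ x₀ x₁ hx w).1 = ((Desc.canonicalDDFam f Y).φ x₀ x₁ hx v).1 ≫ (ψ j).left := by
    intro T i j x₀ x₁ hx v w hw'
    have hv : v.1 ≫ pullback.fst (f i) Y.hom = x₀ := v.2
    obtain ⟨w, hwx⟩ := w
    subst hw'
    refine phi_eq_of_famRel ?_ _ _ _ _ ?_
    · rw [hψ, hψ]
      have h2 : (((Desc.canonicalDDFam f Y).φ x₀ x₁ hx v).1) ≫ pullback.snd (f j) Y.hom =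
          v.1 ≫ pullback.snd (f i) Y.hom := pullback.lift_snd _ _ _
      rw [z.val_congr h2 rfl]
      exact z.val_rel _ _ _ _ _
    · rw [Category.assoc, Over.w (ψ j)]
      exact pullback.lift_fst _ _ _
  let A : Desc.canonicalDDFam f Y ⟶ D := ⟨ψ, hcomm⟩
  let B : D ⟶ Desc.canonicalDDFam f Y := ⟨fun i => @inv _ _ _ _ (ψ i) (hiso i), by
    intro T i j x₀ x₁ hx v w hw'
    haveI := hiso i; haveI := hiso j
    haveI : IsIso (ψ j).left := inferInstanceAs (IsIso ((Over.forget _).map (ψ j)))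
    have hc := hcomm x₀ x₁ hx w v (by
      rw [hw', Category.assoc, ← Over.comp_left, IsIso.inv_hom_id, Over.id_left, Category.comp_id])
    rw [← cancel_mono (ψ j).left, ← hc, Category.assoc, ← Over.comp_left, IsIso.inv_hom_id, Over.id_left]
    exact (Category.comp_id _).symm⟩
  exact ⟨Y, ⟨⟨A, B, Desc.SchDDFam.hom_ext (funext fun i => @IsIso.hom_inv_id _ _ _ _ (ψ i) (hiso i)),
    Desc.SchDDFam.hom_ext (funext fun i => @IsIso.inv_hom_id _ _ _ _ (ψ i) (hiso i))⟩⟩⟩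

/-- Effectivity of descent data for fpqc families follows from the case of affine schemes. -/
theorem isEffective_of_affine_case (P : MorphismProperty Scheme.{u}) [P.IsStableUnderBaseChange]
    (h2 : ∀ (m : ℕ) (Y V : Fin m → Scheme.{u}) (q : ∀ j, Y j ⟶ V j), (∀ j, P (q j)) → P (Limits.Sigma.map q))
    (h3 : ∀ (X S : Scheme.{u}) (p : X ⟶ S), IsAffine X → IsAffine S → Flat p → Surjective p →
      ∀ D : Desc.SchDD p, P D.obj.hom → ∃ U : Over S, Nonempty ((Desc.toDD p).obj U ≅ D))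
    (hf : Presieve.ofArrows X f ∈ Scheme.fpqcPrecoverage S) (D : Desc.SchDDFam f)
    (hD : ∀ i, P (D.obj i).hom) : D.IsEffective := by
  suffices ∃ (Y : Over S) (z : Fam D (Y.hom ≫ 𝟙 S)), IsUniv D (𝟙 S) Y z by
    obtain ⟨Y, z, h⟩ := this
    exact isEffective_of_isUniv h
  refine exists_isUniv_of_openCover (𝟙 S) (Scheme.openCoverOfIsOpenCover S (fun U : S.affineOpens => U.1)
    (TopologicalSpace.IsOpenCover.mk (iSup_affineOpens_eq_top S))) fun U => ?_
  show ∃ (Y : Over U.1.toScheme) (z : Fam D (Y.hom ≫ U.1.ι ≫ 𝟙 S)), IsUniv D (U.1.ι ≫ 𝟙 S) Y z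
  rw [Category.comp_id]
  obtain ⟨n, c, V, hV, k, hk, hks⟩ := GrpdLib.FamDescent.exists_finite_cover hf U
  let V' : Fin n → Scheme.{u} := fun m => (V m).toScheme
  haveI : IsAffine U.1.toScheme := U.2
  haveI : ∀ m, IsAffine (V' m) := hV
  let g : (∐ V') ⟶ U.1.toScheme := Sigma.desc k
  haveI : Flat g := IsZariskiLocalAtSource.sigmaDesc fun m => hks.flat m
  haveI : Surjective g := ⟨fun x => by
    obtain ⟨m, q, hq⟩ := hks.surj x
    exact ⟨Sigma.ι V' m q, by rw [← Scheme.Hom.comp_apply, Sigma.ι_desc]; exact hq⟩⟩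
  haveI : IsAffine (∐ V') := inferInstance
  -- universal families over the members of the cover
  have hm : ∀ (m : Fin n) (β' : V' m ⟶ S), β' = (V m).ι ≫ f (c m) →
      ∃ (Y : Over (V' m)) (z : Fam D (Y.hom ≫ β')), IsUniv D β' Y z ∧ P Y.hom := by
    rintro m _ rfl
    exact ⟨_, _, (isUniv_member D (c m)).baseChange (V m).ι, MorphismProperty.pullback_snd _ _ (hD (c m))⟩
  obtain ⟨Y, z, hY⟩ : ∃ (Y : Over (∐ V')) (z : Fam D (Y.hom ≫ g ≫ U.1.ι)), IsUniv D (g ≫ U.1.ι) Y z := by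
    refine exists_isUniv_of_openCover _ ((sigmaOpenCover V').ulift) fun x => ?_
    obtain ⟨Y, z, h, -⟩ := hm _ (((sigmaOpenCover V').ulift).f x ≫ g ≫ U.1.ι) (by
      show Sigma.ι V' _ ≫ g ≫ U.1.ι = _
      simp [g, hk])
    exact ⟨Y, z, h⟩
  have hP : P Y.hom := by
    have hPm : ∀ m : Fin n, P (pullback.snd Y.hom (Sigma.ι V' m)) := by
      intro m
      obtain ⟨Ym, zm, hYm, hPm⟩ := hm m (Sigma.ι V' m ≫ g ≫ U.1.ι) (by simp [g, hk])
      obtain ⟨e⟩ := hYm.exists_iso (hY.baseChange (Sigma.ι V' m))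
      exact (P.arrow_mk_iso_iff (Arrow.isoMk ((Over.forget _).mapIso e) (Iso.refl _)
        (by simpa using Over.w e.hom))).1 hPm
    haveI : IsIso (Sigma.desc fun m => pullback.fst Y.hom (Sigma.ι V' m)) :=
      FinitaryPreExtensive.isIso_sigmaDesc_fst (fun m => Sigma.ι V' m) Y.hom
        (by
          rw [show Sigma.desc (fun m => Sigma.ι V' m) = 𝟙 _ from Sigma.hom_ext _ _ fun m => by simp]
          infer_instance)
    refine (P.arrow_mk_iso_iff (Arrow.isoMk (asIso (Sigma.desc fun m => pullback.fst Y.hom (Sigma.ι V' m)))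
      (Iso.refl _) ?_)).1 (h2 n _ _ (fun m => pullback.snd Y.hom (Sigma.ι V' m)) hPm)
    refine Sigma.hom_ext _ _ fun m => ?_
    simp [pullback.condition]
  obtain ⟨U', ⟨e⟩⟩ := h3 _ _ g inferInstance inferInstance inferInstance inferInstance hY.datum hP
  obtain ⟨z₀, hz₀⟩ := hY.descend U' e
  exact ⟨U', z₀, hz₀⟩

end Groth.Agent.Desc44
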