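import Groth.Agent.Desc44.RegSection
import Groth.Agent.Omega.ConormalZero
import Groth.Agent.KReg44.Ideal
import Groth.Agent.AssSch.Stalk
import Groth.Prelude.Def_RegImm

/-!
# The conormal sheaf of an intersection of completely intersecting immersions
-/

set_option autoImplicit false
set_option backward.isDefEq.respectTransparency false
set_option backward.isDefEq.respectTransparency.types false

universe u

open CategoryTheory CategoryTheory.Limits AlgebraicGeometry TopologicalSpace Opposite
open Groth.Agent.PullStalk.Sky Groth.Agent.PullStalk.Exact Groth.Agent.PullStalk.Basic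
open Groth.Agent.Omega.Stalks OmegaSh

noncomputable section

namespace Groth.Agent.Desc44.IntersectConormal

/-- As many generators as a quasi-regular sequence are quasi-regular in degree one. -/
theorem qr_one_of_span_eq {A : Type u} [CommRing A] {n : ℕ} {f g : Fin n → A} (hg : CAlgX.IsQuasiRegular g)
    (h : Ideal.span (Set.range f) = Ideal.span (Set.range g)) (c : Fin n → A)
    (hc : ∑ i, c i * f i ∈ Ideal.span (Set.range f) * Ideal.span (Set.range f)) (i : Fin n) :
    c i ∈ Ideal.span (Set.range f) := by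
  classical
  rw [h] at hc ⊢
  set J := Ideal.span (Set.range g)
  have q1 : ∀ v : Fin n → A, ∑ j, v j * g j ∈ J * J → ∀ j, v j ∈ J := by
    intro v hv j
    have := hg 1 (∑ l, MvPolynomial.C (v l) * MvPolynomial.X l)
      (MvPolynomial.IsHomogeneous.sum _ _ _ fun l _ => (MvPolynomial.isHomogeneous_X _ l).C_mul _)
      (by simpa [pow_two] using hv) (Finsupp.single j 1)
    simpa [MvPolynomial.coeff_sum, MvPolynomial.coeff_X, Finsupp.single_eq_single_iff] using this
  choose M hM using fun i => Ideal.mem_span_range_iff_exists_fun.1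
    (h.le (Ideal.subset_span ⟨i, rfl⟩ : f i ∈ Ideal.span (Set.range f)))
  choose N hN using fun i => Ideal.mem_span_range_iff_exists_fun.1
    (h.ge (Ideal.subset_span ⟨i, rfl⟩ : g i ∈ Ideal.span (Set.range g)))
  let π := Ideal.Quotient.mk J
  have hNM : ((Matrix.of N) * (Matrix.of M)).map π = 1 := by
    ext a b
    have h0 : ∑ j, ((Matrix.of N * Matrix.of M) a j - (1 : Matrix (Fin n) (Fin n) A) a j) * g j = 0 := by
      simp only [sub_mul, Finset.sum_sub_distrib, Matrix.mul_apply, Matrix.of_apply, Matrix.one_apply,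
        ite_mul, one_mul, zero_mul, Finset.sum_ite_eq, Finset.mem_univ, if_true, Finset.sum_mul, mul_assoc]
      rw [Finset.sum_comm]
      simp only [← Finset.mul_sum, hM, hN, sub_self]
    have := q1 _ (h0 ▸ zero_mem _) b
    rw [← Ideal.Quotient.eq_zero_iff_mem, map_sub, sub_eq_zero] at this
    refine this.trans ?_
    by_cases hab : a = b <;> simp [Matrix.one_apply, hab]
  have hMN : (Matrix.of M).map π * (Matrix.of N).map π = 1 := by
    rw [mul_eq_one_comm, ← Matrix.map_mul]
    exact hNM
  have hcM : ∀ j, (Matrix.vecMul (fun a => π (c a)) ((Matrix.of M).map π)) j = 0 := by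
    intro j
    have h1 : ∑ j, (∑ a, c a * M a j) * g j ∈ J * J := by
      convert hc using 1
      simp only [Finset.sum_mul, mul_assoc]
      rw [Finset.sum_comm]
      simp only [← Finset.mul_sum, hM]
    have := Ideal.Quotient.eq_zero_iff_mem.2 (q1 _ h1 j)
    rw [map_sum] at this
    simpa [Matrix.vecMul, dotProduct, π] using this
  have : (fun a => π (c a)) = 0 := by
    rw [← Matrix.vecMul_one (fun a => π (c a)), ← hMN, ← Matrix.vecMul_vecMul, funext hcM]
    exact Matrix.zero_vecMul _
  exact Ideal.Quotient.eq_zero_iff_mem.1 (congrFun this i)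

variable {X Y : Scheme.{u}}

/-- The kernel on local rings of a closed immersion on an affine chart. -/
theorem ker_stalkMap (j : Y ⟶ X) [IsClosedImmersion j] {U : X.Opens} (hU : IsAffineOpen U) (z : Y) (hz : j z ∈ U) :
    RingHom.ker (j.stalkMap z).hom = (RingHom.ker (j.app U).hom).map (X.presheaf.germ U (j z) hz).hom := by
  have : IsAffine U.toScheme := hU
  obtain ⟨hV, hsurj⟩ := IsClosedImmersion.isAffine_surjective_of_isAffine (f := j ∣_ U)
  refine Omega.ConormalZero.ker_stalkMap_eq j hU hV hz ?_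
  rw [Scheme.Hom.app_eq_appLE]
  rw [← Scheme.Hom.resLE_eq_morphismRestrict] at hsurj
  exact ((MorphismProperty.surjective CommRingCat).arrow_mk_iso_iff
    (arrowResLEAppIso j U (j ⁻¹ᵁ U) le_rfl)).1 hsurj

/-- Sections generating the ideal of a closed immersion on an affine chart generate its stalks. -/
theorem exists_gen (j : Y ⟶ X) [IsClosedImmersion j] {U : X.Opens} (hU : IsAffineOpen U) {d : ℕ}
    (s : Fin d → Γ(ClSub.idealMod j.ker, U))
    (hgen : RingHom.ker (j.app U).hom = Ideal.span (Set.range fun k => idealSect j.ker U (s k)))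
    (z : Y) (x : X) (hzx : j z = x) (hxU : x ∈ U) (a : (ClSub.idealMod j.ker).presheaf.stalk x) :
    (∃ c : Fin d → X.presheaf.stalk x, ∑ k, c k • germM (ClSub.idealMod j.ker) U x hxU (s k) = a) ∧
    ∀ W (hxW : x ∈ W) (r : Γ(X, W)), j.app W r = 0 →
      X.presheaf.germ W x hxW r ∈
        Ideal.span (Set.range fun k => X.presheaf.germ U x hxU (idealSect j.ker U (s k))) := by
  subst hzx
  have hk : RingHom.ker (j.stalkMap z).hom =
      Ideal.span (Set.range fun k => X.presheaf.germ U (j z) hxU (idealSect j.ker U (s k))) := by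
    rw [ker_stalkMap j hU z hxU, hgen, Ideal.map_span, ← Set.range_comp]; rfl
  refine ⟨?_, fun W hxW r hr => ?_⟩
  · have ha : idealStalk j.ker (j z) a ∈ RingHom.ker (j.stalkMap z).hom :=
      (range_idealStalk j j.isClosedEmbedding.isInducing z).le ⟨a, rfl⟩
    rw [hk] at ha
    obtain ⟨c, hc⟩ := Ideal.mem_span_range_iff_exists_fun.1 ha
    refine ⟨c, idealStalk_injective j.ker (j z) ?_⟩
    simp only [map_sum, map_smul, idealStalk_germ, smul_eq_mul, hc]
  · rw [← hk, RingHom.mem_ker]
    exact (Scheme.Hom.germ_stalkMap_apply j W z hxW r).trans (by rw [hr, map_zero])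

theorem stalkLin_sum {M N : X.Modules} {ι : Type*} (s : Finset ι) (φ : ι → (M ⟶ N)) (x : X)
    (a : M.presheaf.stalk x) : stalkLin (∑ l ∈ s, φ l) x a = ∑ l ∈ s, stalkLin (φ l) x a := by
  classical
  obtain ⟨U, hx, m, rfl⟩ := exists_germM_eq M x a
  induction s using Finset.induction_on with
  | empty => simp [Omega.Stalks.stalkLin_zero]
  | @insert l s hl ih =>
    rw [Finset.sum_insert hl, Finset.sum_insert hl, ← ih, stalkLin_germ, stalkLin_germ, stalkLin_germ]
    exact map_add (N.presheaf.germ U x hx).hom _ _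

theorem idealModι_toSubscheme {Z : Scheme.{u}} (j : Z ⟶ X) [QuasiCompact j] (i : Y ⟶ X) [QuasiCompact i]
    (g : Y ⟶ Z) (h : g ≫ j = i) : ClSub.idealModι j.ker ≫ ClSub.toSubscheme i.ker = 0 := by
  subst h
  refine Scheme.Modules.hom_ext _ _ fun V => ?_
  ext s
  refine (toSubscheme_eq_zero_iff (g ≫ j) V (idealSect j.ker V s)).2 ?_
  exact (congrArg (g.app _) (app_idealSect j V s)).trans (map_zero _)

/-- The conormal sheaf of a completely intersecting intersection is the sum of the conormal sheaves. -/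
theorem exists_iso (r : ℕ) (Xs : Fin r → Scheme.{u}) (j : ∀ l, Xs l ⟶ X) [∀ l, IsClosedImmersion (j l)]
    (d : Fin r → ℕ) (hj : ∀ l, RegImm.IsRegularImmersionOfCodim RegImm.Kind.koszul (d l) (j l))
    (i : Y ⟶ X) [IsClosedImmersion i]
    (hY : ∀ U : X.affineOpens, i.ker.ideal U = ⨆ l, (j l).ker.ideal U)
    (g : ∀ l, Y ⟶ Xs l) (hg : ∀ l, g l ≫ j l = i)
    (hi : RegImm.IsRegularImmersionOfCodim RegImm.Kind.koszul (∑ l, d l) i) :
    Nonempty (Omega.conormal i ≅ ∐ fun l => (Scheme.Modules.pullback (g l)).obj (Omega.conormal (j l))) := by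
  classical
  let M : Fin r → X.Modules := fun l => ClSub.idealMod (j l).ker
  have hzero : ∀ l, ClSub.idealModι (j l).ker ≫ ClSub.toSubscheme i.ker = 0 := fun l =>
    idealModι_toSubscheme (j l) i (g l) (hg l)
  have : HasFiniteBiproducts X.Modules := HasFiniteBiproducts.of_hasFiniteProducts
  let φ : ∀ l, M l ⟶ ClSub.idealMod i.ker := fun l =>
    kernel.lift (ClSub.toSubscheme i.ker) (ClSub.idealModι (j l).ker) (hzero l)
  let t : ⨁ M ⟶ ClSub.idealMod i.ker := biproduct.desc φ
  have key : ∀ y, Function.Bijective (stalkLin ((Scheme.Modules.pullback i).map t) y) := by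
    intro y
    have hpt : ∀ l, j l (g l y) = i y := fun l => by rw [← Scheme.Hom.comp_apply, hg]
    have H : ∀ l, ∃ (U : X.affineOpens) (_ : i y ∈ U.1) (s : Fin (d l) → Γ(M l, U.1)),
        RingHom.ker ((j l).app U.1).hom = Ideal.span (Set.range fun k => idealSect (j l).ker U.1 (s k)) := by
      intro l
      obtain ⟨U, hzU, -, rs, hlen, -, hker⟩ := (hj l).2 (g l y)
      have hmem : ∀ k : Fin (d l), ∃ s, idealSect (j l).ker U.1 s = rs.get (k.cast hlen.symm) := fun k =>
        exists_idealSect_eq (j l) U.1 _ (RingHom.mem_ker.1 (hker.ge (Ideal.subset_span (List.get_mem _ _))))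
      choose s hs using hmem
      refine ⟨U, hpt l ▸ hzU, s, hker.trans ?_⟩
      simp only [hs]
      refine le_antisymm (Ideal.span_le.2 fun a ha => ?_) (Ideal.span_le.2 ?_)
      · obtain ⟨k, rfl⟩ := List.mem_iff_get.1 ha
        exact Ideal.subset_span ⟨k.cast hlen, rfl⟩
      · rintro _ ⟨k, rfl⟩
        exact Ideal.subset_span (List.get_mem _ _)
    choose U hyU s hs using H
    let e := finSigmaFinEquiv (n := d)
    let τ' : (Σ l, Fin (d l)) → (⨁ M).presheaf.stalk (i y) := fun p =>
      stalkLin (biproduct.ι M p.1) (i y) (germM (M p.1) (U p.1).1 (i y) (hyU p.1) (s p.1 p.2))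
    let f' : (Σ l, Fin (d l)) → X.presheaf.stalk (i y) := fun p =>
      X.presheaf.germ (U p.1).1 (i y) (hyU p.1) (idealSect (j p.1).ker (U p.1).1 (s p.1 p.2))
    let f : Fin (∑ l, d l) → X.presheaf.stalk (i y) := fun n => f' (e.symm n)
    have hτ : ∀ a, ∃ c : Fin (∑ l, d l) → X.presheaf.stalk (i y), ∑ n, c n • τ' (e.symm n) = a := by
      intro a
      choose c hc using fun l => (exists_gen (j l) (U l).2 (s l) (hs l) (g l y) (i y) (hpt l) (hyU l)
        (stalkLin (biproduct.π M l) (i y) a)).1
      refine ⟨fun n => c (e.symm n).1 (e.symm n).2, ?_⟩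
      rw [e.symm.sum_comp (fun p => c p.1 p.2 • τ' p), Fintype.sum_sigma]
      have h1 : a = ∑ l, stalkLin (biproduct.ι M l) (i y) (stalkLin (biproduct.π M l) (i y) a) := by
        simp only [← stalkLin_comp, ← stalkLin_sum, biproduct.total]
        obtain ⟨V, hV, m, rfl⟩ := exists_germM_eq _ (i y) a
        exact (stalkLin_germ (𝟙 (⨁ M)) V (i y) hV m).symm
      refine Eq.trans (Finset.sum_congr rfl fun l _ => ?_) h1.symm
      rw [← hc l]
      simp only [map_sum, map_smul, τ']
      rfl
    have hf : ∀ n, idealStalk i.ker (i y) (stalkLin t (i y) (τ' (e.symm n))) = f n := by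
      intro n
      simp only [τ', t]
      rw [← stalkLin_comp, biproduct.ι_desc, stalkLin_germ, idealStalk_germ]
      exact congrArg (X.presheaf.germ (U (e.symm n).1).1 (i y) (hyU _))
        (congrArg (fun ψ => Scheme.Modules.Hom.app ψ (U (e.symm n).1).1 (s _ (e.symm n).2))
          (kernel.lift_ι (ClSub.toSubscheme i.ker) _ (hzero _)))
    obtain ⟨W, hyW, -, rs, hlen, hreg, hker⟩ := hi.2 y
    let q : Fin (∑ l, d l) → X.presheaf.stalk (i y) := fun n =>
      X.presheaf.germ W.1 (i y) hyW (rs.get (n.cast hlen.symm))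
    have hkq : RingHom.ker (i.stalkMap y).hom = Ideal.span (Set.range q) := by
      rw [ker_stalkMap i W.2 y hyW, hker, Ideal.map_ofList, Ideal.ofList]
      congr 1
      ext a
      simp only [Set.mem_setOf_eq, List.mem_map, Set.mem_range, q]
      constructor
      · rintro ⟨b, hb, rfl⟩
        obtain ⟨k, rfl⟩ := List.mem_iff_get.1 hb
        exact ⟨k.cast hlen, rfl⟩
      · rintro ⟨k, rfl⟩
        exact ⟨_, List.get_mem _ _, rfl⟩
    have hkf : RingHom.ker (i.stalkMap y).hom = Ideal.span (Set.range f) := by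
      refine le_antisymm ?_ (Ideal.span_le.2 ?_)
      · rw [ker_stalkMap i W.2 y hyW, ← Scheme.Hom.ker_apply i W, hY W, Ideal.map_iSup]
        refine iSup_le fun l => ?_
        rw [Scheme.Hom.ker_apply, Ideal.map_le_iff_le_comap]
        intro r hr
        refine Ideal.span_mono ?_ ((exists_gen (j l) (U l).2 (s l) (hs l) (g l y) (i y) (hpt l) (hyU l) 0).2
          W.1 hyW r hr)
        rintro _ ⟨k, rfl⟩
        exact ⟨e ⟨l, k⟩, by show f' (e.symm (e ⟨l, k⟩)) = _; rw [e.symm_apply_apply]⟩
      · rintro _ ⟨n, rfl⟩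
        exact (range_idealStalk i i.isClosedEmbedding.isInducing y).le ⟨_, hf n⟩
    have hq : CAlgX.IsQuasiRegular q := by
      refine KReg44.isQuasiRegular q ?_
      let _ : Algebra Γ(X, W.1) (X.presheaf.stalk (i y)) := (X.presheaf.germ W.1 (i y) hyW).hom.toAlgebra
      have : IsLocalization (AssSch.Stalk.primeOf W.2 (i y) hyW).primeCompl (X.presheaf.stalk (i y)) :=
        W.2.isLocalization_stalk ⟨i y, hyW⟩
      have hflat : (algebraMap Γ(X, W.1) (X.presheaf.stalk (i y))).Flat :=
        RingHom.flat_algebraMap_iff.2 (IsLocalization.flat _ (AssSch.Stalk.primeOf W.2 (i y) hyW).primeCompl)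
      have hl : rs.map (algebraMap Γ(X, W.1) (X.presheaf.stalk (i y))) = List.ofFn q := by
        refine List.ext_get (by simp [hlen]) fun n h1 h2 => ?_
        simp [q]; rfl
      exact hl ▸ KReg44.isKoszulRegularSeq_map _ hflat hreg
    exact RegSection.bijective_stalk_pullback_map i t y _ hτ f hf hkf
      fun c hc n => qr_one_of_span_eq hq (hkf.symm.trans hkq) c hc n
  have : IsIso ((Scheme.Modules.pullback i).map t) := isIso_of_stalk key
  have : PreservesColimitsOfSize.{0, 0} (Scheme.Modules.pullback i) :=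
    (Scheme.Modules.pullbackPushforwardAdjunction i).leftAdjoint_preservesColimits
  exact ⟨(asIso ((Scheme.Modules.pullback i).map t)).symm ≪≫
    (Scheme.Modules.pullback i).mapIso (biproduct.isoCoproduct M) ≪≫
    PreservesCoproduct.iso (Scheme.Modules.pullback i) M ≪≫
    Sigma.mapIso fun l => (Scheme.Modules.pullbackCongr (hg l).symm).app (M l) ≪≫
      ((Scheme.Modules.pullbackComp (g l) (j l)).app (M l)).symm⟩

end Groth.Agent.Desc44.IntersectConormal
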