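import Groth.Agent.KFlat.LTensorMod
import Groth.Agent.KFlat.LpullComp
import Groth.Agent.KFlat.ProjFormulaClosed
import Groth.Agent.KFlat.TensorLocFree
import Groth.Agent.KFlat.FlatPull
import Groth.Agent.KFlat.PullTensor
import Groth.Agent.AlgSpB.FieldPoints
import Groth.Agent.ProjTwist.Invertible
import Groth.Agent.S12131

/-!
# Derived intersection of two closed subschemes through the diagonal
-/

set_option autoImplicit false
set_option backward.isDefEq.respectTransparency false
set_option backward.isDefEq.respectTransparency.types false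

universe u

open CategoryTheory CategoryTheory.Limits AlgebraicGeometry
open Groth.Agent.KFlat Groth.Agent.KFlat.Pull Groth.Agent.KFlat.ProjFormulaClosed Groth.Agent.KFlat.WeakKInj

attribute [local instance] HasDerivedCategory.standard

namespace Groth.Agent.Desc44.BoxTor

/-- Every morphism to the spectrum of a field is flat. -/
theorem flat_of_field {K : Type u} [Field K] {Y : Scheme.{u}} (g : Y ⟶ Spec (.of K)) : Flat g :=
  (IsZariskiLocalAtSource.iff_of_openCover (P := @Flat) Y.affineCover).2 fun i =>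
    AlgSpB.flat_of_field (Y.affineCover.f i ≫ g)

section

variable {X Y : Scheme.{u}}

/-- The structure module is tensor-flat. -/
theorem tensorMono_structureModule (X : Scheme.{u}) :
    TensorMono (O := X.sheaf) (Coh.structureModule X) :=
  have : (𝟭 X.Modules).PreservesMonomorphisms := ⟨fun _ h => h⟩
  Functor.preservesMonomorphisms.of_iso (ProjFormula.unitRight X).symm

/-- A composite of inverse images along morphisms composing to the identity. -/
noncomputable def pullCxRetract (a : X ⟶ Y) (b : Y ⟶ X) (h : a ≫ b = 𝟙 X) (P : CochainComplex X.Modules ℤ) :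
    (pullCx a).obj ((pullCx b).obj P) ≅ P :=
  (pullCxComp a b).app P ≪≫
    (NatIso.mapHomologicalComplex (Scheme.Modules.pullbackCongr h ≪≫ Scheme.Modules.pullbackId X)
      (ComplexShape.up ℤ)).app P ≪≫
    (Functor.mapHomologicalComplexIdIso _ _).app P

/-- `M[0]` is represented by its K-flat resolution. -/
noncomputable def inDResIso (M : X.Modules) :
    DCoh.inD X M ≅ DerivedCategory.Q.obj
      ((resY X).obj ((HomologicalComplex.single X.Modules (ComplexShape.up ℤ) 0).obj M)) :=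
  have := quasiIso_resYπ (Y := X) ((HomologicalComplex.single X.Modules (ComplexShape.up ℤ) 0).obj M)
  (DerivedCategory.singleFunctorIsoCompQ X.Modules 0).app M ≪≫
    (asIso (DerivedCategory.Q.map
      ((resYπ X).app ((HomologicalComplex.single X.Modules (ComplexShape.up ℤ) 0).obj M)))).symm

/-- `O[0] ⊗ N[0] ≅ N[0]`. -/
noncomputable def unitSingleTensorIso (N : X.Modules) :
    (DCoh.tensorCx.obj ((HomologicalComplex.single X.Modules (ComplexShape.up ℤ) 0).obj (Coh.structureModule X))).obj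
        ((HomologicalComplex.single X.Modules (ComplexShape.up ℤ) 0).obj N) ≅
      (HomologicalComplex.single X.Modules (ComplexShape.up ℤ) 0).obj N :=
  ((totSingleCxIso (DCoh.tensorBi (X := X)) N).app _).symm ≪≫
    (HomologicalComplex.singleMapHomologicalComplex ((DCoh.tensorBi (X := X)).flip.obj N) (ComplexShape.up ℤ) 0).app
      (Coh.structureModule X) ≪≫
    (HomologicalComplex.single X.Modules (ComplexShape.up ℤ) 0).mapIso (TensorLocFree.unitTensorIso N)

theorem quasiIso_tensorCx_left {P : CochainComplex X.Modules ℤ} (hP : DCoh.IsKFlat P)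
    {F G : CochainComplex X.Modules ℤ} (s : F ⟶ G) [QuasiIso s] :
    IsIso (DerivedCategory.Q.map ((DCoh.tensorCx.map s).app P)) :=
  have : QuasiIso ((DCoh.tensorCx.map s).app P) := quasiIso_tens_flip (O := X.sheaf) hP s
  inferInstance

theorem quasiIso_tensorCx_right {P : CochainComplex X.Modules ℤ} (hP : DCoh.IsKFlat P)
    {F G : CochainComplex X.Modules ℤ} (s : F ⟶ G) [QuasiIso s] :
    IsIso (DerivedCategory.Q.map ((DCoh.tensorCx.obj P).map s)) :=
  have : QuasiIso ((DCoh.tensorCx.obj P).map s) := quasiIso_tens_obj (O := X.sheaf) hP s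
  inferInstance

theorem quasiIso_tensorCx_obj {P : CochainComplex X.Modules ℤ} (hP : DCoh.IsKFlat P)
    {F G : CochainComplex X.Modules ℤ} (s : F ⟶ G) [QuasiIso s] :
    QuasiIso ((DCoh.tensorCx.obj P).map s) :=
  quasiIso_tens_obj (O := X.sheaf) hP s

theorem quasiIso_pullCx_flat (f : X ⟶ Y) [Flat f] {F G : CochainComplex Y.Modules ℤ} (s : F ⟶ G) [QuasiIso s] :
    QuasiIso ((pullCx f).map s) := by
  exact inferInstanceAs (QuasiIso (((Scheme.Modules.pullback f).mapHomologicalComplex (ComplexShape.up ℤ)).map s))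

theorem quasiIso_pushCx_closed (f : X ⟶ Y) [IsClosedImmersion f] {F G : CochainComplex X.Modules ℤ} (s : F ⟶ G)
    [QuasiIso s] : QuasiIso ((pushCx f).map s) := by
  exact inferInstanceAs (QuasiIso (((Scheme.Modules.pushforward f).mapHomologicalComplex (ComplexShape.up ℤ)).map s))

/-- Base change of `i_* O` along a closed immersion `i`. -/
theorem exists_pullback_pushforward_unit {X' S' : Scheme.{u}} (i : X ⟶ Y) (g : S' ⟶ Y) (g' : X' ⟶ X)
    (i' : X' ⟶ S') (h : IsPullback g' i' i g) [IsClosedImmersion i] :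
    Nonempty ((Scheme.Modules.pullback g).obj ((Scheme.Modules.pushforward i).obj (Coh.structureModule X)) ≅
      (Scheme.Modules.pushforward i').obj (Coh.structureModule X')) :=
  have : Coh.IsQCoh (Coh.structureModule X) := ProjTwist.isQuasicoherent_structureModule X
  have := S12131.result i g g' i' h (Coh.structureModule X)
  ⟨@asIso _ _ _ _ _ this ≪≫ (Scheme.Modules.pushforward i').mapIso (QCoh.pullbackUnitIso g')⟩

end

section

variable {X : Scheme.{u}}

local notation "S₀" X => HomologicalComplex.single (Scheme.Modules X) (ComplexShape.up ℤ) 0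

/-- The exterior product of K-flat resolutions represents the direct image of the structure module of the
fibred product of two closed subschemes. -/
theorem exists_box_iso {Z W V : Scheme.{u}} (p₁ p₂ : Z ⟶ X) [Flat p₁] (j : W ⟶ Z) [IsClosedImmersion j]
    (q : W ⟶ X) [Flat q] (hq : j ≫ p₂ = q) (r : V ⟶ W) (c : V ⟶ Z) (hc : r ≫ j = c)
    {M₁ M₂ : X.Modules} (b₁ : (Scheme.Modules.pullback p₁).obj M₁ ≅
      (Scheme.Modules.pushforward j).obj (Coh.structureModule W))
    (b₂ : (Scheme.Modules.pullback q).obj M₂ ≅ (Scheme.Modules.pushforward r).obj (Coh.structureModule V))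
    {P₁ P₂ : CochainComplex X.Modules ℤ} (π₁ : P₁ ⟶ (S₀ X).obj M₁) [QuasiIso π₁]
    (π₂ : P₂ ⟶ (S₀ X).obj M₂) [QuasiIso π₂] (hP₂ : DCoh.IsKFlat P₂) :
    Nonempty (DCoh.inD Z ((Scheme.Modules.pushforward c).obj (Coh.structureModule V)) ≅
      DerivedCategory.Q.obj ((DCoh.tensorCx.obj ((pullCx p₁).obj P₁)).obj ((pullCx p₂).obj P₂))) := by
  let B := (pullCx p₂).obj P₂
  have hB : DCoh.IsKFlat B := isKFlat_pullCx p₂ hP₂
  have : QuasiIso ((pullCx p₁).map π₁) := quasiIso_pullCx_flat p₁ π₁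
  have : IsIso (DerivedCategory.Q.map ((DCoh.tensorCx.map ((pullCx p₁).map π₁)).app B)) :=
    quasiIso_tensorCx_left hB _
  let OW := (S₀ W).obj (Coh.structureModule W)
  let eA : (pullCx p₁).obj ((S₀ X).obj M₁) ≅ (pushCx j).obj OW :=
    (HomologicalComplex.singleMapHomologicalComplex (Scheme.Modules.pullback p₁) (ComplexShape.up ℤ) 0).app M₁ ≪≫
      (S₀ Z).mapIso b₁ ≪≫
      ((HomologicalComplex.singleMapHomologicalComplex (Scheme.Modules.pushforward j) (ComplexShape.up ℤ) 0).app
        (Coh.structureModule W)).symm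
  let eB : (pullCx j).obj B ≅ (pullCx q).obj P₂ :=
    (pullCxComp j p₂).app P₂ ≪≫
      (NatIso.mapHomologicalComplex (Scheme.Modules.pullbackCongr hq) (ComplexShape.up ℤ)).app P₂
  have hOW : DCoh.IsKFlat OW := isKFlat_single (O := W.sheaf) (tensorMono_structureModule W) 0
  have : QuasiIso ((pullCx q).map π₂) := quasiIso_pullCx_flat q π₂
  have : QuasiIso ((DCoh.tensorCx.obj OW).map ((pullCx q).map π₂)) := quasiIso_tensorCx_obj hOW _
  let g := (DCoh.tensorCx.obj OW).map eB.hom ≫ (DCoh.tensorCx.obj OW).map ((pullCx q).map π₂)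
  have : QuasiIso ((pushCx j).map g) := quasiIso_pushCx_closed j g
  let eD : (pushCx j).obj ((DCoh.tensorCx.obj OW).obj ((pullCx q).obj ((S₀ X).obj M₂))) ≅
      (S₀ Z).obj ((Scheme.Modules.pushforward c).obj (Coh.structureModule V)) :=
    (pushCx j).mapIso ((DCoh.tensorCx.obj OW).mapIso
        ((HomologicalComplex.singleMapHomologicalComplex (Scheme.Modules.pullback q) (ComplexShape.up ℤ) 0).app M₂) ≪≫
      unitSingleTensorIso _ ≪≫ (S₀ W).mapIso b₂) ≪≫
      (HomologicalComplex.singleMapHomologicalComplex (Scheme.Modules.pushforward j) (ComplexShape.up ℤ) 0).app _ ≪≫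
      (S₀ Z).mapIso ((Scheme.Modules.pushforwardComp r j).app _ ≪≫ (Scheme.Modules.pushforwardCongr hc).app _)
  exact ⟨(asIso (DerivedCategory.Q.map ((DCoh.tensorCx.map ((pullCx p₁).map π₁)).app B)) ≪≫
    DerivedCategory.Q.mapIso ((DCoh.tensorCx.flip.obj B).mapIso eA ≪≫ cxIso j OW B) ≪≫
    asIso (DerivedCategory.Q.map ((pushCx j).map g)) ≪≫
    DerivedCategory.Q.mapIso eD ≪≫
    ((DerivedCategory.singleFunctorIsoCompQ Z.Modules 0).app _).symm).symm⟩

theorem exists_iso_trans {C : Type*} [Category C] {A B D : C} (e : A ≅ B) (h : Nonempty (B ≅ D)) :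
    Nonempty (A ≅ D) :=
  h.map fun e' => e ≪≫ e'

theorem exists_tensorCx_congr {A A' B B' : CochainComplex X.Modules ℤ} (a : A ≅ A') (b : B ≅ B') :
    Nonempty ((DCoh.tensorCx.obj A).obj B ≅ (DCoh.tensorCx.obj A').obj B') :=
  ⟨(DCoh.tensorCx.mapIso a).app B ≪≫ (DCoh.tensorCx.obj A').mapIso b⟩

/-- Restricting an exterior product along a common section of the projections gives the tensor product. -/
theorem exists_pull_box_iso {Z : Scheme.{u}} (Δ : X ⟶ Z) (p₁ p₂ : Z ⟶ X) (h₁ : Δ ≫ p₁ = 𝟙 X) (h₂ : Δ ≫ p₂ = 𝟙 X)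
    (P₁ P₂ : CochainComplex X.Modules ℤ) :
    Nonempty ((pullCx Δ).obj ((DCoh.tensorCx.obj ((pullCx p₁).obj P₁)).obj ((pullCx p₂).obj P₂)) ≅
      (DCoh.tensorCx.obj P₁).obj P₂) :=
  exists_iso_trans (PullTensor.pullTensorCxIso Δ ((pullCx p₁).obj P₁) ((pullCx p₂).obj P₂))
    (exists_tensorCx_congr (pullCxRetract Δ p₁ h₁ P₁) (pullCxRetract Δ p₂ h₂ P₂))

/-- The derived tensor product with a module, computed by two K-flat complexes. -/
theorem exists_ltensorMod_iso (M : X.Modules) [DCoh.HasLTensorMod M] {P₁ P₂ : CochainComplex X.Modules ℤ}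
    (hP₁ : DCoh.IsKFlat P₁) (π₂ : P₂ ⟶ (S₀ X).obj M) [QuasiIso π₂] :
    Nonempty ((DCoh.LTensorMod M).obj (DerivedCategory.Q.obj P₁) ≅
      DerivedCategory.Q.obj ((DCoh.tensorCx.obj P₁).obj P₂)) :=
  have := quasiIso_tensorCx_right hP₁ π₂
  ⟨LTensorMod.ltensorModIso M hP₁ ≪≫ (LTensorMod.tmQIso M).app P₁ ≪≫
    (asIso (DerivedCategory.Q.map ((DCoh.tensorCx.obj P₁).map π₂))).symm⟩

/-- The derived inverse image of a K-flat complex. -/
theorem exists_lpull_iso {Z : Scheme.{u}} (g : X ⟶ Z) [DCoh.HasLpull g] {K : CochainComplex Z.Modules ℤ}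
    (hK : DCoh.IsKFlat K) {E : CochainComplex X.Modules ℤ} (e : (pullCx g).obj K ≅ E) :
    Nonempty ((DCoh.Lpull g).obj (DerivedCategory.Q.obj K) ≅ DerivedCategory.Q.obj E) :=
  have := isIso_toPull g hK
  ⟨asIso ((toPull g).app K) ≪≫ DerivedCategory.Q.mapIso e⟩

/-- The derived tensor product of two closed subschemes of a scheme over a field is the derived inverse image
along the diagonal of their product. -/
theorem exists_LTensor_iso_Lpull_diagonal {k : Type u} [Field k] {Y₁ Y₂ : Scheme.{u}}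
    (f : X ⟶ Spec (CommRingCat.of k)) (i₁ : Y₁ ⟶ X) (i₂ : Y₂ ⟶ X) [IsClosedImmersion i₁] [IsClosedImmersion i₂]
    [DCoh.HasLTensorMod ((Scheme.Modules.pushforward i₂).obj (Coh.structureModule Y₂))]
    [DCoh.HasLpull (pullback.diagonal f)] :
    Nonempty ((DCoh.LTensorMod ((Scheme.Modules.pushforward i₂).obj (Coh.structureModule Y₂))).obj
        (DCoh.inD X ((Scheme.Modules.pushforward i₁).obj (Coh.structureModule Y₁))) ≅
      (DCoh.Lpull (pullback.diagonal f)).obj (DCoh.inD (pullback f f)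
        ((Scheme.Modules.pushforward (pullback.map (i₁ ≫ f) (i₂ ≫ f) f f i₁ i₂ (𝟙 (Spec (CommRingCat.of k)))
          (Category.comp_id _) (Category.comp_id _))).obj (Coh.structureModule (pullback (i₁ ≫ f) (i₂ ≫ f)))))) := by
  let j : pullback (i₁ ≫ f) f ⟶ pullback f f :=
    pullback.map (i₁ ≫ f) f f f i₁ (𝟙 X) (𝟙 _) (Category.comp_id _) (by simp)
  let r : pullback (i₁ ≫ f) (i₂ ≫ f) ⟶ pullback (i₁ ≫ f) f :=
    pullback.map (i₁ ≫ f) (i₂ ≫ f) (i₁ ≫ f) f (𝟙 Y₁) i₂ (𝟙 _) (by simp) (Category.comp_id _)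
  have hjq : j ≫ pullback.snd f f = pullback.snd (i₁ ≫ f) f := by simp [j]
  have hc : r ≫ j = pullback.map (i₁ ≫ f) (i₂ ≫ f) f f i₁ i₂ (𝟙 (Spec (CommRingCat.of k)))
      (Category.comp_id _) (Category.comp_id _) := pullback.hom_ext (by simp [r, j]) (by simp [r, j])
  have hj : IsPullback (pullback.fst (i₁ ≫ f) f) j i₁ (pullback.fst f f) := by
    refine IsPullback.of_bot ?_ (by simp [j]) (IsPullback.of_hasPullback f f)
    rw [hjq]
    exact IsPullback.of_hasPullback (i₁ ≫ f) f
  have hr : IsPullback (pullback.snd (i₁ ≫ f) (i₂ ≫ f)) r i₂ (pullback.snd (i₁ ≫ f) f) := by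
    refine IsPullback.of_bot ?_ (by simp [r]) (IsPullback.of_hasPullback (i₁ ≫ f) f).flip
    simpa [r] using (IsPullback.of_hasPullback (i₁ ≫ f) (i₂ ≫ f)).flip
  have : IsClosedImmersion j := MorphismProperty.of_isPullback hj inferInstance
  have : Flat f := flat_of_field f
  have : Flat (i₁ ≫ f) := flat_of_field _
  have hflat₁ : Flat (pullback.fst f f) := inferInstance
  have hflat₂ : Flat (pullback.snd (i₁ ≫ f) f) := inferInstance
  obtain ⟨b₁⟩ := exists_pullback_pushforward_unit i₁ _ _ j hj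
  obtain ⟨b₂⟩ := exists_pullback_pushforward_unit i₂ _ _ r hr
  let π₁ := (resYπ X).app ((S₀ X).obj ((Scheme.Modules.pushforward i₁).obj (Coh.structureModule Y₁)))
  let π₂ := (resYπ X).app ((S₀ X).obj ((Scheme.Modules.pushforward i₂).obj (Coh.structureModule Y₂)))
  have : QuasiIso π₁ := quasiIso_resYπ _
  have : QuasiIso π₂ := quasiIso_resYπ _
  obtain ⟨e⟩ := exists_box_iso _ _ j _ hjq r _ hc b₁ b₂ π₁ π₂ (isKFlat_resY _)
  obtain ⟨eΔ⟩ := exists_pull_box_iso (pullback.diagonal f) _ _ (pullback.diagonal_fst f) (pullback.diagonal_snd f)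
    ((resY X).obj ((S₀ X).obj ((Scheme.Modules.pushforward i₁).obj (Coh.structureModule Y₁))))
    ((resY X).obj ((S₀ X).obj ((Scheme.Modules.pushforward i₂).obj (Coh.structureModule Y₂))))
  obtain ⟨eR⟩ := exists_lpull_iso (pullback.diagonal f)
    (isKFlat_tensorCx (isKFlat_pullCx _ (isKFlat_resY _)) (isKFlat_pullCx _ (isKFlat_resY _))) eΔ
  obtain ⟨eL⟩ := exists_ltensorMod_iso _ (isKFlat_resY _) π₂ (P₁ := (resY X).obj
    ((S₀ X).obj ((Scheme.Modules.pushforward i₁).obj (Coh.structureModule Y₁))))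
  exact ⟨(DCoh.LTensorMod _).mapIso (inDResIso _) ≪≫ eL ≪≫ eR.symm ≪≫ (DCoh.Lpull _).mapIso e.symm⟩

end

end Groth.Agent.Desc44.BoxTor
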