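import Mathlib
import Groth.Prelude.Def_Pi1

/-! Descent along universally injective ring maps, via character modules. -/

set_option autoImplicit false

open TensorProduct

universe u

noncomputable section

namespace Groth.Agent.Desc44.CharDescent

variable {R S : Type u} [CommRing R] [CommRing S] [Algebra R S]

lemma cext {X : Type u} [AddCommGroup X] {c c' : CharacterModule X} (h : ∀ x, c x = c' x) : c = c' :=
  DFunLike.ext _ _ h

lemma dual_apply {X Y : Type u} [AddCommGroup X] [Module R X] [AddCommGroup Y] [Module R Y]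
    (f : X →ₗ[R] Y) (c : CharacterModule Y) (x : X) : CharacterModule.dual f c x = c (f x) := rfl

/-- A splitting of the dual of the structure map. -/
theorem exists_split (hj : Pi1.UnivInjective R S) :
    ∃ Ψ : CharacterModule (CharacterModule R ⊗[R] S), ∀ χ : CharacterModule R, Ψ (χ ⊗ₜ[R] (1 : S)) = χ 1 := by
  let ev : CharacterModule (CharacterModule R ⊗[R] R) :=
    ({ toFun := fun χ => χ 1, map_zero' := rfl, map_add' := fun a b => rfl } :
      CharacterModule R →+ AddCircle (1 : ℚ)).comp (TensorProduct.rid R (CharacterModule R)).toLinearMap.toAddMonoidHom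
  obtain ⟨Ψ, hΨ⟩ := CharacterModule.dual_surjective_of_injective _ (hj (CharacterModule R)) ev
  refine ⟨Ψ, fun χ => ?_⟩
  have := congrArg (fun c : CharacterModule (CharacterModule R ⊗[R] R) => c (χ ⊗ₜ[R] (1 : R))) hΨ
  simp only [dual_apply, LinearMap.lTensor_tmul, Algebra.linearMap_apply, map_one] at this
  refine this.trans ?_
  show (TensorProduct.rid R (CharacterModule R) (χ ⊗ₜ[R] (1 : R))) 1 = χ 1
  rw [TensorProduct.rid_tmul, one_smul]

variable (Ψ : CharacterModule (CharacterModule R ⊗[R] S))
variable {X Y : Type u} [AddCommGroup X] [Module R X] [AddCommGroup Y] [Module R Y]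

/-- The section of the dual of `X → S ⊗ X`. -/
def sec (χ : CharacterModule X) : CharacterModule (S ⊗[R] X) :=
  TensorProduct.liftAddHom
    { toFun := fun s =>
        { toFun := fun x => Ψ (CharacterModule.dual (LinearMap.toSpanSingleton R X x) χ ⊗ₜ[R] s)
          map_zero' := by
            rw [show CharacterModule.dual (LinearMap.toSpanSingleton R X 0) χ = 0 from
              cext fun r => by simp [dual_apply], TensorProduct.zero_tmul, map_zero]
          map_add' := fun x y => by
            rw [← map_add, ← TensorProduct.add_tmul]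
            congr 2
            exact cext fun r => by
              show χ (r • (x + y)) = χ (r • x) + χ (r • y)
              rw [smul_add, map_add] }
      map_zero' := by
        ext x
        show Ψ (_ ⊗ₜ[R] (0 : S)) = 0
        rw [TensorProduct.tmul_zero, map_zero]
      map_add' := fun s t => by
        ext x
        show Ψ (_ ⊗ₜ[R] (s + t)) = Ψ (_ ⊗ₜ[R] s) + Ψ (_ ⊗ₜ[R] t)
        rw [TensorProduct.tmul_add, map_add] }
    fun r s x => by
      show Ψ (_ ⊗ₜ[R] (r • s)) = Ψ (_ ⊗ₜ[R] s)
      rw [TensorProduct.tmul_smul, TensorProduct.smul_tmul']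
      congr 2
      exact cext fun c => by
        show χ ((r • c) • x) = χ (c • (r • x))
        rw [smul_eq_mul, mul_comm, mul_smul]

lemma sec_tmul (χ : CharacterModule X) (s : S) (x : X) :
    sec Ψ χ (s ⊗ₜ[R] x) = Ψ (CharacterModule.dual (LinearMap.toSpanSingleton R X x) χ ⊗ₜ[R] s) := rfl

lemma sec_add (χ χ' : CharacterModule X) (z : S ⊗[R] X) :
    sec Ψ (χ + χ') z = sec Ψ χ z + sec Ψ χ' z := by
  induction z using TensorProduct.induction_on with
  | zero => simp
  | tmul s x => simp only [sec_tmul, map_add, TensorProduct.add_tmul]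
  | add a b ha hb => rw [map_add, map_add, map_add, ha, hb]; abel

lemma sec_zero (z : S ⊗[R] X) : sec Ψ (0 : CharacterModule X) z = 0 := by
  have := sec_add Ψ (0 : CharacterModule X) 0 z
  simpa using this

lemma sec_sub (χ χ' : CharacterModule X) (z : S ⊗[R] X) :
    sec Ψ (χ - χ') z = sec Ψ χ z - sec Ψ χ' z := by
  rw [eq_sub_iff_add_eq, ← sec_add, sub_add_cancel]

lemma sec_smul (r : R) (χ : CharacterModule X) (z : S ⊗[R] X) :
    sec Ψ (r • χ) z = sec Ψ χ (r • z) := by
  induction z using TensorProduct.induction_on with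
  | zero => simp
  | tmul s x =>
    rw [TensorProduct.smul_tmul', sec_tmul, sec_tmul, map_smul, TensorProduct.smul_tmul]
  | add a b ha hb => rw [smul_add, map_add, map_add, ha, hb]

lemma sec_nat (f : X →ₗ[R] Y) (χ : CharacterModule Y) (z : S ⊗[R] X) :
    sec Ψ (CharacterModule.dual f χ) z = sec Ψ χ (LinearMap.lTensor S f z) := by
  induction z using TensorProduct.induction_on with
  | zero => simp
  | tmul s x =>
    rw [LinearMap.lTensor_tmul, sec_tmul, sec_tmul]
    congr 2
    exact cext fun r => by
      show χ (f (r • x)) = χ (r • f x)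
      rw [map_smul]
  | add a b ha hb => rw [map_add, map_add, map_add, ha, hb]

variable (hΨ : ∀ χ : CharacterModule R, Ψ (χ ⊗ₜ[R] (1 : S)) = χ 1)

include hΨ in
lemma sec_one (χ : CharacterModule X) (x : X) : sec Ψ χ ((1 : S) ⊗ₜ[R] x) = χ x := by
  rw [sec_tmul, hΨ]
  show χ ((1 : R) • x) = χ x
  rw [one_smul]

lemma mem_of_forall {p : Submodule R X} {y : X}
    (h : ∀ η : CharacterModule X, (∀ x ∈ p, η x = 0) → η y = 0) : y ∈ p := by
  rw [← Submodule.Quotient.mk_eq_zero p]
  refine CharacterModule.eq_zero_of_character_apply fun c => ?_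
  exact h (CharacterModule.dual p.mkQ c) fun x hx => by
    show c (p.mkQ x) = 0
    rw [Submodule.mkQ_apply, (Submodule.Quotient.mk_eq_zero p).2 hx, map_zero]

include hΨ in
theorem one_tmul_injective : Function.Injective (TensorProduct.mk R S X 1) := by
  rw [injective_iff_map_eq_zero]
  intro x hx
  refine CharacterModule.eq_zero_of_character_apply fun χ => ?_
  rw [← sec_one Ψ hΨ χ x, show (1 : S) ⊗ₜ[R] x = 0 from hx, map_zero]

include hΨ in
theorem mem_range_of_eq (y : S ⊗[R] X)
    (h : LinearMap.lTensor S (TensorProduct.mk R S X 1) y = (1 : S) ⊗ₜ[R] y) :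
    ∃ x : X, (1 : S) ⊗ₜ[R] x = y := by
  refine LinearMap.mem_range.1 (mem_of_forall (p := LinearMap.range (TensorProduct.mk R S X 1)) fun η hη => ?_)
  have h0 : CharacterModule.dual (TensorProduct.mk R S X 1) η = 0 :=
    cext fun x => hη _ (LinearMap.mem_range_self _ x)
  rw [← sec_one Ψ hΨ η y, ← h, ← sec_nat, h0, sec_zero]

variable {N : Type u} [AddCommGroup N] [Module R N] (ρ : N →ₗ[R] S ⊗[R] N)
  (hρ : ∀ n, LinearMap.lTensor S ρ (ρ n) = LinearMap.lTensor S (TensorProduct.mk R S N 1) (ρ n))

include hρ in
lemma comp_eq_zero (χ : CharacterModule N)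
    (hχ : ∀ m ∈ LinearMap.ker (ρ - TensorProduct.mk R S N 1), χ m = 0) (n : N) : sec Ψ χ (ρ n) = 0 := by
  let g := ρ - TensorProduct.mk R S N 1
  let q := (LinearMap.ker g).liftQ g le_rfl
  have hq : Function.Injective q := LinearMap.ker_eq_bot.1 (Submodule.ker_liftQ_eq_bot _ _ _ le_rfl)
  obtain ⟨χ', hχ'⟩ := CharacterModule.dual_surjective_of_injective q hq
    (QuotientAddGroup.lift (LinearMap.ker g).toAddSubgroup χ hχ)
  have e : CharacterModule.dual g χ' = χ := cext fun m => by
    have := congrArg (fun c : CharacterModule _ => c (Submodule.Quotient.mk m)) hχ'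
    exact this
  rw [← e, sec_nat, LinearMap.lTensor_sub, LinearMap.sub_apply, hρ, sub_self, map_zero]

include hΨ hρ in
theorem lTensor_subtype_injective :
    Function.Injective (LinearMap.lTensor S (LinearMap.ker (ρ - TensorProduct.mk R S N 1)).subtype) := by
  let M₀ := LinearMap.ker (ρ - TensorProduct.mk R S N 1)
  rw [injective_iff_map_eq_zero]
  intro a ha
  refine CharacterModule.eq_zero_of_character_apply fun η => ?_
  choose ext hext using CharacterModule.dual_surjective_of_injective M₀.subtype M₀.injective_subtype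
  let ηs : S → CharacterModule M₀ := fun s => CharacterModule.dual (TensorProduct.mk R S M₀ s) η
  let P : S → N → AddCircle (1 : ℚ) := fun s n => sec Ψ (ext (ηs s)) (ρ n)
  have hP : ∀ (c : CharacterModule N) (s : S), (∀ m : M₀, c m = η (s ⊗ₜ[R] m)) → ∀ n, P s n = sec Ψ c (ρ n) := by
    intro c s hc n
    rw [← sub_eq_zero, ← sec_sub]
    refine comp_eq_zero Ψ ρ hρ _ (fun m hm => ?_) n
    have := congrArg (fun d : CharacterModule M₀ => d ⟨m, hm⟩) (hext (ηs s))
    show ext (ηs s) m - c m = 0
    rw [hc ⟨m, hm⟩, sub_eq_zero]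
    exact this
  have hm : ∀ (s : S) (m : M₀), ext (ηs s) m = η (s ⊗ₜ[R] m) := fun s m =>
    congrArg (fun d : CharacterModule M₀ => d m) (hext (ηs s))
  let η' : CharacterModule (S ⊗[R] N) := TensorProduct.liftAddHom
    { toFun := fun s =>
        { toFun := fun n => P s n
          map_zero' := by simp [P]
          map_add' := fun x y => by simp [P] }
      map_zero' := by
        ext n
        show P 0 n = 0
        rw [hP 0 0 (fun m => by rw [TensorProduct.zero_tmul, map_zero]; rfl) n, sec_zero]
      map_add' := fun s t => by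
        ext n
        show P (s + t) n = P s n + P t n
        rw [hP (ext (ηs s) + ext (ηs t)) (s + t) (fun m => by
          show ext (ηs s) m + ext (ηs t) m = _
          rw [hm, hm, TensorProduct.add_tmul, map_add]) n, sec_add] }
    fun r s n => by
      show P (r • s) n = P s (r • n)
      rw [hP (r • ext (ηs s)) (r • s) (fun m => by
        rw [CharacterModule.smul_apply, TensorProduct.smul_tmul]
        exact hm s (r • m)) n, sec_smul]
      show _ = sec Ψ _ (ρ (r • n))
      rw [map_smul ρ]
  have key : ∀ b : S ⊗[R] M₀, η b = η' (LinearMap.lTensor S M₀.subtype b) := by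
    intro b
    induction b using TensorProduct.induction_on with
    | zero => simp
    | tmul s m =>
      rw [← hm]
      show _ = sec Ψ (ext (ηs s)) (ρ m)
      rw [show ρ (m : N) = (1 : S) ⊗ₜ[R] (m : N) from sub_eq_zero.1 m.2, sec_one Ψ hΨ]
    | add x y hx hy => simp only [map_add, hx, hy]
  rw [key, ha, map_zero]

include hΨ hρ in
theorem exists_preimage (y : S ⊗[R] N)
    (hy : LinearMap.lTensor S ρ y = LinearMap.lTensor S (TensorProduct.mk R S N 1) y) :
    ∃ b, LinearMap.lTensor S (LinearMap.ker (ρ - TensorProduct.mk R S N 1)).subtype b = y := by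
  let g := ρ - TensorProduct.mk R S N 1
  refine LinearMap.mem_range.1 (mem_of_forall
    (p := LinearMap.range (LinearMap.lTensor S (LinearMap.ker g).subtype)) fun η hη => ?_)
  let ηs : S → CharacterModule N := fun s => CharacterModule.dual (TensorProduct.mk R S N s) η
  have hz : ∀ s n, sec Ψ (ηs s) (ρ n) = 0 := fun s n => comp_eq_zero Ψ ρ hρ _ (fun m hm =>
    hη _ ⟨s ⊗ₜ[R] (⟨m, hm⟩ : LinearMap.ker g), rfl⟩) n
  let η'' : CharacterModule (S ⊗[R] (S ⊗[R] N)) := TensorProduct.liftAddHom
    { toFun := fun s => (sec Ψ (ηs s) : S ⊗[R] N →+ AddCircle (1 : ℚ))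
      map_zero' := by
        ext z
        show sec Ψ (ηs 0) z = 0
        rw [show ηs 0 = 0 from cext fun m => by
          show η ((0 : S) ⊗ₜ[R] m) = 0
          rw [TensorProduct.zero_tmul, map_zero], sec_zero]
      map_add' := fun s t => by
        ext z
        show sec Ψ (ηs (s + t)) z = sec Ψ (ηs s) z + sec Ψ (ηs t) z
        rw [← sec_add, show ηs (s + t) = ηs s + ηs t from
          cext fun m => by
          show η ((s + t) ⊗ₜ[R] m) = η (s ⊗ₜ[R] m) + η (t ⊗ₜ[R] m)
          rw [TensorProduct.add_tmul, map_add]] }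
    fun r s z => by
      show sec Ψ (ηs (r • s)) z = sec Ψ (ηs s) (r • z)
      rw [← sec_smul, show ηs (r • s) = r • ηs s from
        cext fun m => by
          show η ((r • s) ⊗ₜ[R] m) = η (s ⊗ₜ[R] (r • m))
          rw [TensorProduct.smul_tmul]]
  have key : ∀ w, η'' (LinearMap.lTensor S g w) = - η w := by
    intro w
    induction w using TensorProduct.induction_on with
    | zero => simp
    | tmul s n =>
      show sec Ψ (ηs s) (ρ n - (1 : S) ⊗ₜ[R] n) = _
      rw [map_sub, hz, sec_one Ψ hΨ, zero_sub]
      rfl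
    | add x z hx hz => simp only [map_add, hx, hz, neg_add]
  have := key y
  rw [LinearMap.lTensor_sub, LinearMap.sub_apply, hy, sub_self, map_zero] at this
  exact neg_eq_zero.1 this.symm

end Groth.Agent.Desc44.CharDescent
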