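import Mathlib

/-! Ext of a module presented by a single injective column. -/

set_option autoImplicit false

universe u

open CategoryTheory CategoryTheory.Abelian

noncomputable section

namespace Groth.Agent.Desc44.CokerExt

variable {R : Type u} [CommRing R]

/-- Ext of the cokernel of `v : R → R^n` into `R`. -/
theorem ext_of_column {n : ℕ} (v : Fin n → R) (hv : ∀ a : R, (∀ i, a * v i = 0) → a = 0)
    {M : Type u} [AddCommGroup M] [Module R M] (π : (Fin n → R) →ₗ[R] M) (hsurj : Function.Surjective π)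
    (hker : ∀ c, π c = 0 ↔ ∃ a : R, a • v = c) :
    Subsingleton (Ext (ModuleCat.of R M) (ModuleCat.of R R) 2) ∧
      Nonempty (Ext (ModuleCat.of R M) (ModuleCat.of R R) 1 ≃ₗ[R] R ⧸ Ideal.span (Set.range v)) := by
  classical
  let ι : R →ₗ[R] (Fin n → R) := LinearMap.toSpanSingleton R _ v
  have hι : ∀ a, ι a = a • v := fun a => LinearMap.toSpanSingleton_apply R _ v a
  let S : ShortComplex (ModuleCat.{u} R) := ShortComplex.mk (ModuleCat.ofHom ι) (ModuleCat.ofHom π) (by
    ext a
    exact (hker _).2 ⟨_, (hι _).symm⟩)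
  have hS : S.ShortExact :=
    { exact := (ShortComplex.moduleCat_exact_iff S).2 fun c hc => by
        obtain ⟨a, ha⟩ := (hker c).1 hc
        exact ⟨a, (hι a).trans ha⟩
      mono_f := (ModuleCat.mono_iff_injective _).2 ((injective_iff_map_eq_zero ι).2 fun a ha => hv a fun i => by
        have := congrFun ((hι a).symm.trans ha) i
        simpa using this)
      epi_g := (ModuleCat.epi_iff_surjective _).2 hsurj }
  haveI : Module.Projective R (Fin n → R) := inferInstance
  haveI hP1 : Projective S.X₁ := (inferInstance : Projective (ModuleCat.of R R))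
  haveI hP2 : Projective S.X₂ := (inferInstance : Projective (ModuleCat.of R (Fin n → R)))
  let Y := ModuleCat.of R R
  refine ⟨⟨fun x y => ?_⟩, ?_⟩
  · suffices h : ∀ x : Ext S.X₃ Y 2, x = 0 from (h x).trans (h y).symm
    intro x
    obtain ⟨x₁, rfl⟩ := Ext.contravariant_sequence_exact₃ hS Y x (Ext.eq_zero_of_projective _) (n₀ := 1) rfl
    rw [Ext.eq_zero_of_projective x₁, Ext.comp_zero]
  · let emb : R →ₗ[R] (S.X₁ ⟶ Y) :=
      { toFun := fun a => a • 𝟙 Y
        map_add' := fun a b => add_smul a b _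
        map_smul' := fun a b => mul_smul a b _ }
    let ψ : R →ₗ[R] Ext S.X₃ Y 1 :=
      (Ext.precompOfLinear hS.extClass R Y (a := 0) (b := 1) rfl) ∘ₗ
        (Ext.linearEquiv₀ (R := R) (X := S.X₁) (Y := Y)).symm.toLinearMap ∘ₗ emb
    have hψ : ∀ a, ψ a = hS.extClass.comp (Ext.mk₀ (a • 𝟙 Y)) rfl := fun a => rfl
    have hemb : ∀ φ : S.X₁ ⟶ Y, φ = (φ.hom (1 : R)) • 𝟙 Y := fun φ => by
      ext
      show φ.hom 1 = φ.hom 1 • (1 : R)
      simp
    have hsur : Function.Surjective ψ := fun x => by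
      obtain ⟨x₁, rfl⟩ := Ext.contravariant_sequence_exact₃ hS Y x (Ext.eq_zero_of_projective _) (n₀ := 0) rfl
      obtain ⟨φ, rfl⟩ := (Ext.mk₀_bijective S.X₁ Y).2 x₁
      exact ⟨φ.hom (1 : R), by rw [hψ, ← hemb φ]⟩
    have hk : LinearMap.ker ψ = Ideal.span (Set.range v) := by
      ext a
      rw [LinearMap.mem_ker, hψ, Ideal.mem_span_range_iff_exists_fun]
      constructor
      · intro h
        obtain ⟨x₂, hx₂⟩ := Ext.contravariant_sequence_exact₁ hS Y _ rfl h
        obtain ⟨φ, rfl⟩ := (Ext.mk₀_bijective S.X₂ Y).2 x₂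
        rw [Ext.mk₀_comp_mk₀] at hx₂
        refine ⟨fun i => φ.hom (Pi.single i 1), ?_⟩
        have h1 : φ.hom (ι 1) = a • (1 : R) :=
          congrArg (fun ψ : S.X₁ ⟶ Y => ψ.hom (1 : R)) ((Ext.mk₀_bijective S.X₁ Y).1 hx₂)
        rw [smul_eq_mul, mul_one] at h1
        rw [← h1, hι, one_smul]
        conv_rhs => rw [pi_eq_sum_univ' v, map_sum]
        exact Finset.sum_congr rfl fun i _ => by rw [map_smul, smul_eq_mul, mul_comm]
      · rintro ⟨c, rfl⟩
        let φ : S.X₂ ⟶ Y := ModuleCat.ofHom (∑ i, c i • LinearMap.proj i)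
        have : (∑ i, c i * v i) • 𝟙 Y = S.f ≫ φ := by
          ext
          show (∑ i, c i * v i) • (1 : R) = (∑ i, c i • (LinearMap.proj i : (Fin n → R) →ₗ[R] R)) (ι 1)
          rw [hι, one_smul]
          simp
        rw [this, ← Ext.mk₀_comp_mk₀, ← Ext.comp_assoc hS.extClass (Ext.mk₀ S.f) (Ext.mk₀ φ) (add_zero 1) (add_zero 0) rfl,
          ShortComplex.ShortExact.extClass_comp, Ext.zero_comp]
    exact ⟨(ψ.quotKerEquivOfSurjective hsur).symm.trans (Submodule.quotEquivOfEq _ _ hk)⟩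

end Groth.Agent.Desc44.CokerExt
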