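import Groth.Agent.Desc44.ConormalEuler
import Groth.Agent.KReg44.Append
import Groth.Agent.KReg44.Syzygy
import Groth.Agent.KReg44.Ideal
import Mathlib.Algebra.TrivSqZeroExt.Basic
import Mathlib.RingTheory.MvPolynomial.Localization
import Mathlib.RingTheory.Smooth.Basic
import Mathlib.RingTheory.RingHomProperties

/-!
# Presentations of a composite
-/

set_option autoImplicit false
set_option linter.style.haveILetI false

universe u

noncomputable section

open Groth.Agent.Omega.StalkAlg

namespace Groth.Agent.Desc44.CompPres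

variable {A B C R : Type u} [CommRing A] [CommRing B] [CommRing C] [CommRing R]

/-- The ring map to a trivial extension given by a derivation. -/
def derHom {N : Type u} [AddCommGroup N] [Module C N] [Module Cᵐᵒᵖ N] [IsCentralScalar C N] (π : R →+* C)
    (e : R →+ N) (he : ∀ a b, e (a * b) = π a • e b + π b • e a) : R →+* TrivSqZeroExt C N where
  toFun r := (π r, e r)
  map_one' := TrivSqZeroExt.ext (map_one π) (by
    have h := he 1 1
    rw [one_mul, map_one π, one_smul, left_eq_add] at h
    exact h)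
  map_mul' a b := TrivSqZeroExt.ext (map_mul π a b) (by
    rw [TrivSqZeroExt.snd_mul, op_smul_eq_smul]
    exact he a b)
  map_zero' := TrivSqZeroExt.ext (map_zero π) (map_zero e)
  map_add' a b := TrivSqZeroExt.ext (map_add π a b) (map_add e a b)

/-- A Koszul-regular sequence generating the kernel gives a presentation with free conormal module. -/
theorem exists_presOfList {τ : A →+* C} {Q : Type u} [AddCommGroup Q] [Module C Q] (σ : A →+* B) (π : B →+* C)
    (surj : Function.Surjective π) (comp : ∀ a, π (σ a) = τ a)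
    (smooth : letI := σ.toAlgebra; Algebra.FormallySmooth A B)
    (l : List B) (hl : LCI.IsKoszulRegularSeq B l) (hker : RingHom.ker π = Ideal.ofList l)
    (δ : B →+ Q) (δ_mul : ∀ a b, δ (a * b) = π a • δ b + π b • δ a) (δ_zero : ∀ a, δ (σ a) = 0)
    (δ_univ : IsDerUniv π σ δ) :
    Nonempty (ConormalEuler.Pres τ B (Fin l.length → C) Q) := by
  let f : Fin l.length → B := fun i => l.get i
  have hf : LCI.IsKoszulRegularSeq B (List.ofFn f) := by rw [List.ofFn_get]; exact hl
  have hspan : Ideal.span (Set.range f) = RingHom.ker π := by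
    rw [hker, KReg44.span_range_eq_ofList, List.ofFn_get]
  have hfm : ∀ i, f i ∈ RingHom.ker π := fun i => hspan.le (Ideal.subset_span ⟨i, rfl⟩)
  choose coef hcoef using fun a : RingHom.ker π =>
    (Submodule.mem_span_range_iff_exists_fun B).1 (hspan.ge a.2)
  have hwell : ∀ (a : RingHom.ker π) (c : Fin l.length → B), ∑ i, c i * f i = a.1 →
      ∀ i, π (coef a i) = π (c i) := fun a c hc i => by
    have h := KReg44.coeff_mem_of_relation f hf (a := fun i => coef a i - c i) (by
      simp only [sub_mul, Finset.sum_sub_distrib, hc]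
      rw [sub_eq_zero]
      exact hcoef a) i
    rw [hspan, RingHom.mem_ker, map_sub, sub_eq_zero] at h
    exact h
  let κ : RingHom.ker π →+ (Fin l.length → C) := AddMonoidHom.mk' (fun a i => π (coef a i)) fun a b => by
    funext i
    rw [hwell (a + b) (fun i => coef a i + coef b i) (by
      simp only [add_mul, Finset.sum_add_distrib]
      exact congrArg₂ (· + ·) (hcoef a) (hcoef b)) i, map_add]
    rfl
  have hκsmul : ∀ b a, κ (b • a) = π b • κ a := fun b a => by
    funext i
    show π (coef (b • a) i) = π b * π (coef a i)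
    rw [hwell (b • a) (fun i => b * coef a i) (by
      simp only [mul_assoc, ← Finset.mul_sum]
      exact congrArg (b * ·) (hcoef a)) i, map_mul]
  have hκf : ∀ i, κ ⟨f i, hfm i⟩ = Pi.single i 1 := fun i => by
    funext j
    show π (coef ⟨f i, hfm i⟩ j) = _
    rw [hwell ⟨f i, hfm i⟩ (Pi.single i 1) (by simp [Pi.single_apply, ite_mul]) j]
    simp [Pi.single_apply, apply_ite π]
  have hsum : ∀ a : RingHom.ker π, a = ∑ i, coef a i • (⟨f i, hfm i⟩ : RingHom.ker π) := fun a =>
    Subtype.ext (by simpa using (hcoef a).symm)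
  have hκuniv : IsKerUniv π κ := by
    intro N _ _ k hk
    refine ⟨(Pi.basisFun C (Fin l.length)).constr C fun i => k ⟨f i, hfm i⟩, fun a => ?_, fun m hm => ?_⟩
    · rw [hsum a, map_sum, map_sum, map_sum]
      refine Finset.sum_congr rfl fun i _ => ?_
      rw [hκsmul, hk, map_smul, hκf, ← Pi.basisFun_apply, Module.Basis.constr_basis]
    · refine (Pi.basisFun C (Fin l.length)).ext fun i => ?_
      rw [Module.Basis.constr_basis, Pi.basisFun_apply, ← hκf, hm]
  obtain ⟨φ, hφ, -⟩ := hκuniv Q (δ.comp (RingHom.ker π).subtype.toAddMonoidHom) fun b a => by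
    show δ (b * a.1) = π b • δ a.1
    rw [δ_mul, RingHom.mem_ker.1 a.2, zero_smul, add_zero]
  exact ⟨⟨σ, π, surj, comp, smooth, κ, hκsmul, hκuniv, δ, δ_mul, δ_zero, δ_univ, φ, hφ⟩⟩

/-- A presentation of a composite `A → B → C` from a presentation of `A → B` and a chart of `B → C` in affine space. -/
theorem exists_comp {a n : ℕ} (σ : A →+* R) (π : R →+* B) (hπ : Function.Surjective π)
    (hsm : letI := σ.toAlgebra; Algebra.FormallySmooth A R)
    (r : List R) (hr : LCI.IsKoszulRegularSeq R r) (hrker : RingHom.ker π = Ideal.ofList r)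
    (τf : B →+* C) {τ : A →+* C} (hτ : ∀ x, τf (π (σ x)) = τ x)
    (δ₀ : R →+ (Fin a → C)) (hδ₀ : ∀ x y, δ₀ (x * y) = τf (π x) • δ₀ y + τf (π y) • δ₀ x)
    (hδ₀' : ∀ x, δ₀ (σ x) = 0) (hδ₀u : IsDerUniv (τf.comp π) σ δ₀)
    {S : Type u} [CommRing S] [IsLocalRing S] (ψ : MvPolynomial (Fin n) B →+* S)
    (hψker : ∀ z, ψ z = 0 → ∃ t, IsUnit (ψ t) ∧ t * z = 0)
    (hψsurj : ∀ z, ∃ b t, IsUnit (ψ t) ∧ ψ t * z = ψ b)
    (πf : S →+* C) (hπf : Function.Surjective πf) (hπfC : ∀ b, πf (ψ (MvPolynomial.C b)) = τf b)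
    (s : List S) (hs : LCI.IsKoszulRegularSeq S s) (hsker : RingHom.ker πf = Ideal.ofList s) :
    ∃ (R' : Type u) (_ : CommRing R'),
      Nonempty (ConormalEuler.Pres τ R' (Fin (s.length + r.length) → C) ((Fin a → C) × (Fin n → C))) := by
  let P := MvPolynomial (Fin n) R
  let mp : P →+* MvPolynomial (Fin n) B := MvPolynomial.map π
  have hmp : Function.Surjective mp := MvPolynomial.map_surjective π hπ
  let q : Ideal P := (IsLocalRing.maximalIdeal S).comap (ψ.comp mp)
  let R' := Localization.AtPrime q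
  have hunit : ∀ t : P, t ∈ q.primeCompl ↔ IsUnit (ψ (mp t)) := fun t =>
    show ψ (mp t) ∉ IsLocalRing.maximalIdeal S ↔ _ from IsLocalRing.notMem_maximalIdeal
  let φ : R' →+* S := IsLocalization.lift (M := q.primeCompl) (g := ψ.comp mp)
    fun t => (hunit t.1).1 t.2
  have hφ : ∀ p, φ (algebraMap P R' p) = ψ (mp p) := IsLocalization.lift_eq _
  have hφs : Function.Surjective φ := by
    intro z
    obtain ⟨b, t, ht, hz⟩ := hψsurj z
    obtain ⟨b, rfl⟩ := hmp b
    obtain ⟨t, rfl⟩ := hmp t
    let tt : q.primeCompl := ⟨t, (hunit t).2 ht⟩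
    refine ⟨IsLocalization.mk' R' b tt, ht.mul_left_cancel ?_⟩
    calc ψ (mp t) * φ (IsLocalization.mk' R' b tt)
        = φ (algebraMap P R' tt) * φ (IsLocalization.mk' R' b tt) := by rw [hφ]
      _ = ψ (mp b) := by rw [← map_mul, IsLocalization.mk'_spec', hφ]
      _ = ψ (mp t) * z := hz.symm
  let j : R →+* R' := (algebraMap P R').comp MvPolynomial.C
  have hjflat : j.Flat :=
    RingHom.Flat.comp (RingHom.flat_algebraMap_iff.2 (inferInstance : Module.Flat R P))
      (RingHom.flat_algebraMap_iff.2 (IsLocalization.flat R' q.primeCompl))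
  have hmpker : RingHom.ker mp = (Ideal.ofList r).map (MvPolynomial.C : R →+* P) := by
    rw [← hrker]; exact MvPolynomial.ker_map π
  have hφker : RingHom.ker φ = Ideal.ofList (r.map j) := by
    rw [← Ideal.map_ofList]
    refine le_antisymm (fun z hz => ?_) (Ideal.map_le_iff_le_comap.2 fun x hx => ?_)
    · obtain ⟨⟨p, t⟩, hpt⟩ := IsLocalization.surj q.primeCompl z
      have h0 : ψ (mp p) = 0 := by rw [← hφ, ← hpt, map_mul, RingHom.mem_ker.1 hz, zero_mul]
      obtain ⟨w, hw, hwp⟩ := hψker _ h0
      obtain ⟨w, rfl⟩ := hmp w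
      have hm : w * p ∈ (Ideal.ofList r).map (MvPolynomial.C : R →+* P) := by
        rw [← hmpker, RingHom.mem_ker, map_mul, hwp]
      have hm' := Ideal.mem_map_of_mem (algebraMap P R') hm
      rw [Ideal.map_map, map_mul, ← hpt, ← mul_assoc, mul_comm, ← mul_assoc] at hm'
      refine (Ideal.unit_mul_mem_iff_mem _ ?_).1 hm'
      exact (IsLocalization.map_units R' t).mul (IsLocalization.map_units R' (⟨w, (hunit w).2 hw⟩ : q.primeCompl))
    · rw [Ideal.mem_comap, RingHom.mem_ker, RingHom.comp_apply, hφ]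
      show ψ (MvPolynomial.map π (MvPolynomial.C x)) = 0
      rw [MvPolynomial.map_C, RingHom.mem_ker.1 (hrker.ge hx), map_zero, map_zero]
  choose lift hlift using hφs
  have hg : (s.map lift).map φ = s := by
    rw [List.map_map, show φ ∘ lift = id from funext hlift, List.map_id]
  have hkr : LCI.IsKoszulRegularSeq R' (s.map lift ++ r.map j) :=
    KReg44.isKoszulRegularSeq_append φ (KReg44.isKoszulRegularSeq_map j hjflat hr)
      (fun z => ⟨_, hlift z⟩) hφker (hg.symm ▸ hs)
  let π' : R' →+* C := πf.comp φ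
  have hker' : RingHom.ker π' = Ideal.ofList (s.map lift ++ r.map j) := by
    have h1 : RingHom.ker π' = (RingHom.ker πf).comap φ := RingHom.comap_ker πf φ |>.symm
    rw [h1, hsker, Ideal.ofList_append, ← hφker]
    conv_lhs => rw [← hg, ← Ideal.map_ofList]
    exact Ideal.comap_map_of_surjective' φ (fun z => ⟨_, hlift z⟩) _
  have hπ'C : ∀ x, π' (j x) = τf (π x) := fun x => by
    show πf (φ (algebraMap P R' (MvPolynomial.C x))) = _
    rw [hφ]
    show πf (ψ (MvPolynomial.map π (MvPolynomial.C x))) = _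
    rw [MvPolynomial.map_C, hπfC]
  -- the derivation
  let Q := (Fin a → C) × (Fin n → C)
  letI : Module Cᵐᵒᵖ Q := inferInstance
  let T := TrivSqZeroExt C Q
  let X' : Fin n → R' := fun i => algebraMap P R' (MvPolynomial.X i)
  let g₀ : R →+* T := derHom (τf.comp π) ((LinearMap.inl C (Fin a → C) (Fin n → C)).toAddMonoidHom.comp δ₀)
    fun x y => by
      show LinearMap.inl C _ _ (δ₀ (x * y)) = _
      rw [hδ₀, map_add, map_smul, map_smul]
      rfl
  let g : P →+* T := MvPolynomial.eval₂Hom g₀ fun i => ((π' (X' i), (0, Pi.single i 1)) : C × Q)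
  have hgfst : ∀ p, (g p).fst = π' (algebraMap P R' p) := by
    refine RingHom.congr_fun (f := (TrivSqZeroExt.fstHom C C Q).toRingHom.comp g)
      (g := π'.comp (algebraMap P R')) (MvPolynomial.ringHom_ext (fun x => ?_) fun i => ?_)
    · show (g (MvPolynomial.C x)).fst = π' (j x)
      rw [hπ'C, MvPolynomial.eval₂Hom_C]; rfl
    · show (g (MvPolynomial.X i)).fst = π' (X' i)
      rw [MvPolynomial.eval₂Hom_X']; rfl
  let G : R' →+* T := IsLocalization.lift (M := q.primeCompl) (g := g) fun t => by
    rw [TrivSqZeroExt.isUnit_iff_isUnit_fst, hgfst]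
    exact (IsLocalization.map_units R' t).map π'
  have hG : ∀ p, G (algebraMap P R' p) = g p := IsLocalization.lift_eq _
  have hGfst : ∀ z, (G z).fst = π' z := by
    refine RingHom.congr_fun (f := (TrivSqZeroExt.fstHom C C Q).toRingHom.comp G) (g := π')
      (IsLocalization.ringHom_ext q.primeCompl (RingHom.ext fun p => ?_))
    show (G (algebraMap P R' p)).fst = _
    rw [hG, hgfst]; rfl
  let δ : R' →+ Q := AddMonoidHom.mk' (fun z => (G z).snd) fun x y => by rw [map_add]; rfl
  have hδmul : ∀ x y, δ (x * y) = π' x • δ y + π' y • δ x := fun x y => by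
    show (G (x * y)).snd = _
    rw [map_mul, TrivSqZeroExt.snd_mul, op_smul_eq_smul, hGfst, hGfst]
    rfl
  have hδj : ∀ x, δ (j x) = (δ₀ x, 0) := fun x => by
    show (G (algebraMap P R' (MvPolynomial.C x))).snd = _
    rw [hG, MvPolynomial.eval₂Hom_C]; rfl
  have hδX : ∀ i, δ (X' i) = (0, Pi.single i 1) := fun i => by
    show (G (algebraMap P R' (MvPolynomial.X i))).snd = _
    rw [hG, MvPolynomial.eval₂Hom_X']; rfl
  have hδu : IsDerUniv π' (j.comp σ) δ := by
    intro N _ _ e he he0
    letI : Module Cᵐᵒᵖ N := Module.compHom N ((RingHom.id C).fromOpposite mul_comm)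
    haveI : IsCentralScalar C N := ⟨fun _ _ => rfl⟩
    obtain ⟨l₁, hl₁, hl₁u⟩ := hδ₀u N (e.comp j.toAddMonoidHom)
      (fun x y => by
        show e (j (x * y)) = τf (π x) • e (j y) + τf (π y) • e (j x)
        rw [map_mul, he, hπ'C, hπ'C])
      (fun x => he0 x)
    let l : Q →ₗ[C] N := l₁.coprod ((Pi.basisFun C (Fin n)).constr C fun i => e (X' i))
    let h₁ := derHom π' (l.toAddMonoidHom.comp δ) fun x y => by
      show l (δ (x * y)) = π' x • l (δ y) + π' y • l (δ x)
      rw [hδmul, map_add, map_smul, map_smul]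
    have hh : h₁ = derHom π' e he := by
      refine IsLocalization.ringHom_ext q.primeCompl (MvPolynomial.ringHom_ext (fun x => ?_) fun i => ?_)
      · refine TrivSqZeroExt.ext rfl ?_
        show l (δ (j x)) = e (j x)
        rw [hδj]
        show l₁ (δ₀ x) + (Pi.basisFun C (Fin n)).constr C (fun i => e (X' i)) (0 : Fin n → C) = _
        rw [hl₁, map_zero, add_zero]
        rfl
      · refine TrivSqZeroExt.ext rfl ?_
        show l (δ (X' i)) = e (X' i)
        rw [hδX]
        show l₁ (0 : Fin a → C) + (Pi.basisFun C (Fin n)).constr C (fun i => e (X' i)) (Pi.single i 1) = _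
        rw [map_zero, zero_add, ← Pi.basisFun_apply, Module.Basis.constr_basis]
    refine ⟨l, fun b => congrArg TrivSqZeroExt.snd (RingHom.congr_fun hh b), fun m hm => ?_⟩
    refine LinearMap.prod_ext ((hl₁u _ fun x => ?_).trans (LinearMap.coprod_inl _ _).symm)
      (((Pi.basisFun C (Fin n)).ext fun i => ?_).trans (LinearMap.coprod_inr l₁ _).symm)
    · show m (δ₀ x, 0) = e (j x)
      rw [← hδj, hm]
    · show m (0, Pi.basisFun C (Fin n) i) = _
      rw [Module.Basis.constr_basis, Pi.basisFun_apply, ← hδX, hm]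
  have hsm' : (j.comp σ).FormallySmooth := by
    have h1 : (algebraMap P R').FormallySmooth :=
      RingHom.formallySmooth_algebraMap.2 (Algebra.FormallySmooth.of_isLocalization q.primeCompl)
    have h2 : (MvPolynomial.C : R →+* P).FormallySmooth :=
      RingHom.formallySmooth_algebraMap.2 (inferInstance : Algebra.FormallySmooth R P)
    have hsm2 : σ.FormallySmooth := hsm
    exact (hsm2.comp h2).comp h1
  obtain ⟨D⟩ := exists_presOfList (τ := τ) (j.comp σ) π'
    (hπf.comp fun z => ⟨_, hlift z⟩) (fun x => (hπ'C (σ x)).trans (hτ x)) hsm'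
    (s.map lift ++ r.map j) hkr hker' δ hδmul
    (fun x => by
      show δ (j (σ x)) = 0
      rw [hδj, hδ₀']; rfl) hδu
  rw [show (s.map lift ++ r.map j).length = s.length + r.length by simp] at D
  exact ⟨R', inferInstance, ⟨D⟩⟩

end Groth.Agent.Desc44.CompPres
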