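import Groth.Agent.Omega.StalkAlg
import Mathlib.RingTheory.Smooth.Basic
import Mathlib.LinearAlgebra.Dimension.Constructions
import Mathlib.Algebra.Exact.Basic
import Mathlib.RingTheory.Finiteness.Basic

/-!
# The Euler characteristic of the conormal sequence is independent of the presentation
-/

set_option autoImplicit false
set_option linter.style.haveILetI false

universe u

noncomputable section

namespace Groth.Agent.Desc44.ConormalEuler

open Groth.Agent.Omega.StalkAlg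

variable {A C : Type u} [CommRing A] [CommRing C]

/-- A formally smooth presentation with its conormal module and differentials. -/
structure Pres (τ : A →+* C) (B P Q : Type u) [CommRing B] [AddCommGroup P] [Module C P] [AddCommGroup Q]
    [Module C Q] where
  σ : A →+* B
  π : B →+* C
  surj : Function.Surjective π
  comp : ∀ a, π (σ a) = τ a
  smooth : letI := σ.toAlgebra; Algebra.FormallySmooth A B
  κ : RingHom.ker π →+ P
  κ_smul : ∀ b a, κ (b • a) = π b • κ a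
  κ_univ : IsKerUniv π κ
  δ : B →+ Q
  δ_mul : ∀ a b, δ (a * b) = π a • δ b + π b • δ a
  δ_zero : ∀ a, δ (σ a) = 0
  δ_univ : IsDerUniv π σ δ
  φ : P →ₗ[C] Q
  φ_κ : ∀ a, φ (κ a) = δ a.1

variable {τ : A →+* C} {B P Q B' P' Q' : Type u} [CommRing B] [AddCommGroup P] [Module C P] [AddCommGroup Q]
  [Module C Q] [CommRing B'] [AddCommGroup P'] [Module C P'] [AddCommGroup Q'] [Module C Q']

namespace Pres

variable (D : Pres τ B P Q) (D' : Pres τ B' P' Q')

/-- The class of an element of the square of the kernel vanishes. -/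
lemma κ_sq {a : B} (ha : a ∈ RingHom.ker D.π ^ 2) (h : a ∈ RingHom.ker D.π) : D.κ ⟨a, h⟩ = 0 := by
  rw [pow_two] at ha
  suffices H : ∃ h, D.κ ⟨a, h⟩ = 0 by exact H.2
  refine Submodule.mul_induction_on ha (fun x hx y hy => ⟨Ideal.mul_mem_right _ _ hx, ?_⟩) ?_
  · have e : (⟨x * y, Ideal.mul_mem_right _ _ hx⟩ : RingHom.ker D.π) = x • ⟨y, hy⟩ := Subtype.ext rfl
    rw [e, D.κ_smul, RingHom.mem_ker.1 hx, zero_smul]
  · rintro x y ⟨hx, ex⟩ ⟨hy, ey⟩
    refine ⟨add_mem hx hy, ?_⟩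
    rw [show (⟨x + y, add_mem hx hy⟩ : RingHom.ker D.π) = ⟨x, hx⟩ + ⟨y, hy⟩ from rfl, map_add, ex, ey, add_zero]

/-- A map of presentations, defined modulo the square of the kernel. -/
structure Map where
  fn : B → B'
  π_fn : ∀ b, D'.π (fn b) = D.π b
  add : ∀ x y, fn (x + y) - (fn x + fn y) ∈ RingHom.ker D'.π ^ 2
  mul : ∀ x y, fn (x * y) - fn x * fn y ∈ RingHom.ker D'.π ^ 2
  base : ∀ a, fn (D.σ a) - D'.σ a ∈ RingHom.ker D'.π ^ 2

lemma exists_map : Nonempty (Map D D') := by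
  letI := D.σ.toAlgebra
  letI := D'.σ.toAlgebra
  letI := τ.toAlgebra
  haveI := D.smooth
  let I := RingHom.ker D'.π
  let f : B →ₐ[A] C := { D.π with commutes' := D.comp }
  let g : (B' ⧸ I ^ 2) →ₐ[A] C :=
    { Ideal.Quotient.lift (I ^ 2) D'.π (fun a ha => Ideal.pow_le_self (by norm_num) ha) with
      commutes' := fun a => D'.comp a }
  have hg : Function.Surjective g := fun c => by
    obtain ⟨b, rfl⟩ := D'.surj c
    exact ⟨Ideal.Quotient.mk _ b, rfl⟩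
  have hg' : IsNilpotent (RingHom.ker (g : (B' ⧸ I ^ 2) →+* C)) := by
    refine ⟨2, ?_⟩
    have hle : RingHom.ker (g : (B' ⧸ I ^ 2) →+* C) ≤ I.map (Ideal.Quotient.mk (I ^ 2)) := by
      intro z hz
      obtain ⟨b, rfl⟩ := Ideal.Quotient.mk_surjective z
      exact Ideal.mem_map_of_mem _ hz
    rw [Ideal.zero_eq_bot, eq_bot_iff]
    refine (Ideal.pow_right_mono hle 2).trans ?_
    rw [← Ideal.map_pow, Ideal.map_quotient_self]
  let l := Algebra.FormallySmooth.liftOfSurjective f g hg hg'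
  choose h hh using fun b => Ideal.Quotient.mk_surjective (l b)
  refine ⟨⟨h, fun b => ?_, fun x y => ?_, fun x y => ?_, fun a => ?_⟩⟩
  · have := Algebra.FormallySmooth.liftOfSurjective_apply f g hg hg' b
    rw [show Algebra.FormallySmooth.liftOfSurjective f g hg hg' b = Ideal.Quotient.mk _ (h b) from (hh b).symm] at this
    exact this
  · rw [← Ideal.Quotient.eq, map_add, hh, hh, hh, map_add]
  · rw [← Ideal.Quotient.eq, map_mul, hh, hh, hh, map_mul]
  · rw [← Ideal.Quotient.eq, hh]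
    exact l.commutes a

variable {D D'}

lemma δ_eq {x y : B} (h : x - y ∈ RingHom.ker D.π ^ 2) : D.δ x = D.δ y := by
  have hm : x - y ∈ RingHom.ker D.π := Ideal.pow_le_self (by norm_num) h
  rw [← sub_eq_zero, ← map_sub, ← D.φ_κ ⟨_, hm⟩, D.κ_sq h hm, map_zero]

lemma κ_eq {x y : B} (hx : x ∈ RingHom.ker D.π) (hy : y ∈ RingHom.ker D.π) (h : x - y ∈ RingHom.ker D.π ^ 2) :
    D.κ ⟨x, hx⟩ = D.κ ⟨y, hy⟩ := by
  rw [← sub_eq_zero, ← map_sub]
  exact D.κ_sq h _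

lemma Map.mem (h : Map D D') {a : B} (ha : a ∈ RingHom.ker D.π) : h.fn a ∈ RingHom.ker D'.π := by
  rw [RingHom.mem_ker, h.π_fn]; exact ha

lemma Map.exists_maps (h : Map D D') : ∃ (f₀ : P →ₗ[C] P') (f₁ : Q →ₗ[C] Q'),
    (∀ a, f₀ (D.κ a) = D'.κ ⟨h.fn a.1, h.mem a.2⟩) ∧ (∀ b, f₁ (D.δ b) = D'.δ (h.fn b)) ∧
      ∀ p, f₁ (D.φ p) = D'.φ (f₀ p) := by
  let k : RingHom.ker D.π →+ P' := AddMonoidHom.mk' (fun a => D'.κ ⟨h.fn a.1, h.mem a.2⟩) fun a b => by
    refine (D'.κ_eq _ (add_mem (h.mem a.2) (h.mem b.2)) (h.add a.1 b.1)).trans ?_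
    rw [← map_add]
    rfl
  have hk : ∀ b a, k (b • a) = D.π b • k a := fun b a => by
    refine (D'.κ_eq _ (Ideal.mul_mem_left _ (h.fn b) (h.mem a.2)) (h.mul b a.1)).trans ?_
    rw [show (⟨h.fn b * h.fn a.1, Ideal.mul_mem_left _ (h.fn b) (h.mem a.2)⟩ : RingHom.ker D'.π) =
      h.fn b • ⟨h.fn a.1, h.mem a.2⟩ from rfl, D'.κ_smul, h.π_fn]
    rfl
  let e : B →+ Q' := AddMonoidHom.mk' (fun b => D'.δ (h.fn b)) fun x y => by
    rw [D'.δ_eq (h.add x y), map_add]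
  have he : ∀ x y, e (x * y) = D.π x • e y + D.π y • e x := fun x y => by
    show D'.δ (h.fn (x * y)) = _
    rw [D'.δ_eq (h.mul x y), D'.δ_mul, h.π_fn, h.π_fn]
    rfl
  have hea : ∀ a, e (D.σ a) = 0 := fun a => by
    show D'.δ (h.fn (D.σ a)) = 0
    rw [D'.δ_eq (h.base a), D'.δ_zero]
  obtain ⟨f₀, hf₀, -⟩ := D.κ_univ P' k hk
  obtain ⟨f₁, hf₁, -⟩ := D.δ_univ Q' e he hea
  refine ⟨f₀, f₁, hf₀, hf₁, fun p => ?_⟩
  have : f₁ ∘ₗ D.φ = D'.φ ∘ₗ f₀ := D.κ_univ.hom_ext D.κ_smul fun a => by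
    show f₁ (D.φ (D.κ a)) = D'.φ (f₀ (D.κ a))
    rw [D.φ_κ, hf₁, hf₀]
    show D'.δ (h.fn a.1) = D'.φ (D'.κ ⟨h.fn a.1, h.mem a.2⟩)
    rw [D'.φ_κ]
  exact LinearMap.congr_fun this p

/-- The composite of two maps is homotopic to the identity. -/
lemma exists_homotopy (h : Map D D') (h' : Map D' D) {f₀ : P →ₗ[C] P'} {f₁ : Q →ₗ[C] Q'}
    {g₀ : P' →ₗ[C] P} {g₁ : Q' →ₗ[C] Q} (hf₀ : ∀ a, f₀ (D.κ a) = D'.κ ⟨h.fn a.1, h.mem a.2⟩)
    (hf₁ : ∀ b, f₁ (D.δ b) = D'.δ (h.fn b)) (hg₀ : ∀ a, g₀ (D'.κ a) = D.κ ⟨h'.fn a.1, h'.mem a.2⟩)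
    (hg₁ : ∀ b, g₁ (D'.δ b) = D.δ (h'.fn b)) :
    ∃ l : Q →ₗ[C] P, (∀ q, g₁ (f₁ q) = q + D.φ (l q)) ∧ ∀ p, g₀ (f₀ p) = p + l (D.φ p) := by
  let r : B → B := fun b => h'.fn (h.fn b) - b
  have hr : ∀ b, r b ∈ RingHom.ker D.π := fun b => by
    rw [RingHom.mem_ker, map_sub, h'.π_fn, h.π_fn, sub_self]
  let q := Ideal.Quotient.mk (RingHom.ker D.π ^ 2)
  have hsq : ∀ {z : B'}, z ∈ RingHom.ker D'.π ^ 2 → h'.fn z ∈ RingHom.ker D.π ^ 2 := by
    intro z hz
    rw [pow_two] at hz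
    refine Submodule.mul_induction_on hz (fun a ha b hb => ?_) fun a b ha hb => ?_
    · rw [← sub_add_cancel (h'.fn (a * b)) (h'.fn a * h'.fn b)]
      refine add_mem (h'.mul a b) ?_
      rw [pow_two]
      exact Ideal.mul_mem_mul (h'.mem ha) (h'.mem hb)
    · rw [← sub_add_cancel (h'.fn (a + b)) (h'.fn a + h'.fn b)]
      exact add_mem (h'.add a b) (add_mem ha hb)
  -- `h'` respects congruences
  have hcongr : ∀ {x y : B'}, x - y ∈ RingHom.ker D'.π ^ 2 → q (h'.fn x) = q (h'.fn y) := by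
    intro x y hxy
    have h1 : q (h'.fn (x - y + y)) = q (h'.fn (x - y) + h'.fn y) := Ideal.Quotient.eq.2 (h'.add _ _)
    rw [sub_add_cancel, map_add, Ideal.Quotient.eq_zero_iff_mem.2 (hsq hxy), zero_add] at h1
    exact h1
  have hadd : ∀ x y, q (h'.fn (h.fn (x + y))) = q (h'.fn (h.fn x)) + q (h'.fn (h.fn y)) := fun x y => by
    rw [hcongr (h.add x y), ← map_add]
    exact Ideal.Quotient.eq.2 (h'.add _ _)
  have hmul : ∀ x y, q (h'.fn (h.fn (x * y))) = q (h'.fn (h.fn x)) * q (h'.fn (h.fn y)) := fun x y => by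
    rw [hcongr (h.mul x y), ← map_mul]
    exact Ideal.Quotient.eq.2 (h'.mul _ _)
  let e : B →+ P := AddMonoidHom.mk' (fun b => D.κ ⟨r b, hr b⟩) fun x y => by
    rw [← map_add]
    refine D.κ_eq _ _ (Ideal.Quotient.eq.1 ?_)
    show q (h'.fn (h.fn (x + y)) - (x + y)) = q (h'.fn (h.fn x) - x + (h'.fn (h.fn y) - y))
    simp only [map_add, map_sub, hadd]
    ring
  have he : ∀ x y, e (x * y) = D.π x • e y + D.π y • e x := fun x y => by
    have h2 : r x * r y ∈ RingHom.ker D.π ^ 2 := by rw [pow_two]; exact Ideal.mul_mem_mul (hr x) (hr y)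
    show D.κ ⟨r (x * y), hr _⟩ = D.π x • D.κ ⟨r y, hr y⟩ + D.π y • D.κ ⟨r x, hr x⟩
    rw [← D.κ_smul, ← D.κ_smul, ← map_add]
    refine D.κ_eq _ _ (Ideal.Quotient.eq.1 ?_)
    show q (h'.fn (h.fn (x * y)) - x * y) = q (x * r y + y * r x)
    have h3 : q (r x * r y) = 0 := Ideal.Quotient.eq_zero_iff_mem.2 h2
    simp only [r, map_add, map_sub, map_mul, hmul] at h3 ⊢
    linear_combination h3
  have hea : ∀ a, e (D.σ a) = 0 := fun a => by
    refine D.κ_sq (Ideal.Quotient.eq_zero_iff_mem.1 ?_) _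
    show q (h'.fn (h.fn (D.σ a)) - D.σ a) = 0
    rw [map_sub, hcongr (h.base a), Ideal.Quotient.eq.2 (h'.base a), sub_self]
  obtain ⟨l, hl, -⟩ := D.δ_univ P e he hea
  refine ⟨l, fun z => ?_, fun p => ?_⟩
  · have : g₁ ∘ₗ f₁ = LinearMap.id + D.φ ∘ₗ l := D.δ_univ.hom_ext D.δ_mul D.δ_zero fun b => by
      show g₁ (f₁ (D.δ b)) = D.δ b + D.φ (l (D.δ b))
      rw [hf₁, hg₁, hl, show e b = D.κ ⟨r b, hr b⟩ from rfl, D.φ_κ, ← map_add]
      congr 1
      simp [r]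
    exact LinearMap.congr_fun this z
  · have : g₀ ∘ₗ f₀ = LinearMap.id + l ∘ₗ D.φ := D.κ_univ.hom_ext D.κ_smul fun a => by
      show g₀ (f₀ (D.κ a)) = D.κ a + l (D.φ (D.κ a))
      rw [hf₀, hg₀, D.φ_κ, hl, show e a.1 = D.κ ⟨r a.1, hr a.1⟩ from rfl, ← map_add]
      congr 1
      exact Subtype.ext (by simp [r])
    exact LinearMap.congr_fun this p

end Pres

open Pres in
/-- The difference of the ranks does not depend on the presentation. -/
theorem rank_eq [Nontrivial C] (D : Pres τ B P Q) (D' : Pres τ B' P' Q') {a b a' b' : ℕ}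
    (eQ : Module.Basis (Fin a) C Q) (eP : Module.Basis (Fin b) C P) (eQ' : Module.Basis (Fin a') C Q')
    (eP' : Module.Basis (Fin b') C P') : a + b' = a' + b := by
  obtain ⟨h⟩ := exists_map D D'
  obtain ⟨h'⟩ := exists_map D' D
  obtain ⟨f₀, f₁, hf₀, hf₁, hfc⟩ := h.exists_maps
  obtain ⟨g₀, g₁, hg₀, hg₁, hgc⟩ := h'.exists_maps
  obtain ⟨l, hl₁, hl₀⟩ := exists_homotopy h h' hf₀ hf₁ hg₀ hg₁
  obtain ⟨l', hl₁', hl₀'⟩ := exists_homotopy h' h hg₀ hg₁ hf₀ hf₁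
  let i : P →ₗ[C] Q × P' := LinearMap.prod D.φ (-f₀)
  let s : Q × P' →ₗ[C] Q' := f₁.coprod D'.φ
  have hs : Function.Surjective s := fun q => ⟨(g₁ q, -l' q), by
    show f₁ (g₁ q) + D'.φ (-l' q) = q
    rw [hl₁', map_neg, add_neg_cancel_right]⟩
  have hi : Function.Injective i := by
    refine (injective_iff_map_eq_zero i).2 fun p hp => ?_
    obtain ⟨h1, h2⟩ := Prod.mk_eq_zero.1 hp
    have h2' : f₀ p = 0 := neg_eq_zero.1 h2
    have := hl₀ p
    rw [h2', map_zero, h1, map_zero, add_zero] at this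
    exact this.symm
  have hex : Function.Exact i s := fun z => by
    refine ⟨fun hz => ?_, ?_⟩
    · obtain ⟨q, p'⟩ := z
      replace hz : f₁ q + D'.φ p' = 0 := hz
      let p₀ := -l q - g₀ p'
      have hp₀ : D.φ p₀ = q := by
        have h1 := congrArg g₁ hz
        rw [map_add, map_zero, hl₁, hgc] at h1
        show D.φ (-l q - g₀ p') = q
        rw [map_sub, map_neg]
        linear_combination (norm := module) -h1
      let c := f₀ p₀ + p'
      have hc : D'.φ c = 0 := by rw [map_add, ← hfc, hp₀, hz]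
      have hc' : f₀ (g₀ c) = c := by rw [hl₀', hc, map_zero, add_zero]
      refine ⟨p₀ - g₀ c, ?_⟩
      refine Prod.ext ?_ ?_
      · show D.φ (p₀ - g₀ c) = q
        rw [map_sub, hp₀, ← hgc, hc, map_zero, sub_zero]
      · show -f₀ (p₀ - g₀ c) = p'
        rw [map_sub, hc']
        simp only [c]
        abel
    · rintro ⟨p, rfl⟩
      show f₁ (D.φ p) + D'.φ (-f₀ p) = 0
      rw [map_neg, hfc, add_neg_cancel]
  haveI := Module.Projective.of_basis eQ'
  obtain ⟨t, ht⟩ := Module.projective_lifting_property s LinearMap.id hs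
  have e := (hex.splitSurjectiveEquiv hi ⟨t, ht⟩).1
  have := ((eQ.prod eP').map e).indexEquiv (eP.prod eQ')
  simpa [add_comm] using Fintype.card_congr this

end Groth.Agent.Desc44.ConormalEuler
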