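import Mathlib

/-! Morphisms of two-term complexes that are quasi-isomorphisms. -/

set_option autoImplicit false

universe w v u

open CategoryTheory CategoryTheory.Limits HomologicalComplex

noncomputable section

namespace Groth.Agent.Desc44.DoubleQIso

variable {A : Type u} [Category.{v} A] [Abelian A]

lemma double_id_exactAt (Q : A) {a b : ℤ} (hab : (ComplexShape.up ℤ).Rel a b) (k : ℤ) :
    (double (𝟙 Q) hab).ExactAt k := by
  have hab' : a + 1 = b := hab
  by_cases h₀ : k = a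
  · subst h₀
    rw [exactAt_iff' _ (k - 1) k b (by simp) (by simp [← hab']),
      ShortComplex.exact_iff_mono _ (double_d_eq_zero₀ (𝟙 Q) hab _ _ (by omega))]
    show Mono ((double (𝟙 Q) hab).d k b)
    rw [double_d _ _ (by omega)]
    infer_instance
  by_cases h₁ : k = b
  · subst h₁
    rw [exactAt_iff' _ a k (k + 1) (by simp; omega) (by simp),
      ShortComplex.exact_iff_epi _ (double_d_eq_zero₁ (𝟙 Q) hab _ _ (by omega))]
    show Epi ((double (𝟙 Q) hab).d a k)
    rw [double_d _ _ (by omega)]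
    infer_instance
  exact ExactAt.of_isZero (isZero_double_X (𝟙 Q) hab k h₀ h₁)

section map

variable {X₀ X₁ Y₀ Y₁ : A} (f : X₀ ⟶ X₁) (g : Y₀ ⟶ Y₁) (u : X₀ ⟶ Y₀) (v : X₁ ⟶ Y₁) (w : u ≫ g = f ≫ v)
  {a b : ℤ} (hab : (ComplexShape.up ℤ).Rel a b)

lemma ne_of_rel {a b : ℤ} (hab : (ComplexShape.up ℤ).Rel a b) : a ≠ b := by
  have : a + 1 = b := hab
  omega

/-- The morphism of two-term complexes given by a commutative square. -/
def map : double f hab ⟶ double g hab :=
  mkHomFromDouble hab (ne_of_rel hab) (u ≫ (doubleXIso₀ g hab).inv) (v ≫ (doubleXIso₁ g hab (ne_of_rel hab)).inv)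
    (by rw [double_d _ _ (ne_of_rel hab), Category.assoc, Iso.inv_hom_id_assoc, reassoc_of% w])
    (fun k hk => by rw [double_d_eq_zero₀ _ _ _ _ (ne_of_rel hab).symm, comp_zero])

lemma map_f₀ : (map f g u v w hab).f a = (doubleXIso₀ f hab).hom ≫ u ≫ (doubleXIso₀ g hab).inv :=
  mkHomFromDouble_f₀ ..

lemma map_f₁ : (map f g u v w hab).f b =
    (doubleXIso₁ f hab (ne_of_rel hab)).hom ≫ v ≫ (doubleXIso₁ g hab (ne_of_rel hab)).inv :=
  mkHomFromDouble_f₁ ..

end map

/-- A square whose rows extend to short exact sequences with the same cokernel is a quasi-isomorphism. -/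
theorem nonempty_iso [HasDerivedCategory.{w} A] {X₀ X₁ Y₀ Y₁ Q : A} (f : X₀ ⟶ X₁) (g : Y₀ ⟶ Y₁)
    (u : X₀ ⟶ Y₀) (v : X₁ ⟶ Y₁) (w' : u ≫ g = f ≫ v) (p : Y₀ ⟶ Q) (q : Y₁ ⟶ Q) (w'' : g ≫ q = p)
    (hu : u ≫ p = 0) (hv : v ≫ q = 0)
    (hS₀ : (ShortComplex.mk u p hu).ShortExact) (hS₁ : (ShortComplex.mk v q hv).ShortExact)
    {a b : ℤ} (hab : (ComplexShape.up ℤ).Rel a b) :
    Nonempty (DerivedCategory.Q.obj (double f hab) ≅ DerivedCategory.Q.obj (double g hab)) := by
  have hne := ne_of_rel hab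
  let F := map f g u v w' hab
  let G := map g (𝟙 Q) p q (by rw [Category.comp_id, w'']) hab
  have hFG : F ≫ G = 0 := by
    apply from_double_hom_ext
    · simp only [F, G, comp_f, map_f₀, zero_f, Category.assoc, Iso.inv_hom_id_assoc]
      rw [← Category.assoc u, hu]; simp
    · simp only [F, G, comp_f, map_f₁, zero_f, Category.assoc, Iso.inv_hom_id_assoc]
      rw [← Category.assoc v, hv]; simp
  let S := ShortComplex.mk F G hFG
  have hS : S.ShortExact := shortExact_of_degreewise_shortExact _ fun k => by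
    by_cases h₀ : k = a
    · subst h₀
      refine ShortComplex.shortExact_of_iso (ShortComplex.isoMk (doubleXIso₀ f hab).symm
        (doubleXIso₀ g hab).symm (doubleXIso₀ (𝟙 Q) hab).symm ?_ ?_) hS₀
      · show (doubleXIso₀ f hab).inv ≫ F.f k = u ≫ (doubleXIso₀ g hab).inv
        simp [F, map_f₀]
      · show (doubleXIso₀ g hab).inv ≫ G.f k = p ≫ (doubleXIso₀ (𝟙 Q) hab).inv
        simp [G, map_f₀]
    by_cases h₁ : k = b
    · subst h₁
      refine ShortComplex.shortExact_of_iso (ShortComplex.isoMk (doubleXIso₁ f hab hne).symm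
        (doubleXIso₁ g hab hne).symm (doubleXIso₁ (𝟙 Q) hab hne).symm ?_ ?_) hS₁
      · show (doubleXIso₁ f hab hne).inv ≫ F.f k = v ≫ (doubleXIso₁ g hab hne).inv
        simp [F, map_f₁]
      · show (doubleXIso₁ g hab hne).inv ≫ G.f k = q ≫ (doubleXIso₁ (𝟙 Q) hab hne).inv
        simp [G, map_f₁]
    exact
      { exact := ShortComplex.exact_of_isZero_X₂ _ (isZero_double_X g hab k h₀ h₁)
        mono_f := ⟨fun _ _ _ => (isZero_double_X f hab k h₀ h₁).eq_of_tgt _ _⟩
        epi_g := ⟨fun _ _ _ => (isZero_double_X (𝟙 Q) hab k h₀ h₁).eq_of_src _ _⟩ }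
  have hz : ∀ k, IsZero ((double (𝟙 Q) hab).homology k) := fun k => (double_id_exactAt Q hab k).isZero_homology
  haveI : QuasiIso F := by
    rw [quasiIso_iff]
    intro k
    rw [quasiIsoAt_iff_isIso_homologyMap]
    have h1 : Mono (homologyMap F k) := by
      have := hS.homology_exact₁ (k - 1) k (by simp)
      exact this.mono_g ((hz (k - 1)).eq_of_src _ _)
    have h2 : Epi (homologyMap F k) := by
      have := hS.homology_exact₂ k
      exact this.epi_f ((hz k).eq_of_tgt _ _)
    exact isIso_of_mono_of_epi _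
  exact ⟨asIso (DerivedCategory.Q.map F)⟩

end Groth.Agent.Desc44.DoubleQIso
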