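import Groth.Agent.Omega.ConormalSeq
import Groth.Agent.Omega.ConormalSplit
import Groth.Agent.Omega.ConormalMap
import Groth.Agent.Omega.Retraction
import Groth.Agent.Omega.Transitivity
import Groth.Agent.Omega.Lift
import Groth.Agent.Omega.Exists
import Groth.Agent.GrpScheme.SectionConormal
import Groth.Agent.CycLib.ChowOp.Ops
import Groth.Agent.S5016
import Groth.Agent.S5018
import Groth.Agent.S1488
import Groth.Agent.PinchLib.Modules
import Groth.Agent.Desc44.DoubleQIso

/-! Comparison of the cotangent complexes along a smooth morphism of ambient schemes. -/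

set_option autoImplicit false
set_option linter.style.haveILetI false
set_option backward.isDefEq.respectTransparency false
set_option backward.isDefEq.respectTransparency.types false
set_option maxHeartbeats 400000

universe u

open CategoryTheory CategoryTheory.Limits AlgebraicGeometry TopologicalSpace Opposite
open OmegaSh Groth.Agent.Omega Groth.Agent.Omega.Basic

noncomputable section

namespace Groth.Agent.Desc44.CotangentCompare

variable {X V W Y : Scheme.{u}}

lemma pullSect_nat {h : X ⟶ V} {M N : V.Modules} (α : M ⟶ N) (U : V.Opens) (m : Γ(M, U)) :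
    ((Scheme.Modules.pullback h).map α).app (h ⁻¹ᵁ U) (pullSect h M U m) = pullSect h N U (α.app U m) :=
  (congr(Scheme.Modules.Hom.app $((Scheme.Modules.pullbackPushforwardAdjunction h).unit.naturality α) U m)).symm

/-- The two conormal sequences of `X → W → V` and the compatibility between them. -/
theorem exists_comparison (g : V ⟶ Y) (p : W ⟶ V) [Smooth p] (j : X ⟶ W) [IsImmersion j] [QuasiCompact j]
    [IsImmersion (j ≫ p)] [QuasiCompact (j ≫ p)]
    {Ω : V.Modules} {d : Der g Ω} (hd : IsUniversal d)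
    (φ : Omega.conormal (j ≫ p) ⟶ (Scheme.Modules.pullback (j ≫ p)).obj Ω) (hφ : IsConormalDiff (j ≫ p) d φ)
    {ΩW : W.Modules} {dW : Der (p ≫ g) ΩW} (hdW : IsUniversal dW)
    (φW : Omega.conormal j ⟶ (Scheme.Modules.pullback j).obj ΩW) (hφW : IsConormalDiff j dW φW) :
    ∃ (Q : X.Modules) (a : Omega.conormal (j ≫ p) ⟶ Omega.conormal j) (b : Omega.conormal j ⟶ Q)
      (c : (Scheme.Modules.pullback (j ≫ p)).obj Ω ⟶ (Scheme.Modules.pullback j).obj ΩW)
      (e : (Scheme.Modules.pullback j).obj ΩW ⟶ Q) (w₁ : a ≫ b = 0) (w₂ : c ≫ e = 0),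
      FlatMod.IsFinLocFree Q ∧ a ≫ φW = φ ≫ c ∧ φW ≫ e = b ∧
        (ShortComplex.mk a b w₁).ShortExact ∧ (ShortComplex.mk c e w₂).ShortExact := by
  have hfs : MoreMor.IsFormallySmoothHom p := ((Groth.Agent.S1488.result p).1 inferInstance).2
  obtain ⟨ΩR, dR, hdR⟩ := Groth.Agent.Omega.Exists.exists_isUniversal (f := p)
  obtain ⟨c₁, hc₁, -⟩ := Basic.existsUnique_diffCompat (f := g) (f' := p ≫ g) p (b := 𝟙 Y)
    (by rw [Category.comp_id]) hd dW
  obtain ⟨c₂, hc₂, -⟩ := Basic.existsUnique_diffCompat (f := p ≫ g) (f' := p) (𝟙 W) (b := g)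
    (by rw [Category.id_comp]) hdW dR
  obtain ⟨ψ, hψ, -⟩ := ConormalMap.existsUnique_conormalMap (i := j) (i' := j ≫ p) (g := p) (gZ := 𝟙 X)
    (Category.id_comp _)
  obtain ⟨b, hb⟩ := GrpScheme.SectionConormal.exists_conormalDiff j dR
  let γ : ΩW ⟶ ΩR := (Scheme.Modules.pullbackId W).inv.app ΩW ≫ c₂
  have hw : c₁ ≫ γ = 0 := Transitivity.comp_eq_zero hd hc₁ hc₂
  obtain ⟨hcol⟩ := Transitivity.nonempty_isColimit hd hdW hdR hc₁ hc₂
  have hR : FlatMod.IsFinLocFree ΩR := Groth.Agent.S5018.result p hfs ΩR dR hdR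
  have hse : (ShortComplex.mk c₁ γ hw).ShortExact :=
    { exact := ShortComplex.exact_of_g_is_cokernel _ hcol
      mono_f := Groth.Agent.S5016.result g (p ≫ g) p rfl hfs Ω d hd ΩW dW hdW c₁ hc₁
      epi_g := epi_of_isColimit_cofork hcol }
  obtain ⟨hw₂, hse₂⟩ := CycLib.ChowOp.shortExact_pullback j c₁ γ hw hse hR
  let Q := (Scheme.Modules.pullback j).obj ΩR
  let a : Omega.conormal (j ≫ p) ⟶ Omega.conormal j := (Scheme.Modules.pullbackId X).inv.app _ ≫ ψ
  let c : (Scheme.Modules.pullback (j ≫ p)).obj Ω ⟶ (Scheme.Modules.pullback j).obj ΩW :=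
    (Scheme.Modules.pullbackComp j p).inv.app Ω ≫ (Scheme.Modules.pullback j).map c₁
  obtain ⟨w₀, hex₀, hepi₀⟩ := ConormalSeq.exact_and_epi hdR hψ hb
  have hmono₀ := ConormalSplit.mono_conormalMap (i := j) (j := j ≫ p) (p := p) hψ
  have hse₀ : (ShortComplex.mk ψ b w₀).ShortExact := { exact := hex₀, mono_f := hmono₀, epi_g := hepi₀ }
  have w₁ : a ≫ b = 0 := by rw [Category.assoc, w₀, comp_zero]
  have w₂ : c ≫ (Scheme.Modules.pullback j).map γ = 0 := by rw [Category.assoc, hw₂, comp_zero]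
  refine ⟨Q, a, b, c, (Scheme.Modules.pullback j).map γ, w₁, w₂, ?_, ?_, ?_, ?_, ?_⟩
  · exact KFlat.LocFree.isFinLocFree_pull _ hR
  · refine Retraction.hom_ext_conormal (j ≫ p) fun U s => ?_
    change φW.app _ (ψ.app _ (((Scheme.Modules.pullbackId X).inv.app _).app _ (conormalSect (j ≫ p) U s))) =
      c.app _ (φ.app _ (conormalSect (j ≫ p) U s))
    rw [Transitivity.pullbackId_inv_app, hφ]
    have hψs := hψ.2 U s (ConormalMap.lift (i := j) (g := p) (gZ := 𝟙 X) (Category.id_comp _) U s)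
      (ConormalMap.idealSect_lift _ U s) ((j ≫ p) ⁻¹ᵁ U) le_rfl le_rfl
    have hid : ∀ (O : X.Opens) (t : Γ(Omega.conormal j, O)),
        (Omega.conormal j).presheaf.map (homOfLE (le_refl O)).op t = t := fun O t =>
      congr($((Omega.conormal j).presheaf.map_id _) t)
    erw [hid, hid] at hψs
    refine ((congrArg (fun t => φW.app _ t) hψs).trans (hφW (p ⁻¹ᵁ U) _)).trans ?_
    refine (congrArg (fun t => pullSect j ΩW (p ⁻¹ᵁ U) (dW.app (p ⁻¹ᵁ U) t))
      (ConormalMap.idealSect_lift _ U s)).trans ?_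
    change _ = ((Scheme.Modules.pullback j).map c₁).app _
      (((Scheme.Modules.pullbackComp j p).inv.app Ω).app _ _)
    refine Eq.trans ?_ (congrArg (fun t => ((Scheme.Modules.pullback j).map c₁).app _ t)
      (Lift.pullbackComp_inv_pullSect j U _)).symm
    refine Eq.trans ?_ (pullSect_nat c₁ (p ⁻¹ᵁ U) _).symm
    exact (congrArg (fun t => pullSect j ΩW (p ⁻¹ᵁ U) t) (hc₁ U _)).symm
  · refine Retraction.hom_ext_conormal j fun U s => ?_
    change ((Scheme.Modules.pullback j).map γ).app _ (φW.app _ (conormalSect j U s)) = b.app _ _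
    rw [hφW, hb, pullSect_nat]
    exact congrArg _ (Transitivity.comp_pullbackId_app hc₂ _ _)
  · exact ShortComplex.shortExact_of_iso (S₁ := ShortComplex.mk ψ b w₀)
      (ShortComplex.isoMk ((Scheme.Modules.pullbackId X).app (Omega.conormal (j ≫ p))) (Iso.refl _)
      (Iso.refl _) (by simp only [a, Iso.app_hom, Iso.refl_hom, Category.comp_id]; exact (Iso.app (Scheme.Modules.pullbackId X) (Omega.conormal (j ≫ p))).hom_inv_id_assoc ψ) (by simp)) hse₀
  · exact ShortComplex.shortExact_of_iso (S₁ := ShortComplex.mk _ _ hw₂)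
      (ShortComplex.isoMk ((Scheme.Modules.pullbackComp j p).app Ω) (Iso.refl _)
      (Iso.refl _) (by simp [c]) (by simp)) hse₂

end Groth.Agent.Desc44.CotangentCompare
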