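import Groth.Agent.Desc44.CotangentCompare
import Groth.Agent.Omega.H1Conormal
import Groth.Agent.AlgSpEN.RegKinds
import Groth.Agent.S8656
import Groth.Agent.ResK0.Basic
import Groth.Prelude.Def_KRR

/-! Cotangent complexes and classes of two factorisations. -/

set_option autoImplicit false
set_option linter.style.haveILetI false

universe u

open CategoryTheory CategoryTheory.Limits AlgebraicGeometry TopologicalSpace Opposite
open OmegaSh Groth.Agent.Omega

noncomputable section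

namespace Groth.Agent.Desc44.CotangentFactor

variable {X Y V V' W : Scheme.{u}}

/-- Two maps linked by short exact sequences with a common finite locally free cokernel. -/
def Cmp {A B C D : X.Modules} (φ : A ⟶ B) (ψ : C ⟶ D) : Prop :=
  ∃ (Q : X.Modules) (a : A ⟶ C) (b : C ⟶ Q) (c : B ⟶ D) (e : D ⟶ Q) (w₁ : a ≫ b = 0) (w₂ : c ≫ e = 0),
    FlatMod.IsFinLocFree Q ∧ a ≫ ψ = φ ≫ c ∧ ψ ≫ e = b ∧
      (ShortComplex.mk a b w₁).ShortExact ∧ (ShortComplex.mk c e w₂).ShortExact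

theorem side (g : V ⟶ Y) (p : W ⟶ V) [Smooth p] (j : X ⟶ W) [IsClosedImmersion j] (i : X ⟶ V)
    [IsClosedImmersion i] (hi : j ≫ p = i) (h : W ⟶ Y) (hh : p ≫ g = h)
    (Ω : V.Modules) (d : Der g Ω) (hd : IsUniversal d)
    (φ : Omega.conormal i ⟶ (Scheme.Modules.pullback i).obj Ω) (hφ : IsConormalDiff i d φ)
    (ΩW : W.Modules) (dW : Der h ΩW) (hdW : IsUniversal dW)
    (φW : Omega.conormal j ⟶ (Scheme.Modules.pullback j).obj ΩW) (hφW : IsConormalDiff j dW φW) :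
    Cmp φ φW := by
  subst hi hh
  exact CotangentCompare.exists_comparison g p j hd φ hφ hdW φW hφW

theorem exists_common (g : V ⟶ Y) [Smooth g] (i : X ⟶ V) [IsClosedImmersion i]
    (g' : V' ⟶ Y) [Smooth g'] (i' : X ⟶ V') [IsClosedImmersion i'] (h : i ≫ g = i' ≫ g')
    (Ω : V.Modules) (d : Der g Ω) (hd : IsUniversal d) (Ω' : V'.Modules) (d' : Der g' Ω') (hd' : IsUniversal d')
    (φ : Omega.conormal i ⟶ (Scheme.Modules.pullback i).obj Ω) (hφ : IsConormalDiff i d φ)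
    (φ' : Omega.conormal i' ⟶ (Scheme.Modules.pullback i').obj Ω') (hφ' : IsConormalDiff i' d' φ') :
    ∃ (W : Scheme.{u}) (π : W ⟶ Y) (j : X ⟶ W) (ΩW : W.Modules) (ψ : Omega.conormal j ⟶ (Scheme.Modules.pullback j).obj ΩW),
      IsClosedImmersion j ∧ Smooth π ∧ j ≫ π = i ≫ g ∧ FlatMod.IsFinLocFree ΩW ∧ Cmp φ ψ ∧ Cmp φ' ψ := by
  let j₀ : X ⟶ pullback g g' := pullback.lift i i' h
  haveI : IsImmersion (j₀ ≫ pullback.fst g g') := by rw [pullback.lift_fst]; infer_instance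
  haveI : IsImmersion j₀ := IsImmersion.of_comp j₀ (pullback.fst g g')
  let j := j₀.liftCoborder
  let ι := j₀.coborderRange.ι
  let π := ι ≫ pullback.fst g g' ≫ g
  have hj₁ : j ≫ ι ≫ pullback.fst g g' = i := by
    rw [Scheme.Hom.liftCoborder_ι_assoc, pullback.lift_fst]
  have hj₂ : j ≫ ι ≫ pullback.snd g g' = i' := by
    rw [Scheme.Hom.liftCoborder_ι_assoc, pullback.lift_snd]
  haveI : IsClosedImmersion j := inferInstance
  haveI : Smooth π := inferInstance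
  obtain ⟨ΩW, dW, hdW⟩ := Omega.Exists.exists_isUniversal (f := π)
  obtain ⟨ψ, hψ⟩ := GrpScheme.SectionConormal.exists_conormalDiff j dW
  refine ⟨_, π, j, ΩW, ψ, inferInstance, inferInstance, ?_,
    Groth.Agent.S5018.result π ((Groth.Agent.S1488.result π).1 inferInstance).2 ΩW dW hdW, ?_, ?_⟩
  · simp only [π, ← Category.assoc] at hj₁ ⊢
    rw [hj₁]
  · exact side g (ι ≫ pullback.fst g g') j i hj₁ π (Category.assoc _ _ _) Ω d hd φ hφ ΩW dW hdW ψ hψ
  · exact side g' (ι ≫ pullback.snd g g') j i' hj₂ π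
      (by rw [Category.assoc, ← pullback.condition]) Ω' d' hd' φ' hφ' ΩW dW hdW ψ hψ

theorem isFinLocFree_conormal {f : X ⟶ Y} (hf : ∀ x : X, Synt.IsKoszulAt f x) (g : V ⟶ Y) [Smooth g]
    (i : X ⟶ V) [IsClosedImmersion i] (hi : i ≫ g = f) : FlatMod.IsFinLocFree (Omega.conormal i) := by
  obtain ⟨himm, hk⟩ := Groth.Agent.S8656.result f hf g i hi
  refine Omega.H1Conormal.isFinLocFree_conormal ⟨himm, fun z => ?_⟩
  obtain ⟨U, hz, hc, rs, hrs, hker⟩ := hk z
  exact ⟨U, hz, hc, rs, AlgSpEN.seq_h1_of_koszul hrs, hker⟩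

theorem cl_sub_eq {A B C D : X.Modules} {φ : A ⟶ B} {ψ : C ⟶ D} (h : Cmp φ ψ)
    (hA : FlatMod.IsFinLocFree A) (hB : FlatMod.IsFinLocFree B) (hC : FlatMod.IsFinLocFree C)
    (hD : FlatMod.IsFinLocFree D) : KRR.cl X B - KRR.cl X A = KRR.cl X D - KRR.cl X C := by
  obtain ⟨Q, a, b, c, e, w₁, w₂, hQ, -, -, h₁, h₂⟩ := h
  have e₁ := ResK0.Basic.clSub_add (KRR.vbP X) h₁ hA hC hQ
  have e₂ := ResK0.Basic.clSub_add (KRR.vbP X) h₂ hB hD hQ
  simp only [KRR.cl] at *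
  rw [e₁, e₂]
  abel

end Groth.Agent.Desc44.CotangentFactor
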