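import Groth.Agent.EquidimPt.FieldBase
import Groth.Agent.EquidimPt.DimSum
import Groth.Agent.Fibres16.JacobsonDim
import Groth.Agent.FlatMisc.FibreDimScheme

/-!
# Dimension of the source through the loci of large fibre dimension
-/

set_option autoImplicit false
set_option linter.style.haveILetI false

universe u

open CategoryTheory AlgebraicGeometry Limits Topology TopologicalSpace
open Groth.Agent.EquidimPt

noncomputable section

namespace Groth.Agent.Desc44.DimSemi

variable (k : Type u) [Field k] {C X : Scheme.{u}} (π : C ⟶ X) (q : X ⟶ Spec (CommRingCat.of k))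
  [LocallyOfFiniteType π] [LocallyOfFiniteType q]

/-- The points with fibre of dimension at least `j`. -/
abbrev B (j : ℕ) : Set X := {x : X | (j : WithBot ℕ∞) ≤ topologicalKrullDim (π.fiber x)}

omit [LocallyOfFiniteType π] in
lemma topDim_add_le {Z : Set X} (hZ : IsClosed Z) (j n : ℕ) (h : ∀ z ∈ Z, dimOver k q z + j ≤ n) :
    topologicalKrullDim Z + (j : WithBot ℕ∞) ≤ n := by
  have hk : topologicalKrullDim Z = Order.krullDim Z :=
    Fibres16.JacobsonDim.topDim_eq_of_isLocallyClosed hZ.isLocallyClosed
  rcases Z.eq_empty_or_nonempty with rfl | ⟨z₀, hz₀⟩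
  · rw [hk, Order.krullDim_eq_bot, WithBot.bot_add]
    exact bot_le
  · have hjn : j ≤ n := le_trans (Nat.le_add_left j _) (h z₀ hz₀)
    let F : Z → ℕ := fun z => dimOver k q z.1
    have hF : StrictMono F := fun a b hab => by
      have h1 : b.1 ⤳ a.1 := hab.le
      refine lt_of_le_of_ne (dimOver_le k q h1) fun e => ?_
      have := eq_of_dimOver_le k q h1 e.ge
      exact hab.ne (Subtype.ext this).symm
    have hle : Order.krullDim Z ≤ ((n - j : ℕ) : WithBot ℕ∞) := iSup_le fun p => by
      have h1 := LTSeries.head_add_length_le_nat (p.map F hF)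
      have h2 := h p.last.1 p.last.2
      have h3 : (p.map F hF).last = dimOver k q p.last.1 := rfl
      have h4 : (p.map F hF).length = p.length := rfl
      exact_mod_cast (show p.length ≤ n - j by omega)
    rw [hk]
    refine (add_le_add_left hle _).trans ?_
    exact_mod_cast (Nat.sub_add_cancel hjn).le

omit [LocallyOfFiniteType π] in
lemma dimOver_le_topDim {Z : Set X} {z : X} (hz : z ∈ Z) (hZ : IsClosed Z) :
    (dimOver k q z : WithBot ℕ∞) ≤ topologicalKrullDim Z := by
  rw [← topDim_closure_eq k q z]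
  exact (IsEmbedding.inclusion (closure_minimal (Set.singleton_subset_iff.2 hz) hZ)).isInducing.topologicalKrullDim_le

lemma mem_B_iff (j : ℕ) (x : X) :
    x ∈ B π j ↔ ∃ c, π c = x ∧ (j : WithBot ℕ∞) ≤ FlatMor.fibreDimAt π c := by
  constructor
  · intro hx
    obtain ⟨c, hc, h⟩ := exists_le_of_topDim_fibre π (hx.trans_eq (π.fiberHomeo x).isHomeomorph.topologicalKrullDim_eq)
    exact ⟨c, hc, h.trans (le_fibreDimAt π c)⟩
  · rintro ⟨c, rfl, h⟩
    exact h.trans (fibreDimAt_le_topDim_fiber π c)

include k q in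
theorem exists_gen [CompactSpace C] [CompactSpace X] {j : ℕ} {z : X} (hz : z ∈ closure (B π j)) :
    ∃ x ∈ B π j, x ⤳ z := by
  haveI : IsLocallyNoetherian X := LocallyOfFiniteType.isLocallyNoetherian q
  haveI : IsNoetherian X := ⟨⟩
  haveI : IsLocallyNoetherian C := LocallyOfFiniteType.isLocallyNoetherian π
  haveI : IsNoetherian C := ⟨⟩
  haveI : QuasiCompact π := ⟨fun U _ _ => NoetherianSpace.isCompact _⟩
  haveI : LocallyOfFinitePresentation π := LocallyOfFinitePresentation.iff_locallyOfFiniteType.2 inferInstance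
  let U : Set C := {c | ¬ (j : WithBot ℕ∞) ≤ FlatMor.fibreDimAt π c}
  have hU : IsOpen U := by
    rcases j with _ | m
    · convert isOpen_empty
      refine Set.eq_empty_iff_forall_notMem.2 fun c hc => hc ?_
      obtain ⟨n, t, -, -, -, -, hfd⟩ := fibre_facts π c
      rw [hfd]
      exact Nat.cast_le.2 (Nat.zero_le _)
    · convert FlatMisc.FibreDimScheme.isOpen_fibreDimAt_le π m using 1
      ext c
      obtain ⟨n, t, -, -, -, -, hfd⟩ := fibre_facts π c
      simp only [U, Set.mem_ofPred_eq, hfd, Nat.cast_le]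
      omega
  have hC : IsConstructible Uᶜ :=
    (IsRetrocompact.isConstructible hU (fun W _ _ => NoetherianSpace.isCompact _)).compl
  have hB : B π j = π.base '' Uᶜ := by
    ext x
    rw [mem_B_iff]
    simp [U, and_comm]
  have hc : IsConstructible (B π j) := hB ▸ π.isConstructible_image hC
  exact LimTop.exists_specializes_of_mem_closure
    (fun x => ⟨Set.univ, isOpen_univ, trivial, {Subtype.val ⁻¹' B π j}, fun T hT => by
      rw [Set.mem_singleton_iff.1 hT]
      exact (hc.preimage_of_isOpenEmbedding (Homeomorph.Set.univ X).isOpenEmbedding).isLocallyConstructible,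
      (Set.sInter_singleton _).symm⟩) hz

include k q in
theorem main [CompactSpace C] [CompactSpace X] (n : ℕ) :
    topologicalKrullDim C ≤ n ↔
      ∀ j : ℕ, topologicalKrullDim (closure (B π j)) + (j : WithBot ℕ∞) ≤ n := by
  rw [topDim_eq_iSup k (π ≫ q), iSup_le_iff]
  constructor
  · intro h j
    refine topDim_add_le k q isClosed_closure j n fun z hz => ?_
    obtain ⟨x, hx, hxz⟩ := exists_gen k π q hz
    obtain ⟨c, rfl, hc⟩ := exists_le_of_topDim_fibre π
      (hx.trans_eq (π.fiberHomeo x).isHomeomorph.topologicalKrullDim_eq)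
    obtain ⟨t, ht, hD⟩ := exists_dimOver_eq k π q c
    rw [ht, Nat.cast_le] at hc
    have h1 := dimOver_le k q hxz
    have h2 := Nat.cast_le.1 (h c)
    omega
  · intro h c
    obtain ⟨t, ht, hD⟩ := exists_dimOver_eq k π q c
    have hB : π c ∈ B π t := (ht ▸ le_fibreDimAt π c).trans (fibreDimAt_le_topDim_fiber π c)
    rw [hD, Nat.cast_add]
    exact (add_le_add_left (dimOver_le_topDim k q (subset_closure hB) isClosed_closure) _).trans (h t)

end Groth.Agent.Desc44.DimSemi
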