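import Groth.Agent.Desc44.QCohDescent.EtaleSheaf
import Groth.Agent.EtaleSite.AmitsurAcyclic
import Groth.Agent.EtaleSite.AmitsurGamma
import Groth.Agent.EtZarCmp.Basic
import Groth.Agent.EtZarUlift.Main
import Groth.Agent.CohBase.HonPull
import Groth.Agent.S0110
import Groth.Agent.ExtFilt.Stalkwise

/-!
# Etale and Zariski cohomology of a quasi-coherent module
-/

set_option autoImplicit false
set_option linter.style.haveILetI false
set_option backward.isDefEq.respectTransparency false
set_option backward.isDefEq.respectTransparency.types false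

universe u

open CategoryTheory CategoryTheory.Limits AlgebraicGeometry TopologicalSpace Opposite TensorProduct
open Groth.Agent.EtaleSite Groth.Agent.EtaleSite.Amitsur
open Groth.Agent.PullStalk.Sky Groth.Agent.PullStalk.Exact Groth.Agent.PullStalk.Basic Groth.Agent.AdeqAmitsur
open Groth.Agent.ExtFilt.Stalkwise (germM_res')

noncomputable section

namespace Groth.Agent.Desc44.EtAssocCoh

open Groth.Agent.Desc44

variable {S X : Scheme.{u}}

/-- Sheaves whose sections over affines are base changes have exact Amitsur complexes. -/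
theorem cech_of_tens (P : EtCoh.Ab X)
    (h : ∀ (E : X.Etale), IsAffine E.left → ∃ (N : Type (u + 1)) (_ : AddCommGroup N) (_ : Module (gr E) N)
      (τ : tens (E := E) N ⟶ secPre E P.obj),
      ∀ W : Over E, IsAffine W.left.left → Function.Bijective (τ.app (op W)).hom) : Cech P := by
  intro E hE U hUa hU m c hc
  obtain ⟨N, _, _, τ, hτ⟩ := h E hE
  obtain ⟨a, rfl⟩ := (hτ (O U (m + 1)) (isAffine_O U _)).2 c
  obtain ⟨b, hb⟩ := exactD_tens U hU m N a
    ((hτ (O U (m + 2)) (isAffine_O U _)).1 (by rw [D_nat, hc, map_zero]))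
  exact ⟨(τ.app _).hom b, by rw [← D_nat, hb]⟩

variable (F : S.Modules)

/-- The associated sheaf. -/
def assoc [F.IsQuasicoherent] : EtCoh.Ab S :=
  ⟨QCohDescent.assocPresheaf F, QCohDescent.isSheaf_assocPresheaf F⟩

theorem iso_assoc [F.IsQuasicoherent] (G : EtCoh.Ab S) (hG : EtAssoc.IsAssoc F G) :
    Nonempty (G ≅ assoc F) := by
  obtain ⟨e, he⟩ := hG
  exact ⟨(fullyFaithfulSheafToPresheaf _ _).preimageIso (NatIso.ofComponents
    (fun U => AddEquiv.toAddCommGrpIso
      (show (G.obj.obj U : Type (u + 1)) ≃+ ((QCohDescent.assocPresheaf F).obj U : Type (u + 1)) from e U.unop))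
    (fun {U V} g => AddCommGrpCat.hom_ext (DFunLike.ext _ _ fun s => ULift.ext _ _ (he U.unop V.unop g.unop s))))⟩

variable {F}

variable (F) in
/-- Restriction, as a map of sections of modules. -/
def rsec {U U' : S.Etale} (g : U' ⟶ U) :
    Γ((Scheme.Modules.pullback U.hom).obj F, ⊤) →+ Γ((Scheme.Modules.pullback U'.hom).obj F, ⊤) :=
  (EtAssoc.resMap F g).hom

lemma rsec_eq {U U' : S.Etale} (g : U' ⟶ U) (s : Γ((Scheme.Modules.pullback U.hom).obj F, ⊤)) :
    rsec F g s = EtAssoc.resMap F g s := rfl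

lemma resMap_eq {U U' : S.Etale} (g : U' ⟶ U) (s : EtAssoc.obj F U) :
    EtAssoc.resMap F g s = (QCohDescent.θ U.hom F g.left U'.hom (Over.w g.hom)).app ⊤
      (LimTop.unitSec g.left ((Scheme.Modules.pullback U.hom).obj F)
        (Opens.map_top g.left.base).ge s) := by
  rw [← QCohDescent.step2a_eq]
  rfl

lemma resMap_smul {U U' : S.Etale} (g : U' ⟶ U) (r : Γ(U.left, ⊤))
    (s : Γ((Scheme.Modules.pullback U.hom).obj F, ⊤)) :
    rsec F g (r • s) = g.left.appTop r • rsec F g s := by
  have h : ∀ t, rsec F g t = (QCohDescent.θ U.hom F g.left U'.hom (Over.w g.hom)).app ⊤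
      (LimTop.unitSec g.left ((Scheme.Modules.pullback U.hom).obj F) (Opens.map_top g.left.base).ge t) :=
    resMap_eq g
  rw [h, h, LimTop.unitSec_smul, Scheme.Modules.Hom.app_smul]
  congr 1
  simp [Scheme.Hom.appLE, Scheme.Hom.appTop]

/-- Bijectivity out of a tensor product does not see the algebra structure up to equality. -/
theorem bijective_transfer {A B : Type u} {N : Type u} {N' P : Type*} [CommRing A] [CommRing B] [AddCommGroup N] [Module A N]
    [AddCommGroup N'] [Module A N'] [AddCommGroup P] (a₁ a₂ : Algebra A B) (h : a₁ = a₂) (v : N' ≃ₗ[A] N)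
    (f₁ : (letI := a₁; B ⊗[A] N') →+ P) (f₂ : (letI := a₂; B ⊗[A] N) →+ P) (hf₂ : Function.Bijective f₂)
    (heq : ∀ (b : B) (n : N'), f₁ (letI := a₁; b ⊗ₜ n) = f₂ (letI := a₂; b ⊗ₜ v n)) :
    Function.Bijective f₁ := by
  subst h
  letI := a₁
  have e : f₁ = f₂.comp (TensorProduct.congr (LinearEquiv.refl A B) v).toLinearMap.toAddMonoidHom := by
    refine DFunLike.ext _ _ fun x => ?_
    induction x using TensorProduct.induction_on with
    | zero => simp
    | add p q hp hq => simp only [map_add, hp, hq]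
    | tmul b n => exact heq b n
  rw [e]
  exact hf₂.comp (TensorProduct.congr (LinearEquiv.refl A B) v).bijective

section Tens

variable (F) (E : S.Etale)

/-- The global sections over an object, one universe up. -/
abbrev Nsec : Type (u + 1) := ULift.{u + 1} Γ((Scheme.Modules.pullback E.hom).obj F, ⊤)

/-- Scalar multiples of restrictions. -/
def τfun (W : Over E) : gr W.left ⊗[gr E] Nsec F E →+
    ULift.{u + 1} Γ((Scheme.Modules.pullback W.left.hom).obj F, ⊤) :=
  TensorProduct.liftAddHom
    (AddMonoidHom.mk' (fun a : gr W.left => AddMonoidHom.mk'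
      (fun n : Nsec F E => ULift.up (a • rsec F W.hom n.down))
      fun n n' => ULift.ext _ _ ((congrArg (a • ·) (map_add (rsec F W.hom) n.down n'.down)).trans (smul_add _ _ _)))
      fun a a' => DFunLike.ext _ _ fun n => ULift.ext _ _ (add_smul _ _ _))
    fun r a n => ULift.ext _ _ (by
      refine Eq.trans ?_ (congrArg (a • ·) (resMap_smul W.hom r n.down)).symm
      show (gm W.hom r * a) • rsec F W.hom n.down = a • gm W.hom r • rsec F W.hom n.down
      rw [mul_comm, mul_smul])

theorem τfun_tmul (W : Over E) (a : gr W.left) (n : Nsec F E) :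
    τfun F E W (a ⊗ₜ n) = ULift.up (a • rsec F W.hom n.down) := rfl

theorem τfun_bijective [F.IsQuasicoherent] [IsAffine E.left] (W : Over E) [IsAffine W.left.left] :
    Function.Bijective (τfun F E W) := by
  let M := (Scheme.Modules.pullback E.hom).obj F
  haveI : M.IsQuasicoherent := QCoh.isQuasicoherent_pullback E.hom F
  have hle : (⊤ : W.left.left.Opens) ≤ W.hom.left ⁻¹ᵁ ⊤ := (Opens.map_top W.hom.left.base).ge
  letI := (W.hom.left.appLE ⊤ ⊤ hle).hom.toAlgebra
  letI := LimTop.secModule W.hom.left M hle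
  haveI : IsScalarTower Γ(E.left, ⊤) Γ(W.left.left, ⊤) Γ((Scheme.Modules.pullback W.hom.left).obj M, ⊤) :=
    IsScalarTower.of_algebraMap_smul fun _ _ => rfl
  have hbc : IsBaseChange Γ(W.left.left, ⊤) (LimTop.unitSecLin W.hom.left M hle) :=
    LimTop.isBaseChange_unitSec W.hom.left M hle (isAffineOpen_top E.left) (isAffineOpen_top W.left.left)
  let θ := QCohDescent.θ E.hom F W.hom.left W.left.hom (Over.w W.hom.hom)
  haveI : IsIso θ := by unfold θ QCohDescent.θ; infer_instance
  have hθ : Function.Bijective (θ.app ⊤) := ConcreteCategory.bijective_of_isIso (θ.app ⊤)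
  have halg : (algOver W) = (W.hom.left.appLE ⊤ ⊤ hle).hom.toAlgebra := by
    refine Algebra.algebra_ext _ _ fun r => ?_
    show W.hom.left.appTop r = W.hom.left.appLE ⊤ ⊤ hle r
    simp [Scheme.Hom.appLE, Scheme.Hom.appTop]
  have hT := bijective_transfer (A := gr E) (B := gr W.left) (N := Γ(M, ⊤)) (N' := Nsec F E)
    (algOver W) (W.hom.left.appLE ⊤ ⊤ hle).hom.toAlgebra halg ULift.moduleEquiv
    (AddEquiv.ulift.toAddMonoidHom.comp (τfun F E W))
    ((θ.app ⊤).hom.comp hbc.equiv.toLinearMap.toAddMonoidHom) (hθ.comp hbc.equiv.bijective) fun a n => by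
      refine (congrArg ULift.down (τfun_tmul F E W a n)).trans (Eq.trans ?_ (congrArg (θ.app ⊤) (hbc.equiv_tmul a n.down)).symm)
      rw [Scheme.Modules.Hom.app_smul]
      exact congrArg (a • ·) (resMap_eq W.hom n.down)
  exact ((AddEquiv.ulift.bijective).of_comp_iff' (τfun F E W)).1 hT

theorem τfun_natural {W W' : Over E} (f : W' ⟶ W) (x : gr W.left ⊗[gr E] Nsec F E) :
    τfun F E W' (tr _ f x) = ULift.up (rsec F f.left (τfun F E W x).down) := by
  induction x using TensorProduct.induction_on with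
  | zero =>
    simp only [map_zero]
    exact ULift.ext _ _ (map_zero (rsec F f.left)).symm
  | add a b ha hb =>
    rw [map_add, map_add, ha, hb]
    refine ULift.ext _ _ ?_
    rw [map_add]
    exact (map_add (rsec F f.left) _ _).symm
  | tmul a n =>
    refine ULift.ext _ _ ?_
    show gm f.left a • rsec F W'.hom n.down = rsec F f.left (a • rsec F W.hom n.down)
    refine Eq.trans ?_ (resMap_smul f.left a _).symm
    rw [← Over.w f]
    exact congrArg (gm f.left a • ·) (QCohDescent.resMap_comp F f.left W.hom n.down)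

/-- The comparison as a map of presheaves. -/
def τ [F.IsQuasicoherent] : tens (E := E) (Nsec F E) ⟶ secPre E (assoc F).obj where
  app W := AddCommGrpCat.ofHom (τfun F E W.unop)
  naturality W W' f := AddCommGrpCat.hom_ext (DFunLike.ext _ _ fun x => τfun_natural F E f.unop x)

end Tens

theorem cech_assoc [F.IsQuasicoherent] : Cech (assoc F) :=
  cech_of_tens _ fun E hE => ⟨Nsec F E, inferInstance, inferInstance, τ F E, fun V hV => τfun_bijective F E V⟩

/-- Sheaves with exact Amitsur complexes have no higher cohomology on affine objects. -/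
theorem affVan_of_cech (F₀ : EtCoh.Ab S) (h₀ : Cech F₀) : EtZarCmp.AffVan F₀ := by
  have key : ∀ (q : ℕ) (W : S.Etale), IsAffine W.left → ∀ F : EtCoh.Ab S, Cech F →
      Subsingleton (Abelian.Ext (Flasque.freeOn W) F (q + 1)) := by
    intro q
    induction q with
    | zero =>
      intro W hW F hF
      refine SiteCoh.DimShift.subsingleton_one (SiteCoh.DimShift.inj_shortExact F) fun g => ?_
      obtain ⟨s, hs⟩ := Amitsur.sections_surjective _ (SiteCoh.DimShift.inj_shortExact F) hF W
        (Flasque.freeSec W _ g)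
      obtain ⟨a, ha⟩ := (Flasque.freeSec_bijective W _).2 s
      refine ⟨a, (Flasque.freeSec_bijective W _).1 ((Flasque.freeSec_comp W a _).trans ?_)⟩
      rw [ha]
      exact hs
    | succ q ih =>
      intro W hW F hF
      exact SiteCoh.DimShift.subsingleton_succ (SiteCoh.DimShift.inj_shortExact F) q
        (ih W hW _ (Amitsur.cech_X₃ _ (SiteCoh.DimShift.inj_shortExact F) hF))
  intro W hW q hq
  obtain ⟨r, rfl⟩ : ∃ r, q = r + 1 := ⟨q - 1, by omega⟩
  exact key r W hW _ h₀

theorem affVan_assoc [F.IsQuasicoherent] : EtZarCmp.AffVan (assoc F) :=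
  affVan_of_cech _ cech_assoc

/-- Sections of the restriction to an open. -/
def secMap (F : S.Modules) (U : S.Opens) :
    Γ(F, U) →+ EtAssoc.obj F ((EtZar.zarToEt S).obj U) :=
  LimTop.unitSec U.ι F (U := U) (W := ⊤) (fun z _ => z.2)

theorem secMap_bijective (F : S.Modules) (U : S.Opens) : Function.Bijective (secMap F U) := by
  have hU : U.ι ''ᵁ ⊤ = U := U.ι_image_top
  have h : ∀ m, secMap F U m = ((Scheme.Modules.restrictFunctorIsoPullback U.ι).hom.app F).app ⊤
      (QCoh.res F hU.le m) := fun m => by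
    rw [CohBase.restrictFunctorIsoPullback_app]
    exact (LimTop.unitSec_res U.ι F hU.le _ m).symm
  rw [show ⇑(secMap F U) = _ from funext h]
  refine (ConcreteCategory.bijective_of_isIso (((Scheme.Modules.restrictFunctorIsoPullback U.ι).hom.app F).app ⊤)).comp ?_
  refine Function.bijective_iff_has_inverse.mpr ⟨QCoh.res F hU.ge, fun m => ?_, fun m => ?_⟩
  · exact (QCoh.res_res F _ _ m).trans (QCoh.res_self F _ m)
  · exact (QCoh.res_res F _ _ m).trans (QCoh.res_self F _ m)

theorem secMap_natural (F : S.Modules) {U V : S.Opens} (i : V ⟶ U) (m : Γ(F, U)) :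
    secMap F V (QCoh.res F i.le m) = EtAssoc.resMap F ((EtZar.zarToEt S).map i) (secMap F U m) := by
  refine QCohDescent.sect_ext F fun x => ?_
  have hgerm : ∀ (U : S.Opens) (m : Γ(F, U)) (x : (U : Scheme.{u})),
      germM ((Scheme.Modules.pullback U.ι).obj F) ⊤ x trivial (secMap F U m) =
        QCohDescent.μ U.ι F x (specializes_of_eq (rfl : U.ι x = U.ι x)) (germM F U (U.ι x) x.2 m) := by
    intro U m x
    rw [QCohDescent.μ_germ]
    have hle : (⊤ : (U : Scheme.{u}).Opens) ≤ U.ι ⁻¹ᵁ U := fun z _ => z.2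
    exact germM_res' ((Scheme.Modules.pullback U.ι).obj F) (U := U.ι ⁻¹ᵁ U) (W := ⊤) hle x trivial
      (LFFrame.unitSec U.ι F U m)
  let y : (V : Scheme.{u}) := x
  have hyU : V.ι y ∈ U := i.le y.2
  have hw : S.homOfLE i.le ≫ U.ι = V.ι := S.homOfLE_ι i.le
  have hsp : V.ι y ⤳ U.ι (S.homOfLE i.le y) := specializes_of_eq (by rw [← Scheme.Hom.comp_apply, hw])
  have h1 := QCohDescent.lam_μ U.ι F (S.homOfLE i.le) V.ι hw y specializes_rfl
    (specializes_of_eq (rfl : U.ι (S.homOfLE i.le y) = U.ι (S.homOfLE i.le y))) hsp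
    (germM F U (U.ι (S.homOfLE i.le y)) (S.homOfLE i.le y).2 m)
  rw [← hgerm U m (S.homOfLE i.le y)] at h1
  refine Eq.trans ?_ ((QCohDescent.germ_resMap F ((EtZar.zarToEt S).map i) (secMap F U m) x).trans h1).symm
  refine (hgerm V (QCoh.res F i.le m) y).trans ?_
  rw [QCohDescent.μ_germ, QCohDescent.μ_germ]
  have hle : V.ι ⁻¹ᵁ V ≤ V.ι ⁻¹ᵁ U := V.ι.preimage_mono i.le
  refine Eq.trans (congrArg (germM ((Scheme.Modules.pullback V.ι).obj F) (V.ι ⁻¹ᵁ V) y y.2) ?_) (germM_res' _ hle y y.2 _)
  exact QCoh.app_res ((Scheme.Modules.pullbackPushforwardAdjunction V.ι).unit.app F) i.le m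

theorem resZar_assoc_iso [F.IsQuasicoherent] [EtZar.ZarCont S] :
    Nonempty ((EtZarUlift.lift S).obj (Coh.toAb F) ≅ (EtZar.resZar S).obj (assoc F)) := by
  refine ⟨(fullyFaithfulSheafToPresheaf _ _).preimageIso (NatIso.ofComponents
    (fun U => AddEquiv.toAddCommGrpIso
      (show ULift.{u + 1} Γ(F, U.unop) ≃+ ULift.{u + 1} (EtAssoc.obj F ((EtZar.zarToEt S).obj U.unop)) from
        AddEquiv.ulift.trans ((AddEquiv.ofBijective _ (secMap_bijective F U.unop)).trans AddEquiv.ulift.symm)))
    fun {U V} i => AddCommGrpCat.hom_ext (DFunLike.ext _ _ fun s => ULift.ext _ _ ?_))⟩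
  exact secMap_natural F i.unop s.down

/-- The comparison of cohomology. -/
theorem nonempty_equiv [F.IsQuasicoherent] [EtZar.ZarCont S] (G : EtCoh.Ab S) (hG : EtAssoc.IsAssoc F G) (q : ℕ) :
    Nonempty (EtCoh.H S G q ≃+ ULift.{u + 1} (Coh.HH S F q)) := by
  obtain ⟨i⟩ := iso_assoc F G hG
  obtain ⟨e₁⟩ := EtZarCmp.nonempty_zarH_equiv (assoc F) affVan_assoc q
  obtain ⟨j⟩ := resZar_assoc_iso (F := F)
  obtain ⟨e₂⟩ := EtZarUlift.nonempty_H_lift_equiv q (Coh.toAb F)
  exact ⟨((EtCoh.HF S q).mapIso i).addCommGroupIsoToAddEquiv.trans (e₁.symm.trans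
    ((((Sheaf.functorH _ q).mapIso j).addCommGroupIsoToAddEquiv.symm.trans e₂).trans AddEquiv.ulift.symm))⟩

end Groth.Agent.Desc44.EtAssocCoh
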