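import Groth.Agent.Depth.CM
import Groth.Agent.CMSeq.Basic
import Mathlib.RingTheory.Ideal.KrullsHeightTheorem

/-!
# Sequences of expected codimension in Cohen–Macaulay local rings are regular
-/

set_option autoImplicit false

universe u

open IsLocalRing RingTheory.Sequence

namespace Groth.Agent.Desc44.ExpectedCodim

variable {R : Type u} [CommRing R]

/-- The dimension of a Cohen–Macaulay local ring along a prime. -/
theorem ringKrullDim_eq_quotient_add_height [LocCoh.IsCohenMacaulayLocalRing R] (q : Ideal R) [q.IsPrime] :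
    ringKrullDim R = ringKrullDim (R ⧸ q) + (q.height : WithBot ℕ∞) := by
  have hM := Depth.isCohenMacaulayModule_self R
  have hn : Nontrivial (LocalizedModule q.primeCompl R) := (Depth.localizedModuleSelfEquiv q.primeCompl).nontrivial
  have h1 := Depth.supportDim_eq_supportDim_quotient_add_idealDepth (le_maximalIdeal (Ideal.IsPrime.ne_top ‹_›) : q ≤ _) hM
  have h2 : (LocCoh.idealDepth q R : WithBot ℕ∞) = (q.height : WithBot ℕ∞) := by
    rw [← Depth.depth_localizedModule_eq_idealDepth hM q hn]
    refine ((Depth.isCohenMacaulayModule_localizedModule hM q hn).symm.trans ?_)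
    rw [Module.supportDim_eq_of_equiv (Depth.localizedModuleSelfEquiv q.primeCompl),
      Module.supportDim_self_eq_ringKrullDim, IsLocalization.AtPrime.ringKrullDim_eq_height q]
  rw [Module.supportDim_self_eq_ringKrullDim] at h1
  rw [h1, h2]
  congr 1
  rw [Module.supportDim_eq_of_equiv (Submodule.quotEquivOfEq _ q (by simp [Ideal.smul_top_eq_map])),
    Module.supportDim_quotient_eq_ringKrullDim]

/-- Elements generating an ideal of height at least their number form a regular sequence. -/
theorem isWeaklyRegular_of_le_height [LocCoh.IsCohenMacaulayLocalRing R] (xs : List R)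
    (hxs : Ideal.ofList xs ≤ maximalIdeal R)
    (h : ∀ q : Ideal R, q.IsPrime → Ideal.ofList xs ≤ q → (xs.length : ℕ∞) ≤ q.height) :
    IsWeaklyRegular R xs := by
  set I := Ideal.ofList xs
  haveI : Nontrivial (R ⧸ I) := Ideal.Quotient.nontrivial_iff.2 fun e => IsLocalRing.maximalIdeal.isMaximal R |>.ne_top (top_le_iff.1 (e ▸ hxs))
  haveI : IsLocalRing (R ⧸ I) := IsLocalRing.of_surjective' (Ideal.Quotient.mk I) Ideal.Quotient.mk_surjective
  -- parameters of the quotient
  obtain ⟨s, hs, hcard⟩ := Ideal.exists_finset_card_eq_height_of_isNoetherianRing (maximalIdeal (R ⧸ I))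
  have hds : ringKrullDim (R ⧸ I) = (s.card : ℕ) := by
    rw [← IsLocalRing.maximalIdeal_height_eq_ringKrullDim, ← hcard]; rfl
  -- the dimension of the quotient
  have hdim : ringKrullDim (R ⧸ I) + (xs.length : WithBot ℕ∞) ≤ ringKrullDim R := by
    obtain ⟨l, hl0⟩ := Order.le_krullDim_iff.1 (le_of_eq ((ringKrullDim_quotient I).symm.trans hds).symm)
    rw [hds, ← hl0]
    let q : PrimeSpectrum R := l.head.1
    have hIq : I ≤ q.asIdeal := l.head.2
    have hl : (l.length : WithBot ℕ∞) ≤ ringKrullDim (R ⧸ q.asIdeal) := by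
      rw [ringKrullDim_quotient]
      let l' : LTSeries (PrimeSpectrum.zeroLocus (q.asIdeal : Set R)) :=
        LTSeries.mk l.length (fun i => ⟨(l i).1, fun z hz => (LTSeries.head_le l i : q ≤ _) hz⟩)
          fun i j hij => (l.strictMono hij : _)
      exact Order.LTSeries.length_le_krullDim l'
    rw [ringKrullDim_eq_quotient_add_height q.asIdeal]
    gcongr
    exact_mod_cast h q.asIdeal q.2 hIq
  choose lift hlift using Ideal.Quotient.mk_surjective (I := I)
  let ys := s.toList.map lift
  have hys : (Ideal.ofList ys).map (Ideal.Quotient.mk I) = Ideal.span (s : Set (R ⧸ I)) := by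
    rw [Ideal.map_ofList]
    simp [ys, Ideal.ofList, List.map_map, Function.comp_def, hlift]
  have hysm : Ideal.ofList ys ≤ maximalIdeal R := fun z hz => by
    have := hs.1.2 (hys ▸ Ideal.mem_map_of_mem (Ideal.Quotient.mk I) hz)
    rw [← IsLocalRing.map_maximalIdeal_of_surjective _ (Ideal.Quotient.mk_surjective (I := I)),
      Ideal.mem_map_iff_of_surjective _ Ideal.Quotient.mk_surjective] at this
    obtain ⟨w, hw, hwz⟩ := this
    have : z - w ∈ maximalIdeal R := hxs (Ideal.Quotient.eq.1 hwz.symm)
    simpa using add_mem this hw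
  have hrad : maximalIdeal R ≤ (Module.annihilator R R ⊔ Ideal.ofList (xs ++ ys)).radical := by
    rw [Ideal.radical_eq_sInf]
    refine le_sInf fun P ⟨hP, hPp⟩ => ?_
    have hIP : I ≤ P := le_trans (by rw [Ideal.ofList_append]; exact le_sup_of_le_right le_sup_left) hP
    haveI := hPp
    have hPq : (P.map (Ideal.Quotient.mk I)).IsPrime :=
      Ideal.map_isPrime_of_surjective Ideal.Quotient.mk_surjective (by rw [Ideal.mk_ker]; exact hIP)
    have hle : Ideal.span (s : Set (R ⧸ I)) ≤ P.map (Ideal.Quotient.mk I) := by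
      rw [← hys]
      exact Ideal.map_mono (le_trans (by rw [Ideal.ofList_append]; exact le_sup_of_le_right le_sup_right) hP)
    have hm := hs.2 ⟨hPq, hle⟩ (le_maximalIdeal hPq.ne_top)
    intro z hz
    have hz' : Ideal.Quotient.mk I z ∈ P.map (Ideal.Quotient.mk I) := hm (by
      rw [← IsLocalRing.map_maximalIdeal_of_surjective _ (Ideal.Quotient.mk_surjective (I := I))]
      exact Ideal.mem_map_of_mem _ hz)
    rw [Ideal.mem_map_iff_of_surjective _ Ideal.Quotient.mk_surjective] at hz'
    obtain ⟨w, hw, hwz⟩ := hz'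
    have : z - w ∈ P := hIP (Ideal.Quotient.eq.1 hwz.symm)
    simpa using add_mem this hw
  have hlen : ((xs ++ ys).length : WithBot ℕ∞) ≤ Module.supportDim R R := by
    rw [Module.supportDim_self_eq_ringKrullDim]
    refine le_trans (le_of_eq ?_) hdim
    rw [← IsLocalRing.maximalIdeal_height_eq_ringKrullDim, ← hcard, add_comm]
    simp [ys]
  have hreg := CMSeq.isWeaklyRegular_of_radical (xs ++ ys) R (Depth.isCohenMacaulayModule_self R)
    (by rw [Ideal.ofList_append]; exact sup_le hxs hysm) hrad hlen
  have := Depth.isWeaklyRegular_take hreg xs.length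
  rwa [List.take_left] at this

end Groth.Agent.Desc44.ExpectedCodim
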