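import Groth.Prelude.Def_Desc

/-! Elementwise formulas for `Desc.ringModPF` (extension of scalars as pullback). -/

set_option autoImplicit false

open CategoryTheory Opposite ModuleCat TensorProduct
open scoped ChangeOfRings

universe u

namespace Groth.Agent.Desc44

variable {A B C : CommRingCat.{u}}

/-- `B ⊗_{A,f} M` -/
noncomputable abbrev Ext (f : A ⟶ B) (M : ModuleCat.{u} A) : ModuleCat.{u} B :=
  (extendScalars f.hom).obj M

/-- pure tensor -/
noncomputable abbrev tm (f : A ⟶ B) {M : ModuleCat.{u} A} (s : B) (m : M) : Ext f M :=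
  s ⊗ₜ[A,f.hom] m

lemma tm_smul (f : A ⟶ B) {M : ModuleCat.{u} A} (s t : B) (m : M) :
    s • tm f t m = tm f (s * t) m := ExtendScalars.smul_tmul f.hom s t m

lemma tm_eq_smul_one (f : A ⟶ B) {M : ModuleCat.{u} A} (s : B) (m : M) :
    tm f s m = s • tm f (1 : B) m := by
  rw [tm_smul, mul_one]

lemma tm_add (f : A ⟶ B) {M : ModuleCat.{u} A} (s : B) (m n : M) :
    tm f s (m + n) = tm f s m + tm f s n := by
  letI := Module.compHom (B : Type u) f.hom
  exact TensorProduct.tmul_add s m n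

lemma tm_zero (f : A ⟶ B) {M : ModuleCat.{u} A} (s : B) :
    tm f s (0 : M) = 0 := by
  letI := Module.compHom (B : Type u) f.hom
  exact TensorProduct.tmul_zero M s

lemma tm_add_left (f : A ⟶ B) {M : ModuleCat.{u} A} (s t : B) (m : M) :
    tm f (s + t) m = tm f s m + tm f t m := by
  letI := Module.compHom (B : Type u) f.hom
  exact TensorProduct.add_tmul s t m

lemma tm_zero_left (f : A ⟶ B) {M : ModuleCat.{u} A} (m : M) :
    tm f (0 : B) m = 0 := by
  letI := Module.compHom (B : Type u) f.hom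
  exact TensorProduct.zero_tmul _ m

lemma tm_balance (f : A ⟶ B) {M : ModuleCat.{u} A} (a : A) (s : B) (m : M) :
    tm f (f.hom a * s) m = tm f s (a • m) := by
  letI : Module A B := Module.compHom (B : Type u) f.hom
  exact Quotient.sound' (AddConGen.Rel.of _ _ (TensorProduct.Eqv.of_smul a s m))

theorem ext_induction (f : A ⟶ B) {M : ModuleCat.{u} A} {P : Ext f M → Prop}
    (x : Ext f M) (h0 : P 0) (ht : ∀ s m, P (tm f s m)) (ha : ∀ x y, P x → P y → P (x + y)) : P x := by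
  letI := Module.compHom (B : Type u) f.hom
  exact TensorProduct.induction_on (motive := P) x h0 ht ha

/-- universal property -/
noncomputable def liftExt (f : A ⟶ B) {M : ModuleCat.{u} A} {P : Type u} [AddCommGroup P]
    (Φ : B →+ M →+ P) (bal : ∀ (a : A) (s : B) (m : M), Φ (f.hom a * s) m = Φ s (a • m)) :
    Ext f M →+ P :=
  letI := Module.compHom (B : Type u) f.hom
  TensorProduct.liftAddHom Φ fun a s m => bal a s m

@[simp] lemma liftExt_tm (f : A ⟶ B) {M : ModuleCat.{u} A} {P : Type u} [AddCommGroup P]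
    (Φ : B →+ M →+ P) (bal) (s : B) (m : M) : liftExt f Φ bal (tm f s m) = Φ s m := rfl

theorem hom_ext_tm (f : A ⟶ B) {M : ModuleCat.{u} A} {N : ModuleCat.{u} B} {α β : Ext f M ⟶ N}
    (h : ∀ m, α (tm f 1 m) = β (tm f 1 m)) : α = β :=
  ExtendScalars.hom_ext h

/-- `mapComp'.hom` with module-valued type -/
noncomputable def mcHom (f : A ⟶ B) (g : B ⟶ C) (fg : A ⟶ C) (M : ModuleCat.{u} A)
    (w : f.op.op.toLoc ≫ g.op.op.toLoc = fg.op.op.toLoc) : Ext fg M ⟶ Ext g (Ext f M) :=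
  (Desc.ringModPF.mapComp' f.op.op.toLoc g.op.op.toLoc fg.op.op.toLoc w).hom.toNatTrans.app M

/-- `mapComp'.inv` with module-valued type -/
noncomputable def mcInv (f : A ⟶ B) (g : B ⟶ C) (fg : A ⟶ C) (M : ModuleCat.{u} A)
    (w : f.op.op.toLoc ≫ g.op.op.toLoc = fg.op.op.toLoc) : Ext g (Ext f M) ⟶ Ext fg M :=
  (Desc.ringModPF.mapComp' f.op.op.toLoc g.op.op.toLoc fg.op.op.toLoc w).inv.toNatTrans.app M

lemma mcHom_inv (f : A ⟶ B) (g : B ⟶ C) (fg : A ⟶ C) (M : ModuleCat.{u} A)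
    (w : f.op.op.toLoc ≫ g.op.op.toLoc = fg.op.op.toLoc) :
    mcHom f g fg M w ≫ mcInv f g fg M w = 𝟙 _ :=
  ((Cat.Hom.toNatIso (Desc.ringModPF.mapComp' f.op.op.toLoc g.op.op.toLoc fg.op.op.toLoc w)).app M).hom_inv_id

/-- `mapComp'` on pure tensors -/
theorem mapComp'_hom_tm (f : A ⟶ B) (g : B ⟶ C) (fg : A ⟶ C) (h : f ≫ g = fg) (M : ModuleCat.{u} A)
    (w : f.op.op.toLoc ≫ g.op.op.toLoc = fg.op.op.toLoc) (m : M) :
    mcHom f g fg M w (tm fg (1 : C) m) = tm g (1 : C) (tm f (1 : B) m) := by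
  subst h
  unfold mcHom
  erw [Pseudofunctor.mapComp'_eq_mapComp]
  have e : (Desc.ringModPF.mapComp f.op.op.toLoc g.op.op.toLoc).hom.toNatTrans.app M =
      (extendScalarsComp f.hom g.hom).hom.app M := by
    simp [Desc.ringModPF, Pseudofunctor.comp]
    rfl
  rw [e]
  exact extendScalarsComp_hom_app_one_tmul f.hom g.hom M m

theorem mapComp'_inv_tm (f : A ⟶ B) (g : B ⟶ C) (fg : A ⟶ C) (h : f ≫ g = fg) (M : ModuleCat.{u} A)
    (w : f.op.op.toLoc ≫ g.op.op.toLoc = fg.op.op.toLoc) (m : M) :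
    mcInv f g fg M w (tm g (1 : C) (tm f (1 : B) m)) = tm fg (1 : C) m := by
  refine (congrArg _ (mapComp'_hom_tm f g fg h M w m).symm).trans ?_
  exact congrArg (fun φ => φ (tm fg (1 : C) m)) (mcHom_inv f g fg M w)

/-- change of coefficients along `g`: `s ⊗ m ↦ g s ⊗ m` -/
noncomputable def chg (f : A ⟶ B) (g : B ⟶ C) (fg : A ⟶ C) (h : f ≫ g = fg) (M : ModuleCat.{u} A) :
    Ext f M →+ Ext fg M :=
  liftExt f
    { toFun := fun s =>
        { toFun := fun m => tm fg (g.hom s) m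
          map_zero' := tm_zero _ _
          map_add' := tm_add _ _ }
      map_zero' := by
        ext m
        show tm fg (g.hom 0) m = 0
        rw [map_zero]
        letI := Module.compHom (C : Type u) fg.hom
        exact TensorProduct.zero_tmul _ m
      map_add' := fun s t => by
        ext m
        show tm fg (g.hom (s + t)) m = tm fg (g.hom s) m + tm fg (g.hom t) m
        rw [map_add]
        letI := Module.compHom (C : Type u) fg.hom
        exact TensorProduct.add_tmul _ _ m }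
    fun a s m => by
      show tm fg (g.hom (f.hom a * s)) m = tm fg (g.hom s) (a • m)
      rw [map_mul, ← tm_balance]
      subst h
      rfl

@[simp] lemma chg_tm (f : A ⟶ B) (g : B ⟶ C) (fg : A ⟶ C) (h : f ≫ g = fg) (M : ModuleCat.{u} A)
    (s : B) (m : M) : chg f g fg h M (tm f s m) = tm fg (g.hom s) m := rfl

lemma chg_smul (f : A ⟶ B) (g : B ⟶ C) (fg : A ⟶ C) (h : f ≫ g = fg) (M : ModuleCat.{u} A)
    (t : B) (x : Ext f M) : chg f g fg h M (t • x) = g.hom t • chg f g fg h M x := by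
  induction x using ext_induction with
  | h0 => rw [smul_zero, map_zero, smul_zero]
  | ht s m => rw [tm_smul, chg_tm, chg_tm, tm_smul, map_mul]
  | ha x y hx hy => rw [smul_add, map_add, hx, hy, map_add, smul_add]

theorem mapComp'_inv_tm' (f : A ⟶ B) (g : B ⟶ C) (fg : A ⟶ C) (h : f ≫ g = fg) (M : ModuleCat.{u} A)
    (w : f.op.op.toLoc ≫ g.op.op.toLoc = fg.op.op.toLoc) (x : Ext f M) :
    mcInv f g fg M w (tm g (1 : C) x) = chg f g fg h M x := by
  induction x using ext_induction with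
  | h0 => rw [tm_zero, map_zero, map_zero]
  | ht s m =>
    rw [chg_tm, tm_eq_smul_one f s, ← tm_balance g s, mul_one, tm_eq_smul_one g]
    refine (map_smul (mcInv f g fg M w).hom _ _).trans ?_
    erw [mapComp'_inv_tm f g fg h M w m]
    exact (tm_eq_smul_one fg (g.hom s) m).symm
  | ha x y hx hy => rw [tm_add, map_add, map_add, hx, hy]

open Pseudofunctor.LocallyDiscreteOpToCat in
/-- `pullHom` on pure tensors -/
theorem pullHom_tm {A₁ A₂ T T' : CommRingCat.{u}} (f₁ : A₁ ⟶ T) (f₂ : A₂ ⟶ T) (g : T ⟶ T')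
    (gf₁ : A₁ ⟶ T') (gf₂ : A₂ ⟶ T') (h₁ : f₁ ≫ g = gf₁) (h₂ : f₂ ≫ g = gf₂)
    (M₁ : ModuleCat.{u} A₁) (M₂ : ModuleCat.{u} A₂) (φ : Ext f₁ M₁ ⟶ Ext f₂ M₂)
    (w₁ : g.op ≫ f₁.op = gf₁.op) (w₂ : g.op ≫ f₂.op = gf₂.op) (m : M₁) :
    (show Ext gf₁ M₁ ⟶ Ext gf₂ M₂ from pullHom (F := Desc.ringModPF.{u}) (M₁ := M₁) (M₂ := M₂)
        (f₁ := f₁.op) (f₂ := f₂.op) φ g.op gf₁.op gf₂.op w₁ w₂) (tm gf₁ (1 : T') m) = chg f₂ g gf₂ h₂ M₂ (φ (tm f₁ (1 : T) m)) := by
  have w₁' : f₁.op.op.toLoc ≫ g.op.op.toLoc = gf₁.op.op.toLoc := by subst h₁; rfl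
  have w₂' : f₂.op.op.toLoc ≫ g.op.op.toLoc = gf₂.op.op.toLoc := by subst h₂; rfl
  show (mcHom f₁ g gf₁ M₁ w₁' ≫ (extendScalars g.hom).map φ ≫ mcInv f₂ g gf₂ M₂ w₂')
    (tm gf₁ (1 : T') m) = _
  rw [ConcreteCategory.comp_apply, ConcreteCategory.comp_apply, mapComp'_hom_tm f₁ g gf₁ h₁]
  exact mapComp'_inv_tm' f₂ g gf₂ h₂ M₂ w₂' _

end Groth.Agent.Desc44
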