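import Groth.Agent.Desc44.FamRel

/-!
# Compatible families of a descent datum glue along open covers and faithfully flat quasi-compact maps
-/

set_option autoImplicit false
set_option backward.isDefEq.respectTransparency false
set_option linter.style.haveILetI false

universe u

open CategoryTheory CategoryTheory.Limits AlgebraicGeometry

namespace Groth.Agent.Desc44

variable {S : Scheme.{u}} {ι : Type u} {X : ι → Scheme.{u}} {f : ∀ i, X i ⟶ S} {D : Desc.SchDDFam f}

theorem IsDescFam.hom_ext {T : Scheme.{u}} {κ : Type u} {U : κ → Scheme.{u}} {g : ∀ k, U k ⟶ T}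
    (hg : IsDescFam g) {P : Scheme.{u}} (r : P ⟶ T) {Z : Scheme.{u}} {n n' : P ⟶ Z}
    (h : ∀ k, pullback.fst r (g k) ≫ n = pullback.fst r (g k) ≫ n') : n = n' :=
  (hg r (fun k => pullback.fst r (g k) ≫ n')
    (fun k l W a b e => by rw [← Category.assoc, e, Category.assoc])).unique h fun _ => rfl

/-- Open covers descend morphisms. -/
theorem isDescFam_openCover {T : Scheme.{u}} (𝒰 : T.OpenCover.{u}) : IsDescFam 𝒰.f := by
  intro P r Z m hm
  let 𝒱 := 𝒰.pullback₁ r
  refine ⟨Scheme.Cover.glueMorphisms 𝒱 m fun x y => hm x y _ _ _ pullback.condition,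
    fun k => Scheme.Cover.ι_glueMorphisms 𝒱 m _ k, fun n hn => ?_⟩
  refine Scheme.Cover.hom_ext 𝒱 _ _ fun k => ?_
  rw [Scheme.Cover.ι_glueMorphisms]
  exact hn k

/-- Flat surjective quasi-compact morphisms descend morphisms. -/
theorem isDescFam_fpqc {T U : Scheme.{u}} (g : U ⟶ T) [Flat g] [Surjective g] [QuasiCompact g] :
    IsDescFam (fun _ : PUnit.{u + 1} => g) := by
  intro P r Z m hm
  refine ⟨EffectiveEpi.desc (pullback.fst r g) (m ⟨⟩) (fun a b e => hm ⟨⟩ ⟨⟩ _ a b e),
    fun _ => EffectiveEpi.fac _ _ _, fun n hn => ?_⟩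
  rw [← cancel_epi (pullback.fst r g), EffectiveEpi.fac]
  exact hn ⟨⟩

namespace Fam

variable {T : Scheme.{u}} {t : T ⟶ S}

/-- Families agreeing on the members of a descending family are equal. -/
theorem ext_desc {κ : Type u} {U : κ → Scheme.{u}} {g : ∀ k, U k ⟶ T} (hg : IsDescFam g)
    {y y' : Fam D t} (h : ∀ k, y.map (g k) rfl = y'.map (g k) rfl) : y = y' := by
  refine ext_val fun i W a x e => hg.hom_ext a fun k => ?_
  rw [comp_val, comp_val]
  have e1 : pullback.snd a (g k) ≫ g k ≫ t = (pullback.fst a (g k) ≫ x) ≫ f i := by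
    rw [← pullback.condition_assoc, Category.assoc, e]
  have key : ∀ z : Fam D t, z.val (pullback.fst a (g k) ≫ a) (pullback.fst a (g k) ≫ x)
      (by simp only [Category.assoc, e]) =
      (z.map (g k) rfl).val (pullback.snd a (g k)) (pullback.fst a (g k) ≫ x) e1 := fun z => by
    rw [val_map]
    exact z.val_congr pullback.condition rfl _
  rw [key, key, h k]

/-- Compatible families on the members of a descending family glue. -/
theorem exists_glue {κ : Type u} {U : κ → Scheme.{u}} {g : ∀ k, U k ⟶ T} (hg : IsDescFam g)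
    {u : ∀ k, U k ⟶ S} (hu : ∀ k, g k ≫ t = u k) (x : ∀ k, Fam D (u k))
    (hx : ∀ (k l : κ) (W : Scheme.{u}) (a : W ⟶ U k) (b : W ⟶ U l) (w : W ⟶ S) (ha : a ≫ u k = w)
      (hb : b ≫ u l = w), a ≫ g k = b ≫ g l → (x k).map a ha = (x l).map b hb) :
    ∃ y : Fam D t, ∀ k, y.map (g k) (hu k) = x k := by
  have hw : ∀ (i : ι) (k : κ) {W : Scheme.{u}} (a : W ⟶ pullback t (f i)) (c : W ⟶ U k),
      a ≫ pullback.fst t (f i) = c ≫ g k → c ≫ u k = (a ≫ pullback.snd t (f i)) ≫ f i := by
    intro i k W a c h
    rw [← hu, ← Category.assoc, ← h, Category.assoc, pullback.condition, Category.assoc]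
  let m : ∀ i k, pullback (pullback.fst t (f i)) (g k) ⟶ (D.obj i).left := fun i k =>
    (x k).val (pullback.snd _ _) (pullback.fst _ _ ≫ pullback.snd t (f i))
      (hw i k _ _ pullback.condition)
  have hn := fun i => hg (pullback.fst t (f i)) (m i) fun k l W a b e => by
    have hc : (a ≫ pullback.snd _ (g k)) ≫ g k = (b ≫ pullback.snd _ (g l)) ≫ g l := by
      simp only [Category.assoc, ← pullback.condition, reassoc_of% e]
    have hkl := hx k l W (a ≫ pullback.snd _ (g k)) (b ≫ pullback.snd _ (g l)) _ rfl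
      (by rw [← hu, ← hu, ← Category.assoc, ← Category.assoc, hc]) hc
    have e1 : (a ≫ pullback.snd (pullback.fst t (f i)) (g k)) ≫ u k =
        (a ≫ pullback.fst _ (g k) ≫ pullback.snd t (f i)) ≫ f i := by
      simp only [Category.assoc]
      rw [hw i k _ _ pullback.condition, Category.assoc]
    have h2 := congrArg (fun z : Fam D _ => z.val (𝟙 W) (a ≫ pullback.fst _ (g k) ≫ pullback.snd t (f i))
      (by rw [Category.id_comp, e1])) hkl
    simp only [val_map] at h2
    simp only [m, comp_val]
    refine Eq.trans ?_ (h2.trans ?_)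
    · exact (x k).val_congr (Category.id_comp _).symm rfl _
    · refine (x l).val_congr (Category.id_comp _) ?_ _
      rw [← Category.assoc, e, Category.assoc]
  choose n hn hnu using hn
  have spec : ∀ (i : ι) (k : κ) (W : Scheme.{u}) (a : W ⟶ pullback t (f i)) (c : W ⟶ U k)
      (h : a ≫ pullback.fst t (f i) = c ≫ g k),
      a ≫ n i = (x k).val c (a ≫ pullback.snd t (f i)) (hw i k a c h) := by
    intro i k W a c h
    have e := congrArg (pullback.lift a c h ≫ ·) (hn i k)
    simp only [pullback.lift_fst_assoc, m, comp_val] at e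
    rw [e]
    exact (x k).val_congr (pullback.lift_snd _ _ _) (by simp) _
  let y : Fam D t :=
    { s := n
      hom_s := fun i => hg.hom_ext (pullback.fst t (f i)) fun k => by
        rw [reassoc_of% (hn i k)]
        exact (x k).val_hom _ _ _
      compat := fun {i j W} a b h => by
        have hh : ((a ≫ n i) ≫ (D.obj i).hom) = a ≫ pullback.snd t (f i) ∧
            ((b ≫ n j) ≫ (D.obj j).hom) = b ≫ pullback.snd t (f j) := by
          constructor
          all_goals
            rw [Category.assoc]; congr 1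
            refine hg.hom_ext (pullback.fst t (f _)) fun k => ?_
            rw [reassoc_of% (hn _ k)]
            exact (x k).val_hom _ _ _
        have hc : ((a ≫ n i) ≫ (D.obj i).hom) ≫ f i = ((b ≫ n j) ≫ (D.obj j).hom) ≫ f j := by
          rw [hh.1, hh.2, Category.assoc, Category.assoc, ← pullback.condition, ← pullback.condition,
            reassoc_of% h]
        refine ⟨hc, hg.hom_ext (a ≫ pullback.fst t (f i)) fun k => ?_⟩
        let p := pullback.fst (a ≫ pullback.fst t (f i)) (g k)
        let c := pullback.snd (a ≫ pullback.fst t (f i)) (g k)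
        have h1 : (p ≫ a) ≫ pullback.fst t (f i) = c ≫ g k := by
          rw [Category.assoc]; exact pullback.condition
        have h2 : (p ≫ b) ≫ pullback.fst t (f j) = c ≫ g k := by
          rw [Category.assoc, ← h, ← Category.assoc]; exact h1
        refine famRel_unique (famRel_comp p (famRel_of_phi _ _ hc ⟨a ≫ n i, rfl⟩)) ?_ ?_
        · show FamRel D (p ≫ a ≫ n i) (p ≫ b ≫ n j)
          rw [← Category.assoc, ← Category.assoc, spec i k _ _ c h1, spec j k _ _ c h2]
          exact (x k).val_rel _ _ _ _ _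
        · exact (Category.assoc _ _ _).trans ((congrArg (p ≫ ·) (D.φ _ _ hc ⟨a ≫ n i, rfl⟩).2).trans
            (Category.assoc _ _ _).symm) }
  refine ⟨y, fun k => ext_val fun i W a z e => ?_⟩
  rw [val_map, val]
  show pullback.lift (a ≫ g k) z _ ≫ n i = _
  rw [spec i k W _ a (pullback.lift_fst _ _ _)]
  exact (x k).val_congr rfl (pullback.lift_snd _ _ _) _

end Fam

end Groth.Agent.Desc44
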