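import Groth.Agent.Desc44.FamEff
import Mathlib.CategoryTheory.Sites.Canonical

/-!
# Pullback of descent data along refinements
-/

set_option autoImplicit false
set_option backward.isDefEq.respectTransparency false
set_option linter.style.haveILetI false

universe u

open CategoryTheory CategoryTheory.Limits AlgebraicGeometry Opposite

namespace Groth.Agent.Desc44

/-- Fpqc coverings descend morphisms. -/
theorem isDescFam_of_fpqc {T : Scheme.{u}} {κ : Type u} {U : κ → Scheme.{u}} (g : ∀ k, U k ⟶ T)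
    (hg : Presieve.ofArrows U g ∈ Scheme.fpqcPrecoverage T) : IsDescFam g := by
  intro P r Z m hm
  have h1 : Presieve.ofArrows (fun k => pullback r (g k)) (fun k => pullback.fst r (g k)) ∈
      Scheme.fpqcPrecoverage P :=
    Precoverage.mem_coverings_of_isPullback g hg r (fun k => pullback.fst r (g k))
      (fun k => pullback.snd r (g k)) fun k => IsPullback.of_hasPullback r (g k)
  have h2 : Presieve.IsSheafFor (yoneda.obj Z)
      (Presieve.ofArrows (fun k => pullback r (g k)) fun k => pullback.fst r (g k)) := by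
    have := (GrothendieckTopology.Subcanonical.isSheaf_of_isRepresentable (yoneda.obj Z)).isSheafFor _
      (Precoverage.generate_mem_toGrothendieck h1)
    exact this
  exact (Presieve.isSheafFor_arrows_iff _ _).1 h2 m fun k l W a b e => hm k l W a b e

/-- Base change of descending families. -/
theorem IsDescFam.baseChange {T T' : Scheme.{u}} {κ : Type u} {U : κ → Scheme.{u}} {g : ∀ k, U k ⟶ T}
    (hg : IsDescFam g) (c : T' ⟶ T) : IsDescFam fun k => pullback.fst c (g k) := by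
  intro P r Z m hm
  have sq : ∀ k, IsPullback (pullback.fst r (pullback.fst c (g k)))
      (pullback.snd r (pullback.fst c (g k)) ≫ pullback.snd c (g k)) (r ≫ c) (g k) := fun k =>
    (IsPullback.of_hasPullback r (pullback.fst c (g k))).paste_vert (IsPullback.of_hasPullback c (g k))
  let e : ∀ k, pullback (r ≫ c) (g k) ≅ pullback r (pullback.fst c (g k)) := fun k => (sq k).isoPullback.symm
  have he : ∀ k, (e k).hom ≫ pullback.fst r (pullback.fst c (g k)) = pullback.fst (r ≫ c) (g k) := fun k =>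
    (sq k).isoPullback_inv_fst
  obtain ⟨n, hn, hnu⟩ := hg (r ≫ c) (fun k => (e k).hom ≫ m k) (fun k l W a b hab => by
    rw [← Category.assoc, ← Category.assoc]
    refine hm k l W _ _ ?_
    rw [Category.assoc, Category.assoc, he, he, hab])
  refine ⟨n, fun k => ?_, fun n' hn' => hnu n' fun k => ?_⟩
  · rw [← cancel_epi (e k).hom, ← hn k, reassoc_of% (he k)]
  · rw [← hn' k, reassoc_of% (he k)]

variable {S : Scheme.{u}} {ι κ : Type u} {U : ι → Scheme.{u}} {V : κ → Scheme.{u}}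
  {u : ∀ i, U i ⟶ S} {v : ∀ j, V j ⟶ S} {α : ι → κ} {g : ∀ i, U i ⟶ V (α i)}
  (w : ∀ i, g i ≫ v (α i) = u i ≫ 𝟙 S)

/-- Every point of a member of the coarser family descends from points of the finer one. -/
def Covers (u : ∀ i, U i ⟶ S) (v : ∀ j, V j ⟶ S) : Prop :=
  ∀ (j : κ) (W : Scheme.{u}) (x : W ⟶ V j), ∃ (ν : Type u) (Wk : ν → Scheme.{u}) (q : ∀ k, Wk k ⟶ W),
    IsDescFam q ∧ ∀ k, ∃ (i : ι) (y : Wk k ⟶ U i), y ≫ u i = q k ≫ x ≫ v j

/-- Every point of a member of the coarser family is jointly covered, up to epimorphism. -/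
def EpiCovers (u : ∀ i, U i ⟶ S) (v : ∀ j, V j ⟶ S) : Prop :=
  ∀ (j : κ) (W : Scheme.{u}) (x : W ⟶ V j), ∃ (ν : Type u) (Wk : ν → Scheme.{u}) (q : ∀ k, Wk k ⟶ W),
    (∀ {Z : Scheme.{u}} (n n' : W ⟶ Z), (∀ k, q k ≫ n = q k ≫ n') → n = n') ∧
      ∀ k, ∃ (i : ι) (y : Wk k ⟶ U i), y ≫ u i = q k ≫ x ≫ v j

theorem IsDescFam.epi {T : Scheme.{u}} {ν : Type u} {W : ν → Scheme.{u}} {q : ∀ k, W k ⟶ T}
    (hq : IsDescFam q) {Z : Scheme.{u}} (n n' : T ⟶ Z) (h : ∀ k, q k ≫ n = q k ≫ n') : n = n' :=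
  hq.hom_ext (𝟙 T) fun k => by
    rw [show pullback.fst (𝟙 T) (q k) = pullback.snd (𝟙 T) (q k) ≫ q k from
      ((Category.comp_id _).symm.trans pullback.condition), Category.assoc, Category.assoc, h]

theorem Covers.epiCovers (H : Covers u v) : EpiCovers u v := fun j W x => by
  obtain ⟨ν, Wk, q, hq, hy⟩ := H j W x
  exact ⟨ν, Wk, q, fun n n' h => hq.epi n n' h, hy⟩

variable {D D' : Desc.SchDDFam v}

theorem famRel_pull_iff {T : Scheme.{u}} {i i' : ι}
    (a : T ⟶ ((Desc.pullDDFamObj w D).obj i).left) (b : T ⟶ ((Desc.pullDDFamObj w D).obj i').left)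
    (hh : (a ≫ pullback.snd (D.obj (α i)).hom (g i)) ≫ u i =
      (b ≫ pullback.snd (D.obj (α i')).hom (g i')) ≫ u i') :
    FamRel (Desc.pullDDFamObj w D) a b ↔
      FamRel D (a ≫ pullback.fst (D.obj (α i)).hom (g i)) (b ≫ pullback.fst (D.obj (α i')).hom (g i')) := by
  let x₀ := a ≫ pullback.snd (D.obj (α i)).hom (g i)
  let x₁ := b ≫ pullback.snd (D.obj (α i')).hom (g i')
  have h₀ : (a ≫ pullback.fst (D.obj (α i)).hom (g i)) ≫ (D.obj (α i)).hom = x₀ ≫ g i := by
    simp only [x₀, Category.assoc, pullback.condition]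
  have h₁ : (b ≫ pullback.fst (D.obj (α i')).hom (g i')) ≫ (D.obj (α i')).hom = x₁ ≫ g i' := by
    simp only [x₁, Category.assoc, pullback.condition]
  have hφ := (D.φ (x₀ ≫ g i) (x₁ ≫ g i') (Desc.pull_compat w x₀ x₁ hh) ⟨_, h₀⟩)
  have key : ((Desc.pullDDFamObj w D).φ x₀ x₁ hh ⟨a, rfl⟩).1 =
      pullback.lift (D.φ (x₀ ≫ g i) (x₁ ≫ g i') (Desc.pull_compat w x₀ x₁ hh) ⟨_, h₀⟩).1 x₁
        (D.φ _ _ _ _).2 := rfl
  constructor
  · intro h
    have e := phi_eq_of_famRel h x₀ x₁ hh rfl rfl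
    rw [key] at e
    have e' := congrArg (· ≫ pullback.fst (D.obj (α i')).hom (g i')) e
    simp only [pullback.lift_fst] at e'
    rw [← e']
    exact famRel_of_phi (x₀ ≫ g i) (x₁ ≫ g i') _ ⟨_, h₀⟩
  · intro h
    refine ⟨hh, ?_⟩
    refine key.trans (pullback.hom_ext ?_ ?_)
    · rw [pullback.lift_fst]
      exact phi_eq_of_famRel h _ _ _ h₀ h₁
    · rw [pullback.lift_snd]

variable {T T' : Scheme.{u}} {t : T ⟶ S} {t' : T' ⟶ S}

include w in
theorem pull_w {W : Scheme.{u}} {i : ι} (a : W ⟶ T) (y : W ⟶ U i) (h : a ≫ t = y ≫ u i) :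
    a ≫ t = (y ≫ g i) ≫ v (α i) := by
  rw [Category.assoc, w, Category.comp_id, h]

/-- Restriction of compatible families to a refinement. -/
noncomputable def Fam.restrict (s : Fam D t) : Fam (Desc.pullDDFamObj w D) t :=
  Fam.ofVal (fun a y h => pullback.lift (s.val a (y ≫ g _) (pull_w w a y h)) y (s.val_hom _ _ _))
    (fun _ _ _ => pullback.lift_snd _ _ _)
    (fun {W} {W'} c {i} a y h => by
      apply pullback.hom_ext
      · rw [Category.assoc, pullback.lift_fst, pullback.lift_fst, comp_val]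
        exact s.val_congr rfl (Category.assoc _ _ _).symm _
      · rw [Category.assoc, pullback.lift_snd, pullback.lift_snd])
    (fun {W} {i} {i'} a y y' h h' => by
      refine (famRel_pull_iff w _ _ ?_).2 ?_
      · rw [pullback.lift_snd, pullback.lift_snd, ← h, h']
      · rw [pullback.lift_fst, pullback.lift_fst]
        exact s.val_rel _ _ _ _ _)

theorem Fam.val_restrict (s : Fam D t) {W : Scheme.{u}} {i : ι} (a : W ⟶ T) (y : W ⟶ U i)
    (h : a ≫ t = y ≫ u i) :
    (s.restrict w).val a y h = pullback.lift (s.val a (y ≫ g i) (pull_w w a y h)) y (s.val_hom _ _ _) :=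
  Fam.val_ofVal _ _ _ _ _ _ _

theorem Fam.val_restrict_fst (s : Fam D t) {W : Scheme.{u}} {i : ι} (a : W ⟶ T) (y : W ⟶ U i)
    (h : a ≫ t = y ≫ u i) :
    (s.restrict w).val a y h ≫ pullback.fst (D.obj (α i)).hom (g i) = s.val a (y ≫ g i) (pull_w w a y h) :=
  (congrArg (· ≫ pullback.fst _ _) (s.val_restrict w a y h)).trans (pullback.lift_fst _ _ _)

theorem Fam.restrict_map (s : Fam D t) (c : T' ⟶ T) (hc : c ≫ t = t') :
    (s.map c hc).restrict w = (s.restrict w).map c hc :=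
  Fam.ext_val fun i W a y e => by
    rw [Fam.val_map, Fam.val_restrict, Fam.val_restrict]
    simp only [Fam.val_map]

theorem Fam.restrict_injective (H : EpiCovers u v) :
    Function.Injective (Fam.restrict w : Fam D t → Fam (Desc.pullDDFamObj w D) t) := by
  intro s s' e
  refine Fam.ext_val fun j W a x h => ?_
  obtain ⟨ν, Wk, q, hq, hy⟩ := H j W x
  refine hq _ _ fun k => ?_
  obtain ⟨i, y, hyx⟩ := hy k
  have h' : (q k ≫ a) ≫ t = y ≫ u i := by rw [Category.assoc, h, hyx]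
  have e2 := congrArg (fun z : Fam (Desc.pullDDFamObj w D) t =>
    z.val (q k ≫ a) y h' ≫ pullback.fst (D.obj (α i)).hom (g i)) e
  simp only [Fam.val_restrict_fst] at e2
  rw [comp_val, comp_val]
  have h'' : (q k ≫ a) ≫ t = (q k ≫ x) ≫ v j := by rw [Category.assoc, h, Category.assoc]
  refine famRel_unique (s.val_rel (q k ≫ a) (y ≫ g i) (q k ≫ x) (pull_w w _ y h') h'') ?_
    ((s.val_hom _ _ _).trans (s'.val_hom _ _ _).symm)
  rw [e2]
  exact s'.val_rel _ _ _ _ _

theorem Fam.restrict_surjective (H : Covers u v) :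
    Function.Surjective (Fam.restrict w : Fam D t → Fam (Desc.pullDDFamObj w D) t) := by
  intro s'
  let val' : ∀ {W : Scheme.{u}} {i : ι} (a : W ⟶ T) (y : W ⟶ U i), a ≫ t = y ≫ u i →
      (W ⟶ (D.obj (α i)).left) := fun a y h => s'.val a y h ≫ pullback.fst _ _
  have hval' : ∀ {W : Scheme.{u}} {i : ι} (a : W ⟶ T) (y : W ⟶ U i) (h : a ≫ t = y ≫ u i),
      val' a y h ≫ (D.obj (α i)).hom = y ≫ g i := by
    intro W i a y h
    show (s'.val a y h ≫ pullback.fst _ _) ≫ (D.obj (α i)).hom = y ≫ g i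
    rw [Category.assoc, pullback.condition, ← Category.assoc]
    exact congrArg (· ≫ g i) (s'.val_hom a y h)
  have hcval' : ∀ {W W' : Scheme.{u}} (c : W' ⟶ W) {i : ι} (a : W ⟶ T) (y : W ⟶ U i)
      (h : a ≫ t = y ≫ u i), c ≫ val' a y h = val' (c ≫ a) (c ≫ y) (by simp only [Category.assoc, h]) := by
    intro W W' c i a y h
    show c ≫ s'.val a y h ≫ pullback.fst _ _ = s'.val _ _ _ ≫ pullback.fst _ _
    rw [← Category.assoc, Fam.comp_val]
  have hrel : ∀ {W : Scheme.{u}} {i i' : ι} (a : W ⟶ T) (y : W ⟶ U i) (y' : W ⟶ U i')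
      (h : a ≫ t = y ≫ u i) (h' : a ≫ t = y' ≫ u i'), FamRel D (val' a y h) (val' a y' h') := by
    intro W i i' a y y' h h'
    refine (famRel_pull_iff w (s'.val a y h) (s'.val a y' h') ?_).1 (s'.val_rel a y y' h h')
    rw [show s'.val a y h ≫ pullback.snd (D.obj (α i)).hom (g i) = y from s'.val_hom a y h,
      show s'.val a y' h' ≫ pullback.snd (D.obj (α i')).hom (g i') = y' from s'.val_hom a y' h', ← h, h']
  have hex : ∀ {W : Scheme.{u}} {j : κ} (a : W ⟶ T) (x : W ⟶ V j), a ≫ t = x ≫ v j →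
      ∃ n : W ⟶ (D.obj j).left, n ≫ (D.obj j).hom = x ∧ ∀ (W' : Scheme.{u}) (c : W' ⟶ W) (i : ι)
        (y : W' ⟶ U i) (h : (c ≫ a) ≫ t = y ≫ u i), FamRel D (c ≫ n) (val' (c ≫ a) y h) := by
    intro W j a x hax
    obtain ⟨ν, Wk, q, hq, hy⟩ := H j W x
    choose i y hy using hy
    have hh : ∀ k, (q k ≫ a) ≫ t = y k ≫ u (i k) := fun k => by rw [Category.assoc, hax, hy]
    have hh' : ∀ k, (y k ≫ g (i k)) ≫ v (α (i k)) = (q k ≫ x) ≫ v j := fun k => by
      rw [← pull_w w _ _ (hh k), Category.assoc, hax, Category.assoc]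
    let m₀ : ∀ k, Wk k ⟶ (D.obj j).left := fun k =>
      (D.φ (y k ≫ g (i k)) (q k ≫ x) (hh' k) ⟨val' (q k ≫ a) (y k) (hh k), hval' _ _ _⟩).1
    have hm₀ : ∀ k, FamRel D (val' (q k ≫ a) (y k) (hh k)) (m₀ k) := fun k =>
      famRel_of_phi (D := D) (y k ≫ g (i k)) (q k ≫ x) (hh' k) ⟨val' (q k ≫ a) (y k) (hh k), hval' _ _ _⟩
    have hm₀x : ∀ k, m₀ k ≫ (D.obj j).hom = q k ≫ x := fun k => (D.φ _ _ _ _).2
    obtain ⟨n, hn, -⟩ := hq (𝟙 W) (fun k => pullback.snd (𝟙 W) (q k) ≫ m₀ k) fun k l Z b b' hbb => by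
      have hqq : (b ≫ pullback.snd (𝟙 W) (q k)) ≫ q k = (b' ≫ pullback.snd (𝟙 W) (q l)) ≫ q l := by
        simp only [Category.assoc, ← pullback.condition, Category.comp_id, hbb]
      rw [← Category.assoc, ← Category.assoc]
      refine famRel_unique (famRel_comp _ (hm₀ k)) ?_ ?_
      · refine famRel_trans ?_ (famRel_comp _ (hm₀ l))
        rw [hcval', hcval']
        have ha : (b' ≫ pullback.snd (𝟙 W) (q l)) ≫ q l ≫ a = (b ≫ pullback.snd (𝟙 W) (q k)) ≫ q k ≫ a := by
          rw [← Category.assoc, ← Category.assoc, hqq]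
        simp only [ha]
        exact hrel _ _ _ _ _
      · rw [Category.assoc _ (m₀ k), Category.assoc _ (m₀ l), hm₀x, hm₀x, ← Category.assoc, hqq,
          Category.assoc]
    have hqn : ∀ k, q k ≫ n = m₀ k := fun k => by
      have e := congrArg (pullback.lift (q k) (𝟙 _) (by simp) ≫ ·) (hn k)
      simp at e
      exact e.trans (Category.id_comp _)
    refine ⟨n, hq.epi _ _ fun k => by rw [← Category.assoc, hqn, hm₀x], fun W' c i' y' h' => ?_⟩
    have hnx : (c ≫ n) ≫ (D.obj j).hom = c ≫ x := by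
      rw [Category.assoc]; congr 1
      exact hq.epi _ _ fun k => by rw [← Category.assoc, hqn, hm₀x]
    have hcc : ((c ≫ n) ≫ (D.obj j).hom) ≫ v j =
        (val' (c ≫ a) y' h' ≫ (D.obj (α i')).hom) ≫ v (α i') := by
      rw [hnx, hval', ← pull_w w _ _ h', Category.assoc, Category.assoc, hax]
    refine ⟨hcc, IsDescFam.epi (IsDescFam.baseChange hq c) _ _ fun k => ?_⟩
    let p₁ := pullback.fst c (q k)
    let p₂ := pullback.snd c (q k)
    have hp : p₁ ≫ c = p₂ ≫ q k := pullback.condition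
    refine famRel_unique (famRel_comp p₁ (famRel_of_phi _ _ hcc ⟨c ≫ n, rfl⟩)) ?_ ?_
    · show FamRel D (p₁ ≫ c ≫ n) (p₁ ≫ val' (c ≫ a) y' h')
      rw [← Category.assoc, hp, Category.assoc, hqn]
      refine famRel_trans (famRel_symm (famRel_comp p₂ (hm₀ k))) ?_
      rw [hcval', hcval']
      have ha : p₁ ≫ c ≫ a = p₂ ≫ q k ≫ a := by rw [reassoc_of% hp]
      simp only [ha]
      exact hrel _ _ _ _ _
    · exact (Category.assoc _ _ _).trans ((congrArg (p₁ ≫ ·) (D.φ _ _ hcc ⟨c ≫ n, rfl⟩).2).trans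
        (Category.assoc _ _ _).symm)
  choose n hnx hn using @hex
  have huniq : ∀ {W : Scheme.{u}} {j : κ} (a : W ⟶ T) (x : W ⟶ V j) (h : a ≫ t = x ≫ v j)
      (n' : W ⟶ (D.obj j).left), n' ≫ (D.obj j).hom = x →
      (∀ (W' : Scheme.{u}) (c : W' ⟶ W) (i : ι) (y : W' ⟶ U i) (h' : (c ≫ a) ≫ t = y ≫ u i),
        FamRel D (c ≫ n') (val' (c ≫ a) y h')) → n' = n a x h := by
    intro W j a x h n' hn'x hn'
    obtain ⟨ν, Wk, q, hq, hy⟩ := H j W x
    refine hq.epi _ _ fun k => ?_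
    obtain ⟨i, y, hy⟩ := hy k
    have h' : (q k ≫ a) ≫ t = y ≫ u i := by rw [Category.assoc, h, hy]
    exact famRel_unique (famRel_symm (hn' _ (q k) i y h')) (famRel_symm (hn a x h _ (q k) i y h'))
      (by simp only [Category.assoc, hn'x, hnx])
  refine ⟨Fam.ofVal (fun a x h => n a x h) (fun a x h => hnx a x h) ?_ ?_, ?_⟩
  · intro W W' c j a x h
    refine huniq _ _ _ _ (by rw [Category.assoc, hnx]) fun W'' c' i y h' => ?_
    have h'' : ((c' ≫ c) ≫ a) ≫ t = y ≫ u i := by rw [← h']; simp only [Category.assoc]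
    have h1 := hn a x h W'' (c' ≫ c) i y h''
    rw [Category.assoc] at h1
    convert h1 using 2
    exact (Category.assoc _ _ _).symm
  · intro W j k a x x' h h'
    obtain ⟨ν, Wk, q, hq, hy⟩ := H j W x
    have hc : (n a x h ≫ (D.obj j).hom) ≫ v j = (n a x' h' ≫ (D.obj k).hom) ≫ v k := by
      rw [hnx, hnx, ← h, h']
    refine ⟨hc, hq.epi _ _ fun l => ?_⟩
    obtain ⟨i, y, hy⟩ := hy l
    have h₁ : (q l ≫ a) ≫ t = y ≫ u i := by rw [Category.assoc, h, hy]
    refine famRel_unique (famRel_comp (q l) (famRel_of_phi _ _ hc ⟨n a x h, rfl⟩)) ?_ ?_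
    · exact famRel_trans (hn a x h _ (q l) i y h₁) (famRel_symm (hn a x' h' _ (q l) i y h₁))
    · exact (Category.assoc _ _ _).trans ((congrArg (q l ≫ ·) (D.φ _ _ hc ⟨n a x h, rfl⟩).2).trans
        (Category.assoc _ _ _).symm)
  · refine Fam.ext_val fun i W a y h => pullback.hom_ext ?_ ?_
    · refine (Fam.val_restrict_fst w _ a y h).trans ((Fam.val_ofVal _ _ _ _ _ _ _).trans ?_)
      symm
      refine huniq _ _ _ _ (hval' a y h) fun W' c i' y' h' => ?_
      rw [hcval']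
      exact hrel _ _ _ _ _
    · exact ((Fam.restrict w _).val_hom a y h).trans (s'.val_hom a y h).symm

/-- Post-composition of compatible families with a morphism of descent data. -/
noncomputable def Fam.push (b : D ⟶ D') (s : Fam D t) : Fam D' t :=
  Fam.ofVal (fun {W} {i} a x h => s.val a x h ≫ (b.hom i).left)
    (fun a x h => by rw [Category.assoc, Over.w, s.val_hom])
    (fun {W} {W'} c {i} a x h =>
      (Category.assoc _ _ _).symm.trans (congrArg (· ≫ (b.hom i).left) (Fam.comp_val s c a x h)))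
    (fun {W} {i} {k} a x y h h' => by
      have hr := s.val_rel a x y h h'
      have hh : x ≫ v i = y ≫ v k := h.symm.trans h'
      have e := b.comm x y hh ⟨s.val a x h, s.val_hom _ _ _⟩
        ⟨s.val a x h ≫ (b.hom i).left, by rw [Category.assoc, Over.w, s.val_hom]⟩ rfl
      rw [phi_eq_of_famRel hr x y hh _ (s.val_hom _ _ _)] at e
      rw [← e]
      exact famRel_of_phi (D := D') x y hh ⟨s.val a x h ≫ (b.hom i).left, by rw [Category.assoc, Over.w, s.val_hom]⟩)

theorem Fam.val_push (b : D ⟶ D') (s : Fam D t) {W : Scheme.{u}} {i : κ} (a : W ⟶ T) (x : W ⟶ V i)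
    (h : a ≫ t = x ≫ v i) : (s.push b).val a x h = s.val a x h ≫ (b.hom i).left :=
  Fam.val_ofVal _ _ _ _ _ _ _

theorem Fam.push_map (b : D ⟶ D') (s : Fam D t) (c : T' ⟶ T) (hc : c ≫ t = t') :
    (s.map c hc).push b = (s.push b).map c hc :=
  Fam.ext_val fun i W a x e => by rw [Fam.val_push, Fam.val_map, Fam.val_map, Fam.val_push]

/-- The universal compatible family over a member. -/
noncomputable def Fam.univOf (D : Desc.SchDDFam v) (j : κ) : Fam D ((D.obj j).hom ≫ v j) :=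
  Fam.ofLift (i := j) (x := (D.obj j).hom) rfl ⟨𝟙 _, Category.id_comp _⟩

theorem Fam.univOf_map {j : κ} {x : T ⟶ V j} (hx : x ≫ v j = t) (a : T ⟶ (D.obj j).left)
    (ha : a ≫ (D.obj j).hom = x) :
    (Fam.univOf D j).map a (t' := t) (by rw [← Category.assoc, ha, hx]) = Fam.ofLift hx ⟨a, ha⟩ := by
  refine (Fam.evEquiv (i := j) (x := x) (h := hx)).injective (Subtype.ext ?_)
  show ((Fam.univOf D j).map a _ |>.ev hx).1 = ((Fam.ofLift hx ⟨a, ha⟩).ev hx).1
  rw [Fam.ev_map a _ rfl hx ha, Fam.univOf, Fam.ev_ofLift, Fam.ev_ofLift, Category.comp_id]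

/-- A natural transformation of compatible families comes from a morphism. -/
theorem exists_hom_of_natural
    (Φ : ∀ {T : Scheme.{u}} {t : T ⟶ S}, Fam D t → Fam D' t)
    (hΦ : ∀ {T T' : Scheme.{u}} {t : T ⟶ S} {t' : T' ⟶ S} (c : T' ⟶ T) (hc : c ≫ t = t') (s : Fam D t),
      Φ (s.map c hc) = (Φ s).map c hc) :
    ∃ b : D ⟶ D', ∀ {T : Scheme.{u}} {t : T ⟶ S} (s : Fam D t), s.push b = Φ s := by
  let m : ∀ j, D.obj j ⟶ D'.obj j := fun j =>
    Over.homMk ((Φ (Fam.univOf D j)).ev (i := j) (x := (D.obj j).hom) rfl).1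
      ((Φ (Fam.univOf D j)).ev (i := j) (x := (D.obj j).hom) rfl).2
  have key : ∀ {T : Scheme.{u}} {t : T ⟶ S} {j : κ} {x : T ⟶ V j} (hx : x ≫ v j = t)
      (a : T ⟶ (D.obj j).left) (ha : a ≫ (D.obj j).hom = x),
      ((Φ (Fam.ofLift hx ⟨a, ha⟩)).ev hx).1 = a ≫ (m j).left := by
    intro T t j x hx a ha
    rw [← Fam.univOf_map hx a ha, hΦ, Fam.ev_map a _ rfl hx ha]
    rfl
  refine ⟨⟨m, fun T i j x₀ x₁ h p q hq => ?_⟩, fun {T} {t} s => ?_⟩
  · obtain ⟨p, hp⟩ := p
    obtain ⟨q, hq'⟩ := q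
    subst hq
    let s := Fam.ofLift (D := D) (t := x₁ ≫ v j) h ⟨p, hp⟩
    let p₁ := D.φ x₀ x₁ h ⟨p, hp⟩
    have hs : s = Fam.ofLift rfl p₁ := by
      rw [← Fam.ofLift_ev (i := j) (x := x₁) rfl s]
      congr 1
      refine Subtype.ext ((Fam.val_ofVal _ _ _ _ _ _ _).trans ?_)
      exact phi_eq_of_famRel (by rw [Category.id_comp]; exact famRel_of_phi _ _ h ⟨p, hp⟩) _ _ _ _ p₁.2
    have e₀ := key h p hp
    have e₁ : ((Φ s).ev (x := x₁) rfl).1 = p₁.1 ≫ (m j).left := by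
      rw [hs]; exact key rfl p₁.1 p₁.2
    refine (phi_eq_of_famRel ?_ x₀ x₁ h hq' (by rw [Category.assoc, Over.w, p₁.2]))
    rw [← e₀, ← e₁]
    exact (Φ s).val_rel _ _ _ _ _
  · refine Fam.ext_val fun j W a x h => ?_
    rw [Fam.val_push]
    have e := key (x := x) (j := j) h.symm (s.val a x h) (s.val_hom _ _ _)
    refine e.symm.trans ?_
    have e2 : Fam.ofLift (i := j) (x := x) h.symm ⟨s.val a x h, s.val_hom _ _ _⟩ = s.map a rfl := by
      rw [← Fam.ofLift_ev (i := j) (x := x) h.symm (s.map a rfl)]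
      congr 1
      refine Subtype.ext ?_
      show _ = (s.map a rfl).val _ _ _
      rw [Fam.val_map]
      exact s.val_congr (Category.id_comp _).symm rfl _
    rw [e2, hΦ]
    show ((Φ s).map a rfl).val _ _ _ = _
    rw [Fam.val_map]
    exact (Φ s).val_congr (Category.id_comp _) rfl _

theorem Fam.restrict_push (b : D ⟶ D') (s : Fam D t) :
    (s.push b).restrict w = (s.restrict w).push ((Desc.pullDDFam w).map b) := by
  refine Fam.ext_val fun i W a y h => ?_
  refine (Fam.val_restrict w (s.push b) a y h).trans (Eq.trans ?_ (Fam.val_push _ (s.restrict w) a y h).symm)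
  rw [Fam.val_restrict]
  apply pullback.hom_ext
  · simp [Desc.pullDDFam, Fam.val_push]
  · simp [Desc.pullDDFam]

theorem push_injective {b b' : D ⟶ D'} (h : ∀ {T : Scheme.{u}} {t : T ⟶ S} (s : Fam D t), s.push b = s.push b') :
    b = b' := by
  refine Desc.SchDDFam.hom_ext (funext fun j => Over.OverMorphism.ext ?_)
  have e := congrArg (fun s : Fam D' ((D.obj j).hom ≫ v j) =>
    s.val (𝟙 _) (D.obj j).hom (Category.id_comp _)) (h (Fam.univOf D j))
  simp only [Fam.val_push] at e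
  have e2 : (Fam.univOf D j).val (𝟙 _) (D.obj j).hom (Category.id_comp _) = 𝟙 _ :=
    congrArg Subtype.val (Fam.ev_ofLift (i := j) (x := (D.obj j).hom) rfl ⟨𝟙 _, Category.id_comp _⟩)
  rw [e2, Category.id_comp, Category.id_comp] at e
  exact e

theorem pull_faithful (H : EpiCovers u v) : (Desc.pullDDFam w).Faithful := by
  refine ⟨fun {D D'} b b' e => push_injective fun s => Fam.restrict_injective w H ?_⟩
  rw [Fam.restrict_push, Fam.restrict_push, e]

theorem pull_full (H : Covers u v) : (Desc.pullDDFam w).Full := by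
  refine ⟨fun {D D'} (b : Desc.pullDDFamObj w D ⟶ Desc.pullDDFamObj w D') => ?_⟩
  let Φ : ∀ {T : Scheme.{u}} {t : T ⟶ S}, Fam D t → Fam D' t := fun {T} {t} s =>
    (Fam.restrict_surjective w H ((s.restrict w).push b)).choose
  have hΦ : ∀ {T : Scheme.{u}} {t : T ⟶ S} (s : Fam D t), (Φ s).restrict w = (s.restrict w).push b :=
    fun s => (Fam.restrict_surjective w H ((s.restrict w).push b)).choose_spec
  obtain ⟨b₀, hb₀⟩ := exists_hom_of_natural Φ fun c hc s => by
    apply Fam.restrict_injective w H.epiCovers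
    rw [Fam.restrict_map, hΦ, hΦ, Fam.restrict_map, Fam.push_map]
  refine ⟨b₀, push_injective (D := Desc.pullDDFamObj w D) (D' := Desc.pullDDFamObj w D') fun {T} {t} s' => ?_⟩
  obtain ⟨s, rfl⟩ := Fam.restrict_surjective w H s'
  rw [← Fam.restrict_push, hb₀, hΦ]

/-- Essential surjectivity from universal families over the members of the coarser family. -/
theorem pull_essSurj (H : ∀ (D' : Desc.SchDDFam u) (j : κ),
      ∃ (Y : Over (V j)) (z : Fam D' (Y.hom ≫ v j)), IsUniv D' (v j) Y z) :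
    (Desc.pullDDFam w).EssSurj := by
  refine ⟨fun D' => ?_⟩
  choose Y z hY using H D'
  have hw : ∀ {T : Scheme.{u}} {j : κ} {x : T ⟶ V j} {t : T ⟶ S}, x ≫ v j = t →
      ∀ p : Desc.Lifts (Y j) x, p.1 ≫ (Y j).hom ≫ v j = t := fun e p => by
    rw [← Category.assoc, p.2, e]
  let L : ∀ {T : Scheme.{u}} (j : κ) (x : T ⟶ V j) (t : T ⟶ S), x ≫ v j = t →
      (Desc.Lifts (Y j) x ≃ Fam D' t) := fun j x t e =>
    Equiv.ofBijective (fun p => (z j).map p.1 (hw e p))
      ⟨fun p p' he => Subtype.ext ((hY j).hom_ext p.1 p'.1 (p.2.trans p'.2.symm) _ _ he), fun s => by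
        obtain ⟨a, ha, hap, has⟩ := (hY j).exists_hom x e s
        exact ⟨⟨a, hap⟩, has⟩⟩
  have hL : ∀ {T T' : Scheme.{u}} (c : T' ⟶ T) (j : κ) (x : T ⟶ V j) (t : T ⟶ S) (e : x ≫ v j = t)
      (y : T' ⟶ V j) (t' : T' ⟶ S) (e' : y ≫ v j = t') (hc : c ≫ t = t') (p : Desc.Lifts (Y j) x)
      (p' : Desc.Lifts (Y j) y), p'.1 = c ≫ p.1 → L j y t' e' p' = (L j x t e p).map c hc := by
    intro T T' c j x t e y t' e' hc p p' hp
    show (z j).map p'.1 (hw e' p') = ((z j).map p.1 (hw e p)).map c hc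
    rw [Fam.map_map]
    exact Fam.map_congr hp _ _
  let D : Desc.SchDDFam v :=
    { obj := Y
      φ := fun T i j x₀ x₁ h => (L i x₀ (x₁ ≫ v j) h).trans (L j x₁ (x₁ ≫ v j) rfl).symm
      φ_natural := fun T T' c i j x₀ x₁ h y₀ y₁ hy₀ hy₁ h' p p' hp => by
        subst hy₀ hy₁
        let q := (L j x₁ (x₁ ≫ v j) rfl).symm (L i x₀ (x₁ ≫ v j) h p)
        let q' : Desc.Lifts (Y j) (c ≫ x₁) := ⟨c ≫ q.1, by rw [Category.assoc, q.2]⟩
        suffices ((L j (c ≫ x₁) _ rfl).symm (L i (c ≫ x₀) _ h' p')) = q' from congrArg Subtype.val this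
        rw [Equiv.symm_apply_eq, hL c i x₀ _ h _ _ h' (Category.assoc _ _ _).symm p p' hp,
          hL c j x₁ _ rfl _ _ rfl (Category.assoc _ _ _).symm q q' rfl]
        exact congrArg (Fam.map c _) ((L j x₁ _ rfl).apply_symm_apply _).symm
      φ_self := fun T i x p => by
        show (L i x _ rfl).symm (L i x _ rfl p) = p
        exact Equiv.symm_apply_apply _ _
      φ_comp := fun T i j k x₀ x₁ x₂ h₀₁ h₁₂ p => by
        simp only [Equiv.trans_apply]
        refine congrArg (L k x₂ (x₂ ≫ v k) rfl).symm ?_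
        have h1 : (z j).map ((L j x₁ (x₁ ≫ v j) rfl).symm (L i x₀ (x₁ ≫ v j) h₀₁ p)).1 (hw rfl _) =
            (z i).map p.1 (hw h₀₁ p) :=
          (L j x₁ (x₁ ≫ v j) rfl).apply_symm_apply (L i x₀ (x₁ ≫ v j) h₀₁ p)
        exact Fam.retarget h1 (hw h₁₂ _) (hw (h₀₁.trans h₁₂) p) }
  have hrelD : ∀ {T : Scheme.{u}} {i j : κ} (p : T ⟶ (Y i).left) (q : T ⟶ (Y j).left) (t : T ⟶ S)
      (hp : p ≫ (Y i).hom ≫ v i = t) (hq : q ≫ (Y j).hom ≫ v j = t),
      FamRel D p q → (z i).map p hp = (z j).map q hq := by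
    intro T i j p q t hp hq hpq
    have e := phi_eq_of_famRel hpq _ _ hpq.1 rfl rfl
    have h1 := (L j (q ≫ (Y j).hom) _ rfl).apply_symm_apply
      (L i (p ≫ (Y i).hom) ((q ≫ (Y j).hom) ≫ v j) hpq.1 ⟨p, rfl⟩)
    have h2 : (z j).map q (t' := (q ≫ (Y j).hom) ≫ v j) (Category.assoc _ _ _).symm =
        (z i).map p (by rw [← Category.assoc]; exact hpq.1) := by
      refine Eq.trans ?_ h1
      exact Fam.map_congr e.symm _ _
    exact (Fam.retarget h2 hq hp).symm
  -- the members of the finer family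
  have hbw : ∀ i, pullback.fst (Y (α i)).hom (g i) ≫ (Y (α i)).hom ≫ v (α i) =
      pullback.snd (Y (α i)).hom (g i) ≫ u i := fun i => by
    rw [pullback.condition_assoc, w, Category.comp_id]
  let zi : ∀ i, Fam D' (pullback.snd (Y (α i)).hom (g i) ≫ u i) := fun i =>
    (z (α i)).map (pullback.fst (Y (α i)).hom (g i)) (hbw i)
  have hzi : ∀ i, IsUniv D' (u i) (Over.mk (pullback.snd (Y (α i)).hom (g i))) (zi i) := by
    intro i
    refine IsUniv.mk' (fun T a b t ha hb hab he => pullback.hom_ext ?_ hab) (fun T p s => ?_)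
    · simp only [zi] at he
      rw [Fam.map_map, Fam.map_map] at he
      exact (hY (α i)).hom_ext _ _ (by simp only [Category.assoc, pullback.condition]; rw [← Category.assoc,
        ← Category.assoc, show a ≫ pullback.snd _ _ = b ≫ pullback.snd _ _ from hab]) _ _ he
    · obtain ⟨a, ha, hap, has⟩ := (hY (α i)).exists_hom (p ≫ g i)
        (t := p ≫ u i) (by rw [Category.assoc, w, Category.comp_id]) s
      refine ⟨pullback.lift a p hap, by simp, pullback.lift_snd _ _ _, ?_⟩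
      simp only [zi]
      rw [Fam.map_map, Fam.map_congr (pullback.lift_fst _ _ _)]
      exact has
  let ψ : ∀ i, (Desc.pullDDFamObj w D).obj i ⟶ D'.obj i := fun i =>
    Over.homMk ((zi i).ev (i := i) (x := pullback.snd (Y (α i)).hom (g i)) rfl).1
      ((zi i).ev (i := i) (x := pullback.snd (Y (α i)).hom (g i)) rfl).2
  have hψ : ∀ (i : ι) {T : Scheme.{u}} (a : T ⟶ pullback (Y (α i)).hom (g i)) {t : T ⟶ S}
      (h : (a ≫ pullback.snd _ _) ≫ u i = t),
      a ≫ (ψ i).left = (((zi i).map a (t' := t) (by rw [← Category.assoc, h])).ev h).1 :=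
    fun i T a t h => (Fam.ev_map a _ rfl h rfl (zi i)).symm
  have hiso : ∀ i, IsIso (ψ i) := fun i => by
    obtain ⟨χ, hχ, hχp, hχz⟩ := (hzi i).exists_hom (D'.obj i).hom rfl
      (Fam.ofLift (i := i) (x := (D'.obj i).hom) rfl ⟨𝟙 _, Category.id_comp _⟩)
    have hχp' : χ ≫ pullback.snd (Y (α i)).hom (g i) = (D'.obj i).hom := hχp
    have e1 : χ ≫ (ψ i).left = 𝟙 _ := by
      rw [hψ i χ (t := (D'.obj i).hom ≫ u i) (by rw [hχp'])]
      have h1 : ((zi i).map χ hχ).ev (i := i) (x := χ ≫ pullback.snd (Y (α i)).hom (g i)) (by rw [hχp']) =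
          ⟨𝟙 _, by rw [Category.id_comp, hχp']⟩ := by
        rw [hχz]
        refine Subtype.ext ?_
        show Fam.val _ _ _ _ = 𝟙 _
        refine (Fam.val_congr _ rfl hχp' _).trans ?_
        exact congrArg Subtype.val (Fam.ev_ofLift (i := i) (x := (D'.obj i).hom) rfl ⟨𝟙 _, Category.id_comp _⟩)
      exact congrArg Subtype.val h1
    have e2 : (ψ i).left ≫ χ = 𝟙 _ := by
      have hs : ((ψ i).left ≫ χ) ≫ pullback.snd _ _ = pullback.snd (Y (α i)).hom (g i) := by
        rw [Category.assoc, hχp']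
        exact Over.w (ψ i)
      refine (hzi i).hom_ext _ _ (hs.trans (Category.id_comp _).symm)
        (t := pullback.snd (Y (α i)).hom (g i) ≫ u i) (by simp only [Over.mk_hom]; rw [← Category.assoc, hs])
        (Category.id_comp _) ?_
      refine (Fam.evEquiv (i := i) (x := pullback.snd (Y (α i)).hom (g i)) (h := rfl)).injective (Subtype.ext ?_)
      show (((zi i).map _ _).ev rfl).1 = (((zi i).map (𝟙 _) _).ev rfl).1
      rw [Fam.ev_map (𝟙 _) _ rfl rfl (Category.id_comp _), Fam.ev_map _ _ rfl rfl hs, Category.assoc]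
      show (ψ i).left ≫ χ ≫ (ψ i).left = 𝟙 _ ≫ (ψ i).left
      rw [e1, Category.comp_id, Category.id_comp]
    exact ⟨Over.homMk χ hχp', Over.OverMorphism.ext e2, Over.OverMorphism.ext e1⟩
  have hcomm : ∀ ⦃T : Scheme.{u}⦄ ⦃i k : ι⦄ (x₀ : T ⟶ U i) (x₁ : T ⟶ U k) (hx : x₀ ≫ u i = x₁ ≫ u k)
      (p : Desc.Lifts ((Desc.pullDDFamObj w D).obj i) x₀) (q : Desc.Lifts (D'.obj i) x₀),
      q.1 = p.1 ≫ (ψ i).left →
      (D'.φ x₀ x₁ hx q).1 = ((Desc.pullDDFamObj w D).φ x₀ x₁ hx p).1 ≫ (ψ k).left := by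
    intro T i k x₀ x₁ hx p q hq
    obtain ⟨q, hq'⟩ := q
    subst hq
    let p₁ := (Desc.pullDDFamObj w D).φ x₀ x₁ hx p
    have hp₀ : p.1 ≫ pullback.snd (Y (α i)).hom (g i) = x₀ := p.2
    have hp₁ : p₁.1 ≫ pullback.snd (Y (α k)).hom (g k) = x₁ := p₁.2
    have hh : (p.1 ≫ pullback.snd (Y (α i)).hom (g i)) ≫ u i =
        (p₁.1 ≫ pullback.snd (Y (α k)).hom (g k)) ≫ u k := by rw [hp₀, hp₁, hx]
    have hr : FamRel D (p.1 ≫ pullback.fst (Y (α i)).hom (g i)) (p₁.1 ≫ pullback.fst (Y (α k)).hom (g k)) :=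
      (famRel_pull_iff w p.1 p₁.1 hh).1 (famRel_of_phi x₀ x₁ hx p)
    have ht₀ : p.1 ≫ pullback.snd (Y (α i)).hom (g i) ≫ u i = x₀ ≫ u i := by rw [reassoc_of% hp₀]
    have ht₁ : p₁.1 ≫ pullback.snd (Y (α k)).hom (g k) ≫ u k = x₀ ≫ u i := by rw [reassoc_of% hp₁, hx]
    have he : (zi i).map p.1 ht₀ = (zi k).map p₁.1 ht₁ := by
      simp only [zi]
      rw [Fam.map_map, Fam.map_map]
      exact hrelD _ _ _ _ _ hr
    refine phi_eq_of_famRel ?_ x₀ x₁ hx hq' (by rw [Category.assoc, Over.w (ψ k)]; exact p₁.2)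
    rw [hψ i p.1 (t := x₀ ≫ u i) (by rw [hp₀]), hψ k p₁.1 (t := x₀ ≫ u i) (by rw [hp₁, hx]), he]
    exact Fam.val_rel _ _ _ _ _ _
  let A : Desc.pullDDFamObj w D ⟶ D' := ⟨ψ, hcomm⟩
  let B : D' ⟶ Desc.pullDDFamObj w D := ⟨fun i => @inv _ _ _ _ (ψ i) (hiso i), by
    intro T i k x₀ x₁ hx p q hq
    haveI := hiso i; haveI := hiso k
    haveI : IsIso (ψ k).left := inferInstanceAs (IsIso ((Over.forget _).map (ψ k)))
    have hc := hcomm x₀ x₁ hx q p (by
      rw [hq, Category.assoc, ← Over.comp_left, IsIso.inv_hom_id, Over.id_left, Category.comp_id])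
    rw [← cancel_mono (ψ k).left, ← hc, Category.assoc, ← Over.comp_left, IsIso.inv_hom_id, Over.id_left]
    exact (Category.comp_id _).symm⟩
  exact ⟨D, ⟨⟨A, B, Desc.SchDDFam.hom_ext (funext fun i => @IsIso.hom_inv_id _ _ _ _ (ψ i) (hiso i)),
    Desc.SchDDFam.hom_ext (funext fun i => @IsIso.inv_hom_id _ _ _ _ (ψ i) (hiso i))⟩⟩⟩

/-- Covering from a covering family of the base. -/
theorem covers_of_isDescFam (hu : IsDescFam u) : Covers u v := fun j W x =>
  ⟨ι, fun i => pullback (x ≫ v j) (u i), fun i => pullback.fst _ _, hu.baseChange (x ≫ v j), fun i =>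
    ⟨i, pullback.snd _ _, pullback.condition.symm⟩⟩

include w in
/-- Covering from coverings of the members. -/
theorem covers_of_members
    (h : ∀ j, IsDescFam fun i : {i // α i = j} => g i.1 ≫ eqToHom (congrArg V i.2)) : Covers u v := by
  intro j W x
  refine ⟨_, _, _, IsDescFam.baseChange (h j) x, fun k => ⟨k.1, pullback.snd _ _, ?_⟩⟩
  obtain ⟨i, hi⟩ := k
  subst hi
  have hc := congrArg (· ≫ v (α i)) (pullback.condition (f := x) (g := g i ≫ eqToHom (congrArg V rfl)))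
  have hw' : (g i ≫ eqToHom (congrArg V (rfl : α i = α i))) ≫ v (α i) = u i := by simp [w]
  exact ((congrArg (_ ≫ ·) hw').symm.trans (Category.assoc _ _ _).symm).trans
    (hc.symm.trans (Category.assoc _ _ _))

end Groth.Agent.Desc44
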