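import Groth.Agent.Desc44.FamPull
import Mathlib.AlgebraicGeometry.Sites.Fpqc

/-!
# Zariski refinements and self-maps of descent data
-/

set_option autoImplicit false
set_option backward.isDefEq.respectTransparency false
set_option linter.style.haveILetI false

universe u

open CategoryTheory CategoryTheory.Limits AlgebraicGeometry Opposite

namespace Groth.Agent.Desc44

variable {S : Scheme.{u}} {ι κ : Type u} {U : ι → Scheme.{u}} {V : κ → Scheme.{u}}
  {u : ∀ i, U i ⟶ S} {v : ∀ j, V j ⟶ S} {α : ι → κ} {g : ∀ i, U i ⟶ V (α i)}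
  (w : ∀ i, g i ≫ v (α i) = u i ≫ 𝟙 S)

/-- Pullback along Zariski refinements is an equivalence. -/
theorem pull_isEquivalence_zariski
    (hcov : ∀ j, Presieve.ofArrows (fun i : {i // α i = j} => U i.1)
      (fun i => g i.1 ≫ eqToHom (congrArg V i.2)) ∈ Scheme.zariskiPrecoverage (V j)) :
    (Desc.pullDDFam w).IsEquivalence := by
  have hC : Covers u v := covers_of_members w fun j =>
    isDescFam_of_fpqc _ (Scheme.zariskiPrecoverage_le_fpqcPrecoverage _ (hcov j))
  haveI := pull_faithful w hC.epiCovers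
  haveI := pull_full w hC
  haveI := pull_essSurj w fun D' j => by
    have hj := (Scheme.ofArrows_mem_precoverage_iff (P := @IsOpenImmersion)).1 (hcov j)
    refine exists_isUniv_of_openCover (v j)
      (Scheme.Cover.mkOfCovers {i // α i = j} (fun i => U i.1) (fun i => g i.1 ≫ eqToHom (congrArg V i.2))
        (fun x => by obtain ⟨i, y, hy⟩ := hj.1 x; exact ⟨i, y, hy⟩) hj.2) fun i => ?_
    obtain ⟨i, rfl⟩ := i
    have e : (g i ≫ eqToHom (congrArg V (rfl : α i = α i))) ≫ v (α i) = u i := by simp [w]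
    show ∃ (Y : Over (U i)) (z : Fam D' (Y.hom ≫ (g i ≫ eqToHom (congrArg V (rfl : α i = α i))) ≫ v (α i))),
      IsUniv D' _ Y z
    rw [e]
    exact ⟨_, _, isUniv_member D' i⟩
  exact { }

variable {X S' : Scheme.{u}} (a : X ⟶ S') (f : X ⟶ X)
  (h : ∀ _ : PUnit.{u + 1}, f ≫ a = a ≫ 𝟙 S')

variable {a f}

include h in
theorem selfMap_w {T : Scheme.{u}} (x : T ⟶ X) : (x ≫ f) ≫ a = x ≫ a := by
  rw [Category.assoc, h ⟨⟩, Category.comp_id]

/-- The transport of a point of the pulled back member. -/
noncomputable def selfMapQ (D : Desc.SchDDFam (fun _ : PUnit.{u + 1} => a)) (i : PUnit.{u + 1}) :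
    Desc.Lifts (D.obj i) (pullback.snd (D.obj i).hom f) :=
  D.φ (i := i) (j := i) (pullback.snd (D.obj i).hom f ≫ f) (pullback.snd (D.obj i).hom f) (selfMap_w h _)
    ⟨pullback.fst _ _, pullback.condition⟩

theorem famRel_selfMapQ (D : Desc.SchDDFam (fun _ : PUnit.{u + 1} => a)) (i : PUnit.{u + 1}) :
    FamRel D (pullback.fst (D.obj i).hom f) (selfMapQ h D i).1 :=
  famRel_of_phi (D := D) _ _ _ ⟨pullback.fst _ _, pullback.condition⟩

/-- The inverse transport. -/
noncomputable def selfMapR (D : Desc.SchDDFam (fun _ : PUnit.{u + 1} => a)) (i : PUnit.{u + 1}) :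
    Desc.Lifts (D.obj i) ((D.obj i).hom ≫ f) :=
  D.φ (i := i) (j := i) (D.obj i).hom ((D.obj i).hom ≫ f) (selfMap_w h _).symm ⟨𝟙 _, Category.id_comp _⟩

theorem famRel_selfMapR (D : Desc.SchDDFam (fun _ : PUnit.{u + 1} => a)) (i : PUnit.{u + 1}) :
    FamRel D (𝟙 (D.obj i).left) (selfMapR h D i).1 :=
  famRel_of_phi (D := D) _ _ _ ⟨𝟙 _, Category.id_comp _⟩

/-- The members of a pulled back datum. -/
noncomputable def selfMapMember (D : Desc.SchDDFam (fun _ : PUnit.{u + 1} => a)) (i : PUnit.{u + 1}) :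
    Over.mk (pullback.snd (D.obj i).hom f) ≅ D.obj i :=
  Over.isoMk
    { hom := (selfMapQ h D i).1
      inv := pullback.lift (selfMapR h D i).1 (D.obj i).hom (selfMapR h D i).2
      hom_inv_id := by
        refine pullback.hom_ext ?_ ?_
        · rw [Category.assoc, pullback.lift_fst]
          refine Eq.trans ?_ (Category.id_comp _).symm
          refine famRel_unique (famRel_comp (selfMapQ h D i).1 (famRel_selfMapR h D i)) ?_ ?_
          · rw [Category.comp_id]; exact famRel_symm (famRel_selfMapQ h D i)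
          · rw [Category.assoc, (selfMapR h D i).2, ← Category.assoc, (selfMapQ h D i).2, pullback.condition]
        · rw [Category.assoc, pullback.lift_snd]
          exact (selfMapQ h D i).2.trans (Category.id_comp _).symm
      inv_hom_id := by
        let l := pullback.lift (selfMapR h D i).1 (D.obj i).hom (selfMapR h D i).2
        refine famRel_unique (famRel_comp l (famRel_selfMapQ h D i)) ?_ ?_
        · rw [pullback.lift_fst]; exact famRel_symm (famRel_selfMapR h D i)
        · rw [Category.assoc, (selfMapQ h D i).2, pullback.lift_snd, Category.id_comp] }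
    (selfMapQ h D i).2

/-- The members of a pulled back datum, as objects of the datum. -/
noncomputable def selfMapObjIso (D : Desc.SchDDFam (fun _ : PUnit.{u + 1} => a)) (i : PUnit.{u + 1}) :
    (Desc.pullDDFamObj (α := fun j => j) h D).obj i ≅ D.obj i :=
  selfMapMember h D i

theorem selfMapMember_comm (D : Desc.SchDDFam (fun _ : PUnit.{u + 1} => a)) ⦃T : Scheme.{u}⦄
    ⦃i j : PUnit.{u + 1}⦄ (x₀ x₁ : T ⟶ X) (hxx : x₀ ≫ a = x₁ ≫ a)
    (p : Desc.Lifts ((Desc.pullDDFamObj (α := fun j => j) h D).obj i) x₀) (p' : Desc.Lifts (D.obj i) x₀)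
    (hp : p'.1 = p.1 ≫ (selfMapObjIso h D i).hom.left) :
    (D.φ x₀ x₁ hxx p').1 =
      ((Desc.pullDDFamObj (α := fun j => j) h D).φ (j := j) x₀ x₁ hxx p).1 ≫ (selfMapObjIso h D j).hom.left := by
  obtain ⟨p', hp'⟩ := p'
  subst hp
  let p₁ := (Desc.pullDDFamObj (α := fun j => j) h D).φ (j := j) x₀ x₁ hxx p
  have hp₀ : p.1 ≫ pullback.snd (D.obj i).hom f = x₀ := p.2
  have hp₁ : p₁.1 ≫ pullback.snd (D.obj j).hom f = x₁ := p₁.2
  refine phi_eq_of_famRel ?_ x₀ x₁ hxx hp'
    ((Category.assoc _ _ _).trans ((congrArg (p₁.1 ≫ ·) (Over.w (selfMapObjIso h D j).hom)).trans p₁.2))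
  refine famRel_trans (famRel_symm (famRel_comp p.1 (famRel_selfMapQ h D i)))
    (famRel_trans ?_ (famRel_comp p₁.1 (famRel_selfMapQ h D j)))
  refine (famRel_pull_iff h p.1 p₁.1 (by rw [hp₀, hp₁, hxx])).1 ?_
  exact famRel_of_phi (D := Desc.pullDDFamObj h D) x₀ x₁ hxx p

variable (a f)

/-- Pullback along a self-map over the base is isomorphic to the identity. -/
noncomputable def selfMapIso :
    Desc.pullDDFam (f := fun _ : PUnit.{u + 1} => a) (f' := fun _ : PUnit.{u + 1} => a) (α := fun j => j)
      (p := 𝟙 S') (p' := fun _ => f) h ≅ 𝟭 _ :=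
  NatIso.ofComponents (fun D =>
    { hom := ⟨fun i => (selfMapObjIso h D i).hom, selfMapMember_comm h D⟩
      inv := ⟨fun i => (selfMapObjIso h D i).inv, fun T i j x₀ x₁ hxx p p' hp => by
        have hc := selfMapMember_comm h D x₀ x₁ hxx (i := i) (j := j) p' p (by
          rw [hp, Category.assoc, ← Over.comp_left, Iso.inv_hom_id]
          exact (Category.comp_id _).symm)
        refine Eq.trans ?_ (congrArg (· ≫ (selfMapObjIso h D j).inv.left) hc).symm
        rw [Category.assoc, ← Over.comp_left, Iso.hom_inv_id]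
        exact (Category.comp_id _).symm⟩
      hom_inv_id := Desc.SchDDFam.hom_ext (funext fun i => (selfMapObjIso h D i).hom_inv_id)
      inv_hom_id := Desc.SchDDFam.hom_ext (funext fun i => (selfMapObjIso h D i).inv_hom_id) })
    fun {D D'} b => by
      refine Desc.SchDDFam.hom_ext (funext fun i => Over.OverMorphism.ext ?_)
      let m := ((Desc.pullDDFam (α := fun j => j) h).map b).hom i
      show m.left ≫ (selfMapQ h D' i).1 = (selfMapQ h D i).1 ≫ (b.hom i).left
      have hm : m.left ≫ pullback.fst (D'.obj i).hom f = pullback.fst (D.obj i).hom f ≫ (b.hom i).left :=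
        pullback.lift_fst _ _ _
      have hm' : m.left ≫ pullback.snd (D'.obj i).hom f = pullback.snd (D.obj i).hom f :=
        (pullback.lift_snd _ _ _).trans (Category.comp_id _)
      have e1 := b.comm (i := i) (j := i) (pullback.snd (D.obj i).hom f ≫ f) (pullback.snd (D.obj i).hom f) (selfMap_w h _)
        ⟨pullback.fst _ _, pullback.condition⟩
        ⟨pullback.fst (D.obj i).hom f ≫ (b.hom i).left, by rw [Category.assoc, Over.w, pullback.condition]⟩ rfl
      have e2 := D'.φ_natural (i := i) (j := i) m.left (pullback.snd (D'.obj i).hom f ≫ f) (pullback.snd (D'.obj i).hom f)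
        (selfMap_w h _) (pullback.snd (D.obj i).hom f ≫ f) (pullback.snd (D.obj i).hom f)
        (by rw [reassoc_of% hm']) hm' (selfMap_w h _)
        ⟨pullback.fst _ _, pullback.condition⟩
        ⟨pullback.fst (D.obj i).hom f ≫ (b.hom i).left, by rw [Category.assoc, Over.w, pullback.condition]⟩
        hm.symm
      exact e2.symm.trans e1

end Groth.Agent.Desc44
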