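import Mathlib
import Groth.Prelude.Def_DescFam

/-!
# Compatible families of points of a descent datum relative to a family

For a descent datum `D` relative to `f i : X i ⟶ S` and `t : T ⟶ S`, a `Fam D t` is a compatible family of lifts
of the projections `T ×_S X i ⟶ X i`; for an effective datum these are the morphisms from `T` to the descended
scheme over `S`.
-/

set_option autoImplicit false
set_option backward.isDefEq.respectTransparency false
set_option linter.style.haveILetI false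

universe w u

open CategoryTheory CategoryTheory.Limits AlgebraicGeometry

namespace Groth.Agent.Desc44

variable {S : Scheme.{u}} {ι : Type w} {X : ι → Scheme.{u}} {f : ∀ i, X i ⟶ S} {D : Desc.SchDDFam f}

/-- Two points of members of a descent datum which correspond under the gluing. -/
def FamRel (D : Desc.SchDDFam f) {T : Scheme.{u}} {i j : ι} (a : T ⟶ (D.obj i).left)
    (b : T ⟶ (D.obj j).left) : Prop :=
  ∃ h : (a ≫ (D.obj i).hom) ≫ f i = (b ≫ (D.obj j).hom) ≫ f j,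
    (D.φ (a ≫ (D.obj i).hom) (b ≫ (D.obj j).hom) h ⟨a, rfl⟩).1 = b

theorem famRel_of_phi {T : Scheme.{u}} {i j : ι} (x : T ⟶ X i) (y : T ⟶ X j) (h : x ≫ f i = y ≫ f j)
    (v : Desc.Lifts (D.obj i) x) : FamRel D v.1 (D.φ x y h v).1 := by
  obtain ⟨v, rfl⟩ := v
  generalize hw : D.φ _ y h ⟨v, rfl⟩ = w
  obtain ⟨w, rfl⟩ := w
  exact ⟨h, congrArg Subtype.val hw⟩

theorem phi_eq_of_famRel {T : Scheme.{u}} {i j : ι} {a : T ⟶ (D.obj i).left} {b : T ⟶ (D.obj j).left}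
    (hab : FamRel D a b) (x : T ⟶ X i) (y : T ⟶ X j) (h : x ≫ f i = y ≫ f j)
    (ha : a ≫ (D.obj i).hom = x) (hb : b ≫ (D.obj j).hom = y) : (D.φ x y h ⟨a, ha⟩).1 = b := by
  subst ha hb
  exact hab.2

theorem famRel_refl {T : Scheme.{u}} {i : ι} (a : T ⟶ (D.obj i).left) : FamRel D a a :=
  ⟨rfl, congrArg Subtype.val (D.φ_self (a ≫ (D.obj i).hom) ⟨a, rfl⟩)⟩

theorem famRel_trans {T : Scheme.{u}} {i j k : ι} {a : T ⟶ (D.obj i).left} {b : T ⟶ (D.obj j).left}
    {c : T ⟶ (D.obj k).left} (hab : FamRel D a b) (hbc : FamRel D b c) : FamRel D a c := by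
  obtain ⟨h, hb⟩ := hab
  obtain ⟨h', hc⟩ := hbc
  refine ⟨h.trans h', ?_⟩
  rw [← D.φ_comp _ _ _ h h' ⟨a, rfl⟩, show D.φ _ _ h ⟨a, rfl⟩ = ⟨b, rfl⟩ from Subtype.ext hb]
  exact hc

theorem famRel_symm {T : Scheme.{u}} {i j : ι} {a : T ⟶ (D.obj i).left} {b : T ⟶ (D.obj j).left}
    (hab : FamRel D a b) : FamRel D b a := by
  obtain ⟨h, hb⟩ := hab
  refine ⟨h.symm, ?_⟩
  have h1 := D.φ_comp _ _ _ h h.symm ⟨a, rfl⟩
  rw [D.φ_self, show D.φ _ _ h ⟨a, rfl⟩ = ⟨b, rfl⟩ from Subtype.ext hb] at h1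
  exact congrArg Subtype.val h1

theorem famRel_comp {T T' : Scheme.{u}} (g : T' ⟶ T) {i j : ι} {a : T ⟶ (D.obj i).left}
    {b : T ⟶ (D.obj j).left} (hab : FamRel D a b) : FamRel D (g ≫ a) (g ≫ b) := by
  obtain ⟨h, hb⟩ := hab
  have h' : ((g ≫ a) ≫ (D.obj i).hom) ≫ f i = ((g ≫ b) ≫ (D.obj j).hom) ≫ f j := by
    simp only [Category.assoc] at h ⊢
    rw [h]
  refine ⟨h', ?_⟩
  have h2 := D.φ_natural g (a ≫ (D.obj i).hom) (b ≫ (D.obj j).hom) h _ _ (Category.assoc _ _ _).symm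
    (Category.assoc _ _ _).symm h' ⟨a, rfl⟩ ⟨g ≫ a, rfl⟩ rfl
  rw [hb] at h2
  exact h2

theorem famRel_unique {T : Scheme.{u}} {i j : ι} {a : T ⟶ (D.obj i).left} {b b' : T ⟶ (D.obj j).left}
    (hab : FamRel D a b) (hab' : FamRel D a b') (h : b ≫ (D.obj j).hom = b' ≫ (D.obj j).hom) : b = b' := by
  rw [← phi_eq_of_famRel hab' (a ≫ (D.obj i).hom) (b ≫ (D.obj j).hom) hab.1 rfl h.symm]
  exact hab.2.symm

/-- A compatible family of lifts over `t : T ⟶ S`. -/
@[ext]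
structure Fam (D : Desc.SchDDFam f) {T : Scheme.{u}} (t : T ⟶ S) : Type (max w u) where
  /-- the lifts -/
  s : ∀ i, pullback t (f i) ⟶ (D.obj i).left
  hom_s : ∀ i, s i ≫ (D.obj i).hom = pullback.snd t (f i)
  compat : ∀ {i j : ι} {W : Scheme.{u}} (a : W ⟶ pullback t (f i)) (b : W ⟶ pullback t (f j)),
    a ≫ pullback.fst t (f i) = b ≫ pullback.fst t (f j) → FamRel D (a ≫ s i) (b ≫ s j)

namespace Fam

variable {T T' T'' : Scheme.{u}} {t : T ⟶ S} {t' : T' ⟶ S} {t'' : T'' ⟶ S}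

/-- The value of a family at a point of `T ×_S X i`. -/
noncomputable def val (s : Fam D t) {W : Scheme.{u}} {i : ι} (a : W ⟶ T) (x : W ⟶ X i)
    (h : a ≫ t = x ≫ f i) : W ⟶ (D.obj i).left :=
  pullback.lift a x h ≫ s.s i

theorem val_hom (s : Fam D t) {W : Scheme.{u}} {i : ι} (a : W ⟶ T) (x : W ⟶ X i)
    (h : a ≫ t = x ≫ f i) : s.val a x h ≫ (D.obj i).hom = x := by
  rw [val, Category.assoc, s.hom_s, pullback.lift_snd]

theorem comp_val (s : Fam D t) {W W' : Scheme.{u}} (g : W' ⟶ W) {i : ι} (a : W ⟶ T) (x : W ⟶ X i)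
    (h : a ≫ t = x ≫ f i) :
    g ≫ s.val a x h = s.val (g ≫ a) (g ≫ x) (by simp only [Category.assoc, h]) := by
  rw [val, val, ← Category.assoc]
  congr 1
  ext <;> simp

theorem val_congr (s : Fam D t) {W : Scheme.{u}} {i : ι} {a a' : W ⟶ T} {x x' : W ⟶ X i}
    (ha : a = a') (hx : x = x') (h : a ≫ t = x ≫ f i) :
    s.val a x h = s.val a' x' (ha ▸ hx ▸ h) := by
  subst ha hx; rfl

theorem val_rel (s : Fam D t) {W : Scheme.{u}} {i j : ι} (a : W ⟶ T) (x : W ⟶ X i) (y : W ⟶ X j)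
    (h : a ≫ t = x ≫ f i) (h' : a ≫ t = y ≫ f j) : FamRel D (s.val a x h) (s.val a y h') :=
  s.compat _ _ (by simp)

theorem ext_val {s s' : Fam D t} (h : ∀ (i : ι) (W : Scheme.{u}) (a : W ⟶ T) (x : W ⟶ X i)
    (e : a ≫ t = x ≫ f i), s.val a x e = s'.val a x e) : s = s' := by
  ext i
  have e := h i _ (pullback.fst t (f i)) (pullback.snd t (f i)) pullback.condition
  have hid : pullback.lift (pullback.fst t (f i)) (pullback.snd t (f i)) pullback.condition =
      𝟙 (pullback t (f i)) := by ext <;> simp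
  simpa [val, hid] using e

/-- A family from its values. -/
noncomputable def ofVal
    (v : ∀ {W : Scheme.{u}} {i : ι} (a : W ⟶ T) (x : W ⟶ X i), a ≫ t = x ≫ f i → (W ⟶ (D.obj i).left))
    (hv : ∀ {W : Scheme.{u}} {i : ι} (a : W ⟶ T) (x : W ⟶ X i) (h : a ≫ t = x ≫ f i),
      v a x h ≫ (D.obj i).hom = x)
    (hn : ∀ {W W' : Scheme.{u}} (g : W' ⟶ W) {i : ι} (a : W ⟶ T) (x : W ⟶ X i) (h : a ≫ t = x ≫ f i),
      g ≫ v a x h = v (g ≫ a) (g ≫ x) (by simp only [Category.assoc, h]))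
    (hc : ∀ {W : Scheme.{u}} {i j : ι} (a : W ⟶ T) (x : W ⟶ X i) (y : W ⟶ X j)
      (h : a ≫ t = x ≫ f i) (h' : a ≫ t = y ≫ f j), FamRel D (v a x h) (v a y h')) : Fam D t where
  s i := v (pullback.fst t (f i)) (pullback.snd t (f i)) pullback.condition
  hom_s i := hv _ _ _
  compat {i j W} a b h := by
    rw [hn, hn]
    have := hc (W := W) (i := i) (j := j) (a ≫ pullback.fst t (f i)) (a ≫ pullback.snd t (f i))
      (b ≫ pullback.snd t (f j)) (by simp [pullback.condition])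
      (by rw [h]; simp [pullback.condition])
    convert this using 2
    exact h.symm

theorem val_ofVal
    (v : ∀ {W : Scheme.{u}} {i : ι} (a : W ⟶ T) (x : W ⟶ X i), a ≫ t = x ≫ f i → (W ⟶ (D.obj i).left))
    (hv) (hn) (hc) {W : Scheme.{u}} {i : ι} (a : W ⟶ T) (x : W ⟶ X i) (h : a ≫ t = x ≫ f i) :
    (ofVal (D := D) v hv hn hc).val a x h = v a x h := by
  show pullback.lift a x h ≫ v _ _ _ = _
  rw [hn]
  congr 1 <;> simp

/-- Pullback of families. -/
noncomputable def map (c : T' ⟶ T) (hc : c ≫ t = t') (s : Fam D t) : Fam D t' :=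
  ofVal (fun a x h => s.val (a ≫ c) x (by rw [Category.assoc, hc, h]))
    (fun _ _ _ => s.val_hom _ _ _)
    (fun {W} {W'} g {i} a x h => by rw [comp_val]; exact s.val_congr (Category.assoc _ _ _).symm rfl _)
    (fun _ _ _ _ _ => s.val_rel _ _ _ _ _)

@[simp]
theorem val_map (c : T' ⟶ T) (hc : c ≫ t = t') (s : Fam D t) {W : Scheme.{u}} {i : ι}
    (a : W ⟶ T') (x : W ⟶ X i) (h : a ≫ t' = x ≫ f i) :
    (s.map c hc).val a x h = s.val (a ≫ c) x (by rw [Category.assoc, hc, h]) := by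
  exact val_ofVal _ _ _ _ _ _ _

theorem map_id (s : Fam D t) : s.map (𝟙 T) (Category.id_comp t) = s :=
  ext_val fun i W a x e => by rw [val_map]; exact s.val_congr (Category.comp_id _) rfl _

theorem map_map (c : T' ⟶ T) (hc : c ≫ t = t') (d : T'' ⟶ T') (hd : d ≫ t' = t'') (s : Fam D t) :
    (s.map c hc).map d hd = s.map (d ≫ c) (by rw [Category.assoc, hc, hd]) :=
  ext_val fun i W a x e => by
    rw [val_map, val_map, val_map]; exact s.val_congr (Category.assoc _ _ _) rfl _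

theorem map_congr {c c' : T' ⟶ T} (e : c = c') (hc : c ≫ t = t') (s : Fam D t) :
    s.map c hc = s.map c' (e ▸ hc) := by subst e; rfl

theorem map_id_map {t₁ : T ⟶ S} {s : Fam D t} {h : 𝟙 T ≫ t = t₁} {c : T' ⟶ T} {hc : c ≫ t₁ = t'}
    (hc' : c ≫ t = t') : (s.map (𝟙 T) h).map c hc = s.map c hc' :=
  (map_map _ _ _ _ _).trans (map_congr (Category.comp_id _) _ _)

theorem retarget {U : Scheme.{u}} {u : U ⟶ S} {c : T' ⟶ T} {c' : T' ⟶ U} {t₁ t₂ : T' ⟶ S}
    {s : Fam D t} {s' : Fam D u} {hc : c ≫ t = t₁} {hc' : c' ≫ u = t₁} (e : s.map c hc = s'.map c' hc')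
    (hc₂ : c ≫ t = t₂) (hc₂' : c' ≫ u = t₂) : s.map c hc₂ = s'.map c' hc₂' := by
  obtain rfl : t₁ = t₂ := hc.symm.trans hc₂
  exact e

variable {i : ι}

/-- Evaluation at a member. -/
noncomputable def ev {x : T ⟶ X i} (h : x ≫ f i = t) (s : Fam D t) : Desc.Lifts (D.obj i) x :=
  ⟨s.val (𝟙 T) x (by rw [Category.id_comp, h]), s.val_hom _ _ _⟩

/-- The family of a lift. -/
noncomputable def ofLift {x : T ⟶ X i} (h : x ≫ f i = t) (v : Desc.Lifts (D.obj i) x) : Fam D t :=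
  ofVal (fun {W} {j} a y e => (D.φ (a ≫ x) y (by rw [Category.assoc, h, e])
      ⟨a ≫ v.1, by rw [Category.assoc, v.2]⟩).1)
    (fun a y e => (D.φ _ _ _ _).2)
    (fun {W} {W'} g {j} a y e => by
      refine famRel_unique (famRel_comp g (famRel_of_phi _ _ _ _)) ?_ ?_
      · show FamRel D (g ≫ a ≫ v.1) _
        rw [← Category.assoc]
        exact famRel_of_phi ((g ≫ a) ≫ x) (g ≫ y) _ ⟨(g ≫ a) ≫ v.1, _⟩
      · rw [Category.assoc, (D.φ _ _ _ _).2, (D.φ _ _ _ _).2])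
    (fun {W} {j} {k} a y z e e' => famRel_trans (famRel_symm (famRel_of_phi _ _ _ _))
      (famRel_of_phi (a ≫ x) z (by rw [Category.assoc, h, e']) ⟨a ≫ v.1, by rw [Category.assoc, v.2]⟩))

theorem ev_ofLift {x : T ⟶ X i} (h : x ≫ f i = t) (v : Desc.Lifts (D.obj i) x) :
    (ofLift h v).ev h = v := by
  refine Subtype.ext ((val_ofVal _ _ _ _ _ _ _).trans ?_)
  exact phi_eq_of_famRel (by rw [Category.id_comp]; exact famRel_refl _) _ _ _ _ v.2

theorem ofLift_ev {x : T ⟶ X i} (h : x ≫ f i = t) (s : Fam D t) : ofLift h (s.ev h) = s := by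
  refine ext_val fun j W a y e => (val_ofVal _ _ _ _ _ _ _).trans ?_
  refine phi_eq_of_famRel ?_ _ _ _ _ (s.val_hom _ _ _)
  show FamRel D (a ≫ s.val (𝟙 T) x _) _
  rw [comp_val, s.val_congr (Category.comp_id a) rfl]
  exact s.val_rel _ _ _ _ _

/-- Families over a point of a member are the lifts of that point. -/
noncomputable def evEquiv {x : T ⟶ X i} (h : x ≫ f i = t) : Fam D t ≃ Desc.Lifts (D.obj i) x where
  toFun := ev h
  invFun := ofLift h
  left_inv := ofLift_ev h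
  right_inv := ev_ofLift h

theorem ev_map (c : T' ⟶ T) (hc : c ≫ t = t') {x : T ⟶ X i} {x' : T' ⟶ X i} (h : x ≫ f i = t)
    (h' : x' ≫ f i = t') (hx : c ≫ x = x') (s : Fam D t) :
    ((s.map c hc).ev h').1 = c ≫ (s.ev h).1 := by
  show (s.map c hc).val _ _ _ = c ≫ s.val _ _ _
  rw [val_map, comp_val]
  exact s.val_congr (by simp) hx.symm _

end Fam

/-- A family of morphisms along which morphisms descend after every base change. -/
def IsDescFam {T : Scheme.{u}} {κ : Type w} {U : κ → Scheme.{u}} (g : ∀ k, U k ⟶ T) : Prop :=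
  ∀ {P : Scheme.{u}} (r : P ⟶ T) {Z : Scheme.{u}} (m : ∀ k, pullback r (g k) ⟶ Z),
    (∀ (k l : κ) (W : Scheme.{u}) (a : W ⟶ pullback r (g k)) (b : W ⟶ pullback r (g l)),
      a ≫ pullback.fst r (g k) = b ≫ pullback.fst r (g l) → a ≫ m k = b ≫ m l) →
    ∃! n : P ⟶ Z, ∀ k, pullback.fst r (g k) ≫ n = m k

end Groth.Agent.Desc44
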