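import Groth.Agent.Desc44.FamGlue
import Groth.Agent.MagnetLib.RepGlue

/-!
# Schemes representing the compatible families of a descent datum
-/

set_option autoImplicit false
set_option backward.isDefEq.respectTransparency false
set_option linter.style.haveILetI false

universe u

open CategoryTheory CategoryTheory.Limits AlgebraicGeometry Opposite

namespace Groth.Agent.Desc44

variable {S : Scheme.{u}} {ι : Type u} {X : ι → Scheme.{u}} {f : ∀ i, X i ⟶ S} (D : Desc.SchDDFam f)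

/-- The presheaf of compatible families on schemes over `β : B ⟶ S`. -/
noncomputable def famFunctor {B : Scheme.{u}} (β : B ⟶ S) : (Over B)ᵒᵖ ⥤ Type u where
  obj T := Fam D (T.unop.hom ≫ β)
  map {T T'} a := ↾ (fun s => s.map a.unop.left (by rw [← Category.assoc, Over.w a.unop]))
  map_id T := ConcreteCategory.hom_ext _ _ fun s => Fam.map_id s
  map_comp a b := ConcreteCategory.hom_ext _ _ fun s =>
    (Fam.map_map a.unop.left (by rw [← Category.assoc, Over.w a.unop]) b.unop.left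
      (by rw [← Category.assoc, Over.w b.unop]) s).symm

variable {D}

theorem famFunctor_map_apply {B : Scheme.{u}} (β : B ⟶ S) {T T' : Over B} (a : T ⟶ T')
    (s : Fam D (T'.hom ≫ β)) :
    (famFunctor D β).map a.op s = s.map a.left (by rw [← Category.assoc, Over.w a]) := rfl

theorem isSheaf_famFunctor {B : Scheme.{u}} (β : B ⟶ S) :
    Presieve.IsSheaf (Scheme.zariskiTopology.{u}.over B) (famFunctor D β) := by
  intro T R hR x hx
  rw [GrothendieckTopology.mem_over_iff] at hR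
  obtain ⟨𝒰, hle⟩ := Scheme.exists_cover_of_mem_grothendieckTopology hR
  let j : ∀ k, Over.mk (𝒰.f k ≫ T.hom) ⟶ T := fun k => Over.homMk (𝒰.f k) rfl
  have hj : ∀ k, R.arrows (j k) := fun k =>
    (Sieve.overEquiv_iff R (𝒰.f k)).1 (hle _ _ (Presieve.ofArrows.mk k))
  have hu : ∀ k, 𝒰.f k ≫ T.hom ≫ β = (Over.mk (𝒰.f k ≫ T.hom)).hom ≫ β := fun k =>
    (Category.assoc _ _ _).symm
  let xF : ∀ k, Fam D ((Over.mk (𝒰.f k ≫ T.hom)).hom ≫ β) := fun k => x (j k) (hj k)
  obtain ⟨y, hy⟩ := Fam.exists_glue (t := T.hom ≫ β) (isDescFam_openCover 𝒰) hu xF fun k l W a b w ha hb hab => by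
      subst ha
      let a' : Over.mk (a ≫ 𝒰.f k ≫ T.hom) ⟶ Over.mk (𝒰.f k ≫ T.hom) := Over.homMk a rfl
      let b' : Over.mk (a ≫ 𝒰.f k ≫ T.hom) ⟶ Over.mk (𝒰.f l ≫ T.hom) :=
        Over.homMk b (by simp only [Over.mk_hom]; rw [← reassoc_of% hab])
      have h := hx a' b' (hj k) (hj l) (Over.OverMorphism.ext hab)
      have h' : Fam.map a (t' := (a ≫ 𝒰.f k ≫ T.hom) ≫ β) (by simp) (xF k) =
          Fam.map b (by simp only [Over.mk_hom, Category.assoc]; rw [← reassoc_of% hab]) (xF l) := h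
      exact Fam.retarget h' _ _
  refine ⟨y, fun W g hg => ?_, fun (z : Fam D _) hz => ?_⟩
  · refine Fam.ext_desc (isDescFam_openCover (𝒰.pullback₁ g.left)) fun k => ?_
    let p : Over.mk ((𝒰.pullback₁ g.left).f k ≫ W.hom) ⟶ W := Over.homMk ((𝒰.pullback₁ g.left).f k) rfl
    let q : Over.mk ((𝒰.pullback₁ g.left).f k ≫ W.hom) ⟶ Over.mk (𝒰.f k ≫ T.hom) :=
      Over.homMk (pullback.snd g.left (𝒰.f k)) (by
        simp only [Over.mk_hom]
        show pullback.snd g.left (𝒰.f k) ≫ 𝒰.f k ≫ T.hom = pullback.fst g.left (𝒰.f k) ≫ W.hom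
        rw [← Category.assoc, ← pullback.condition, Category.assoc, Over.w g])
    have h := hx p q hg (hj k) (Over.OverMorphism.ext pullback.condition)
    have h : (x g hg : Fam D _).map p.left (t' := ((𝒰.pullback₁ g.left).f k ≫ W.hom) ≫ β)
        (by simp [p]) = (xF k).map q.left (by rw [← Category.assoc, Over.w q]; rfl) :=
      ((famFunctor_map_apply β p _).symm.trans h).trans (famFunctor_map_apply β q _)
    show (Fam.map g.left (show g.left ≫ T.hom ≫ β = W.hom ≫ β by rw [← Category.assoc, Over.w g]) y).map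
      _ _ = (x g hg : Fam D _).map _ _
    refine Eq.trans ?_ (Fam.retarget (D := D) h _ ?_).symm
    · rw [Fam.map_map]
      refine Eq.trans ?_ (congrArg (fun v : Fam D _ => v.map (pullback.snd g.left (𝒰.f k)) _) (hy k))
      rw [Fam.map_map]
      exact Fam.map_congr pullback.condition _ _
    · rw [← Category.assoc, Over.w q]; exact Category.assoc _ _ _
  · refine Fam.ext_desc (isDescFam_openCover 𝒰) fun k => ?_
    have h1 : z.map (j k).left (hu k) = y.map (j k).left (hu k) :=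
      (hz (j k) (hj k)).trans (hy k).symm
    exact Fam.retarget h1 _ _

/-- A scheme over `B` carrying a universal compatible family. -/
def IsUniv (D : Desc.SchDDFam f) {B : Scheme.{u}} (β : B ⟶ S) (Y : Over B) (z : Fam D (Y.hom ≫ β)) :
    Prop :=
  ∀ T : Over B, Function.Bijective fun g : T ⟶ Y =>
    z.map g.left (t' := T.hom ≫ β) (by rw [← Category.assoc, Over.w g])

namespace IsUniv

variable {B : Scheme.{u}} {β : B ⟶ S} {Y : Over B} {z : Fam D (Y.hom ≫ β)}

theorem hom_ext (h : IsUniv D β Y z) {T : Scheme.{u}} (a b : T ⟶ Y.left)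
    (hab : a ≫ Y.hom = b ≫ Y.hom) {t : T ⟶ S} (ha : a ≫ Y.hom ≫ β = t) (hb : b ≫ Y.hom ≫ β = t)
    (e : z.map a ha = z.map b hb) : a = b := by
  subst ha
  let T' : Over B := Over.mk (a ≫ Y.hom)
  have e' := congrArg (fun v : Fam D _ => v.map (𝟙 T) (t' := T'.hom ≫ β) (by simp [T'])) e
  simp only [Fam.map_map] at e'
  have := (h T').1 (a₁ := Over.homMk a rfl) (a₂ := Over.homMk b hab.symm)
    (((Fam.map_congr (Category.id_comp _).symm _ _).trans e').trans (Fam.map_congr (Category.id_comp _) _ _))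
  exact congrArg (fun k => k.left) this

theorem exists_hom (h : IsUniv D β Y z) {T : Scheme.{u}} (p : T ⟶ B) {t : T ⟶ S} (ht : p ≫ β = t)
    (w : Fam D t) : ∃ (a : T ⟶ Y.left) (ha : a ≫ Y.hom ≫ β = t), a ≫ Y.hom = p ∧ z.map a ha = w := by
  subst ht
  obtain ⟨g, hg⟩ := (h (Over.mk p)).2 w
  exact ⟨g.left, by rw [← Category.assoc, Over.w g]; rfl, Over.w g, hg⟩

theorem mk' (hinj : ∀ (T : Scheme.{u}) (a b : T ⟶ Y.left) (t : T ⟶ S) (ha : a ≫ Y.hom ≫ β = t)
      (hb : b ≫ Y.hom ≫ β = t), a ≫ Y.hom = b ≫ Y.hom → z.map a ha = z.map b hb → a = b)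
    (hsurj : ∀ (T : Scheme.{u}) (p : T ⟶ B) (w : Fam D (p ≫ β)),
      ∃ (a : T ⟶ Y.left) (ha : a ≫ Y.hom ≫ β = p ≫ β), a ≫ Y.hom = p ∧ z.map a ha = w) :
    IsUniv D β Y z := by
  refine fun T => ⟨fun g g' e => Over.OverMorphism.ext (hinj _ _ _ _ _ _ ?_ e), fun w => ?_⟩
  · rw [Over.w g, Over.w g']
  · obtain ⟨a, ha, hap, haw⟩ := hsurj T.left T.hom w
    exact ⟨Over.homMk a hap, haw⟩

/-- Two universal families are isomorphic. -/
theorem exists_iso (h : IsUniv D β Y z) {Y' : Over B} {z' : Fam D (Y'.hom ≫ β)}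
    (h' : IsUniv D β Y' z') : Nonempty (Y ≅ Y') := by
  obtain ⟨a, ha, hap, haz⟩ := h'.exists_hom Y.hom rfl z
  obtain ⟨b, hb, hbp, hbz⟩ := h.exists_hom Y'.hom rfl z'
  have e1 : a ≫ b = 𝟙 Y.left := h.hom_ext _ _ (by simp [hbp, hap])
    (t := Y.hom ≫ β) (by simp [hb, ha]) (by simp) (by
      rw [← Fam.map_map b hb a ha, hbz, haz, Fam.map_id])
  have e2 : b ≫ a = 𝟙 Y'.left := h'.hom_ext _ _ (by simp [hbp, hap])
    (t := Y'.hom ≫ β) (by simp [hb, ha]) (by simp) (by
      rw [← Fam.map_map a ha b hb, haz, hbz, Fam.map_id])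
  exact ⟨Over.isoMk ⟨a, b, e1, e2⟩ hap⟩

/-- Universal families pull back. -/
theorem baseChange (h : IsUniv D β Y z) {B' : Scheme.{u}} (c : B' ⟶ B) :
    IsUniv D (c ≫ β) (Over.mk (pullback.snd Y.hom c))
      (z.map (pullback.fst Y.hom c) (by simp [pullback.condition_assoc])) := by
  refine mk' (fun T a b t ha hb hab e => ?_) (fun T p w => ?_)
  · refine pullback.hom_ext ?_ hab
    rw [Fam.map_map, Fam.map_map] at e
    refine h.hom_ext _ _ ?_ _ _ e
    simp only [Category.assoc, pullback.condition]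
    exact congrArg (· ≫ c) hab |> fun e => by simpa [Category.assoc] using e
  · obtain ⟨a, ha, hap, haw⟩ := h.exists_hom (p ≫ c) (Category.assoc _ _ _) w
    refine ⟨pullback.lift a p hap, by simp, by simp, ?_⟩
    rw [Fam.map_map, Fam.map_congr (pullback.lift_fst _ _ _)]
    exact haw

end IsUniv

/-- A member of the family carries a universal family. -/
theorem isUniv_member (D : Desc.SchDDFam f) (i : ι) :
    IsUniv D (f i) (D.obj i)
      (Fam.ofLift (i := i) (x := (D.obj i).hom) rfl ⟨𝟙 _, Category.id_comp _⟩) := by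
  have key : ∀ {T : Scheme.{u}} {t : T ⟶ S} (a : T ⟶ (D.obj i).left)
      (ha : a ≫ (D.obj i).hom ≫ f i = t),
      ((Fam.ofLift (i := i) (x := (D.obj i).hom) rfl ⟨𝟙 _, Category.id_comp _⟩).map a ha).ev
        (x := a ≫ (D.obj i).hom) (by rw [Category.assoc, ha]) = ⟨a, rfl⟩ := by
    intro T t a ha
    refine Subtype.ext ?_
    rw [Fam.ev_map a ha rfl _ rfl, Fam.ev_ofLift, Category.comp_id]
  refine IsUniv.mk' (fun T a b t ha hb hab e => ?_) (fun T p w => ?_)
  · have h1 := congrArg (fun v : Fam D t => (v.ev (x := a ≫ (D.obj i).hom) (by rw [Category.assoc, ha])).1) e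
    rw [key a ha] at h1
    rw [show a = _ from h1, Fam.ev_map b hb (h := rfl) _ hab.symm, Fam.ev_ofLift, Category.comp_id]
  · let v := w.ev (x := p) rfl
    refine ⟨v.1, by rw [← Category.assoc, v.2], v.2, ?_⟩
    refine (Fam.evEquiv (i := i) (x := p) (h := rfl)).injective (Subtype.ext ?_)
    show ((Fam.map _ _ _).ev (x := p) rfl).1 = v.1
    rw [Fam.ev_map v.1 (by rw [← Category.assoc, v.2]) rfl rfl v.2, Fam.ev_ofLift, Category.comp_id]

/-- Universal families over the members of an open cover glue. -/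
theorem exists_isUniv_of_openCover {B : Scheme.{u}} (β : B ⟶ S) (𝒰 : B.OpenCover.{u})
    (h : ∀ k, ∃ (Y : Over (𝒰.X k)) (z : Fam D (Y.hom ≫ 𝒰.f k ≫ β)), IsUniv D (𝒰.f k ≫ β) Y z) :
    ∃ (Y : Over B) (z : Fam D (Y.hom ≫ β)), IsUniv D β Y z := by
  choose Y z hY using h
  let H : 𝒰.I₀ → Over B := fun k => Over.mk ((Y k).hom ≫ 𝒰.f k)
  let zH : ∀ k, (famFunctor D β).obj (op (H k)) := fun k =>
    (z k).map (𝟙 _) (by simp [H])
  refine Exists.elim (MagnetLib.RepGlue.representable_of_openCover (famFunctor D β)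
    (isSheaf_famFunctor β) H zH
    (fun k T a b e => by
      have hw : ∀ c : T ⟶ H k, (c.left ≫ (Y k).hom) ≫ 𝒰.f k = T.hom := fun c =>
        (Category.assoc _ _ _).trans (Over.w c)
      refine Over.OverMorphism.ext ((hY k).hom_ext a.left b.left ?_ (t := T.hom ≫ β)
        (by rw [← hw a]; simp) (by rw [← hw b]; simp) ?_)
      · rw [← cancel_mono (𝒰.f k), hw, hw]
      · have e1 : ∀ c : T ⟶ H k, ∀ hc, (famFunctor D β).map c.op (zH k) = (z k).map c.left hc :=
          fun c hc => (famFunctor_map_apply β c _).trans (Fam.map_id_map hc)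
        exact (e1 a _).symm.trans (e.trans (e1 b _)))
    (fun k T w => ⟨T.hom ⁻¹ᵁ (𝒰.f k).opensRange, fun T' a => ⟨?_, ?_⟩⟩)
    (fun T w t => ?_)) fun Z ⟨r⟩ => ?_
  · rintro ⟨b, -⟩ _ ⟨q, rfl⟩
    show T.hom (a.left q) ∈ Set.range (𝒰.f k)
    refine ⟨(Y k).hom (b.left q), ?_⟩
    rw [← Scheme.Hom.comp_apply a.left, Over.w a, ← Over.w b]
    rfl
  · intro hr
    have hr' : Set.range T'.hom ⊆ Set.range (𝒰.f k) := by
      rintro _ ⟨q, rfl⟩
      rw [← Over.w a]
      exact hr ⟨q, rfl⟩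
    let p := IsOpenImmersion.lift (𝒰.f k) T'.hom hr'
    obtain ⟨c, hc, hcp, hcz⟩ := (hY k).exists_hom p (t := T'.hom ≫ β)
      (by rw [← Category.assoc, IsOpenImmersion.lift_fac])
      ((famFunctor D β).map a.op w)
    refine ⟨Over.homMk c (show c ≫ (Y k).hom ≫ 𝒰.f k = T'.hom by
      rw [← Category.assoc, hcp, IsOpenImmersion.lift_fac]), ?_⟩
    refine Eq.trans ?_ hcz
    exact (famFunctor_map_apply β _ _).trans (Fam.map_id_map hc)
  · obtain ⟨k, y, hy⟩ := 𝒰.exists_eq (T.hom t)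
    let U : T.left.Opens := T.hom ⁻¹ᵁ (𝒰.f k).opensRange
    let a : Over.mk (U.ι ≫ T.hom) ⟶ T := Over.homMk U.ι rfl
    let p := IsOpenImmersion.lift (𝒰.f k) (U.ι ≫ T.hom) (by rintro _ ⟨q, rfl⟩; exact q.2)
    obtain ⟨c, hc, hcp, hcz⟩ := (hY k).exists_hom p (t := (U.ι ≫ T.hom) ≫ β)
      (by rw [← Category.assoc, IsOpenImmersion.lift_fac])
      ((famFunctor D β).map a.op w)
    refine ⟨k, Over.mk (U.ι ≫ T.hom), a, inferInstanceAs (IsOpenImmersion U.ι),
      ⟨⟨t, ⟨y, hy⟩⟩, rfl⟩, Over.homMk c (show c ≫ (Y k).hom ≫ 𝒰.f k = U.ι ≫ T.hom by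
        rw [← Category.assoc, hcp, IsOpenImmersion.lift_fac]), ?_⟩
    refine Eq.trans ?_ hcz
    exact (famFunctor_map_apply β _ _).trans (Fam.map_id_map hc)
  · refine ⟨Z, r.homEquiv (𝟙 Z), fun T => ?_⟩
    have e : (fun g : T ⟶ Z => (famFunctor D β).map g.op (r.homEquiv (𝟙 Z))) = r.homEquiv := by
      funext g
      exact (r.homEquiv_comp g (𝟙 Z)).symm.trans (by rw [Category.comp_id])
    have h2 := r.homEquiv.bijective (α := T ⟶ Z)
    rw [← e] at h2
    exact h2

end Groth.Agent.Desc44
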