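import Mathlib.AlgebraicGeometry.Morphisms.UniversallyInjective
import Mathlib.AlgebraicGeometry.Morphisms.UniversallyOpen
import Mathlib.AlgebraicGeometry.Morphisms.Flat
import Mathlib.AlgebraicGeometry.Morphisms.Separated
import Mathlib.AlgebraicGeometry.Morphisms.ClosedImmersion
import Mathlib.Topology.Sober

/-!
# Flat separated morphisms universally injective at the generic points
-/

set_option autoImplicit false

universe u

open CategoryTheory CategoryTheory.Limits AlgebraicGeometry

namespace Groth.Agent.Desc44.FlatUnivInj

variable {X Y : Scheme.{u}}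

/-- A point all of whose generisations are itself generates an irreducible component. -/
lemma mem_components (x : X) (h : ∀ η : X, η ⤳ x → η = x) :
    closure ({x} : Set X) ∈ irreducibleComponents (X : Type u) := by
  refine ⟨isIrreducible_singleton.closure, fun T hT hxT => ?_⟩
  have hg : IsGenericPoint hT.genericPoint (closure T) := hT.isGenericPoint_genericPoint_closure
  have e : hT.genericPoint = x := h _ (hg.specializes (subset_closure (hxT (subset_closure rfl))))
  intro t ht
  have := hg.specializes (subset_closure ht)
  rw [e] at this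
  exact this.mem_closure

/-- The converse. -/
lemma eq_of_specializes (x : X) (h : closure ({x} : Set X) ∈ irreducibleComponents (X : Type u)) (η : X)
    (hη : η ⤳ x) : η = x :=
  (hη.antisymm (specializes_iff_mem_closure.2
    (h.2 (isIrreducible_singleton.closure) (hη.closure_subset) (subset_closure rfl)))).eq

theorem main (f : X ⟶ Y) [Flat f] [IsSeparated f]
    (h2 : ∀ ξ : X, closure ({ξ} : Set X) ∈ irreducibleComponents (X : Type u) →
      Function.Surjective (f.residueFieldMap ξ).hom)
    (h3 : Set.InjOn f.base {ξ : X | closure ({ξ} : Set X) ∈ irreducibleComponents (X : Type u)}) :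
    UniversallyInjective f := by
  refine (UniversallyInjective.iff_diagonal f).2 ⟨fun z => ?_⟩
  obtain ⟨T, hT, hzT⟩ : ∃ T ∈ irreducibleComponents ↥(pullback f f), z ∈ T :=
    ⟨_, irreducibleComponent_mem_irreducibleComponents z, mem_irreducibleComponent⟩
  let ζ := hT.1.genericPoint
  have hg : IsGenericPoint ζ T := by
    have := hT.1.isGenericPoint_genericPoint_closure
    rwa [(isClosed_of_mem_irreducibleComponents T hT).closure_eq] at this
  have hζz : ζ ⤳ z := hg.specializes hzT
  suffices h : ζ ∈ Set.range (pullback.diagonal f) by
    exact hζz.mem_closed (pullback.diagonal f).isClosedEmbedding.isClosed_range h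
  have hζ : closure ({ζ} : Set ↥(pullback f f)) ∈ irreducibleComponents ↥(pullback f f) := by
    rw [hg.def]; exact hT
  have gen : ∀ (a : pullback f f ⟶ X) [Flat a],
      closure ({a ζ} : Set X) ∈ irreducibleComponents (X : Type u) := fun a _ =>
    mem_components _ fun η hη => by
      obtain ⟨ζ', hζ', rfl⟩ := Flat.generalizingMap a hη
      rw [eq_of_specializes ζ hζ ζ' hζ']
  have h₁ := gen (pullback.fst f f)
  have h₂ := gen (pullback.snd f f)
  have e : pullback.fst f f ζ = pullback.snd f f ζ := h3 h₁ h₂ (by
    rw [← Scheme.Hom.comp_apply, ← Scheme.Hom.comp_apply, pullback.condition])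
  let ξ := pullback.fst f f ζ
  have : IsIso (f.residueFieldMap ξ) := (ConcreteCategory.isIso_iff_bijective _).2
    ⟨RingHom.injective _, h2 ξ h₁⟩
  have hm : Mono (X.fromSpecResidueField ξ ≫ f) := by
    rw [← Scheme.Hom.SpecMap_residueFieldMap_fromSpecResidueField]
    infer_instance
  let a : Spec ((pullback f f).residueField ζ) ⟶ Spec (X.residueField ξ) :=
    Spec.map ((pullback.fst f f).residueFieldMap ζ)
  let b : Spec ((pullback f f).residueField ζ) ⟶ Spec (X.residueField ξ) :=
    Spec.map ((pullback.snd f f).residueFieldMap ζ) ≫ Spec.map (X.residueFieldCongr e).hom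
  have ha : a ≫ X.fromSpecResidueField ξ = (pullback f f).fromSpecResidueField ζ ≫ pullback.fst f f :=
    Scheme.Hom.SpecMap_residueFieldMap_fromSpecResidueField _ _
  have hb : b ≫ X.fromSpecResidueField ξ = (pullback f f).fromSpecResidueField ζ ≫ pullback.snd f f := by
    simp only [b, ξ, Category.assoc, Scheme.residueFieldCongr_fromSpecResidueField]
    exact Scheme.Hom.SpecMap_residueFieldMap_fromSpecResidueField _ _
  have hab : a = b := hm.right_cancellation a b (by
    rw [reassoc_of% ha, reassoc_of% hb, pullback.condition])
  have hfac : (pullback f f).fromSpecResidueField ζ =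
      (a ≫ X.fromSpecResidueField ξ) ≫ pullback.diagonal f := by
    refine pullback.hom_ext ?_ ?_
    · rw [Category.assoc, pullback.diagonal_fst, Category.comp_id, ha]
    · rw [Category.assoc, pullback.diagonal_snd, Category.comp_id, hab, hb]
  obtain ⟨s⟩ : Nonempty ↥(Spec ((pullback f f).residueField ζ)) := inferInstance
  refine ⟨(a ≫ X.fromSpecResidueField ξ) s, ?_⟩
  rw [← Scheme.Hom.comp_apply, ← hfac, Scheme.fromSpecResidueField_apply]

end Groth.Agent.Desc44.FlatUnivInj
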