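import Groth.Agent.LocCoh.TorKill
import Groth.Agent.FlatCx.TorLES
import Groth.Agent.HTor95.BaseChange
import Groth.Agent.S16238
import Mathlib.RingTheory.Regular.Flat

/-!
# Vanishing of `Tor(A/J, A/K)` from regular sequences at primes
-/

set_option autoImplicit false
set_option linter.style.haveILetI false

universe u

open CategoryTheory CategoryTheory.Limits IsLocalRing RingTheory.Sequence TensorProduct
open Groth.Agent.LocCoh.Tor

noncomputable section

namespace Groth.Agent.Desc44.TorLocalVanish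

variable {A : Type u} [CommRing A]

/-- `Tor` of a torsion module is torsion. -/
theorem exists_smul_eq_zero_of_torsion (S : Submonoid A) (M : ModuleCat.{u} A)
    (h : ∀ m : M, ∃ t ∈ S, t • m = 0) (n : ℕ) (N : ModuleCat.{u} A) (x : T n M N) :
    ∃ t ∈ S, t • x = 0 := by
  obtain ⟨z, hz⟩ : ∃ z, FlatCx.TorLES.torEquiv A N M n x = z := ⟨_, rfl⟩
  let C := FlatCx.TorLES.tc A N (ModuleCat.of A M)
  obtain ⟨c, hc⟩ := (ModuleCat.epi_iff_surjective (C.homologyπ n)).1 inferInstance z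
  have htor : ∀ w : M ⊗[A] (FlatCx.TorLES.res A N).complex.X n, ∃ t ∈ S, t • w = 0 := fun w => by
    induction w using TensorProduct.induction_on with
    | zero => exact ⟨1, S.one_mem, smul_zero _⟩
    | tmul m p =>
      obtain ⟨t, ht, htm⟩ := h m
      exact ⟨t, ht, by rw [TensorProduct.smul_tmul', htm, TensorProduct.zero_tmul]⟩
    | add a b ha hb =>
      obtain ⟨t, ht, hta⟩ := ha
      obtain ⟨t', ht', htb⟩ := hb
      exact ⟨t * t', S.mul_mem ht ht', by
        rw [smul_add, mul_comm, mul_smul, hta, smul_zero, mul_comm, mul_smul, htb, smul_zero, add_zero]⟩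
  obtain ⟨t, ht, htw⟩ := htor ((C.iCycles n).hom c)
  refine ⟨t, ht, (FlatCx.TorLES.torEquiv A N M n).injective ?_⟩
  rw [map_smul, hz, map_zero, ← hc, ← map_smul]
  have : t • c = 0 := (ModuleCat.mono_iff_injective (C.iCycles n)).1 inferInstance (by
    rw [map_smul, map_zero]; exact htw)
  rw [this, map_zero]

/-- A map which is an isomorphism up to `S`-torsion is injective on `Tor` up to `S`-torsion. -/
theorem exists_smul_eq_zero_of_map (S : Submonoid A) {M M' : ModuleCat.{u} A} (π : M ⟶ M')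
    (hker : ∀ m, π.hom m = 0 → ∃ t ∈ S, t • m = 0) (hcok : ∀ m', ∃ t ∈ S, ∃ m, π.hom m = t • m')
    (n : ℕ) (N : ModuleCat.{u} A) (h : ∀ z : T n M' N, z = 0) (x : T n M N) : ∃ t ∈ S, t • x = 0 := by
  let K := LinearMap.ker π.hom
  let I := LinearMap.range π.hom
  let S₁ : ShortComplex (ModuleCat.{u} A) :=
    ShortComplex.mk (ModuleCat.ofHom K.subtype) (ModuleCat.ofHom π.hom.rangeRestrict) (by
      ext ⟨m, hm⟩; exact hm)
  have hS₁ : S₁.ShortExact := ModuleCat.shortComplex_shortExact _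
    (fun m => ⟨fun hm => ⟨⟨m, congrArg Subtype.val hm⟩, rfl⟩, fun ⟨⟨a, ha⟩, e⟩ => e ▸ Subtype.ext ha⟩)
    K.injective_subtype π.hom.surjective_rangeRestrict
  let S₂ : ShortComplex (ModuleCat.{u} A) :=
    ShortComplex.mk (ModuleCat.ofHom I.subtype) (ModuleCat.ofHom I.mkQ) (by
      ext ⟨m, hm⟩; exact (Submodule.Quotient.mk_eq_zero I).2 hm)
  have hS₂ : S₂.ShortExact := ModuleCat.shortComplex_shortExact _
    (fun m => ⟨fun hm => ⟨⟨m, (Submodule.Quotient.mk_eq_zero I).1 hm⟩, rfl⟩,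
      fun ⟨⟨a, ha⟩, e⟩ => e ▸ (Submodule.Quotient.mk_eq_zero I).2 ha⟩)
    I.injective_subtype I.mkQ_surjective
  have hzero : (tf S₂.f n N).hom ((tf S₁.g n N).hom x) = 0 := h _
  obtain ⟨q, hq⟩ := (tor_exact₁ hS₂ n N _).1 hzero
  obtain ⟨t, ht, htq⟩ := exists_smul_eq_zero_of_torsion S S₂.X₃ (fun m' => by
    obtain ⟨m', rfl⟩ := I.mkQ_surjective m'
    obtain ⟨t, ht, m, hm⟩ := hcok m'
    refine ⟨t, ht, ?_⟩
    show t • I.mkQ m' = 0
    rw [← map_smul]
    exact (Submodule.Quotient.mk_eq_zero I).2 ⟨m, hm⟩) (n + 1) N q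
  have h1 : (tf S₁.g n N).hom (t • x) = 0 := by rw [map_smul, ← hq, ← map_smul, htq, map_zero]
  obtain ⟨y, hy⟩ := (tor_exact₂ hS₁ n N _).1 h1
  obtain ⟨t', ht', hty⟩ := exists_smul_eq_zero_of_torsion S S₁.X₁ (fun k => by
    obtain ⟨t, ht, htk⟩ := hker k.1 k.2
    exact ⟨t, ht, Subtype.ext htk⟩) n N y
  exact ⟨t' * t, S.mul_mem ht' ht, by rw [mul_smul, ← hy, ← map_smul, hty, map_zero]⟩

/-- Vanishing at one prime. -/
theorem exists_smul_eq_zero_of_prime [IsNoetherianRing A] (J K P : Ideal A) [P.IsPrime] (A' : Type u) [CommRing A']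
    [Algebra A A'] [IsLocalization.AtPrime A' P] (f g : List A') (hf : Ideal.ofList f = J.map (algebraMap A A'))
    (hg : Ideal.ofList g = K.map (algebraMap A A')) (hgf : IsWeaklyRegular A' (g ++ f))
    (hfw : IsWeaklyRegular A' f)
    (hm : Ideal.ofList f ⊔ Ideal.ofList g ≠ ⊤) (n : ℕ) (x : DRing.Tor A (n + 1) (A ⧸ J) (A ⧸ K)) :
    ∃ t ∉ P, t • x = 0 := by
  haveI : IsNoetherianRing A' := IsLocalization.isNoetherianRing P.primeCompl A' inferInstance
  haveI : IsLocalRing A' := IsLocalization.AtPrime.isLocalRing A' P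
  haveI : Module.Flat A A' := IsLocalization.flat A' P.primeCompl
  let J' := J.map (algebraMap A A')
  let K' := K.map (algebraMap A A')
  -- vanishing over the local ring
  have h0 : Subsingleton (DRing.Tor A' (n + 1) (A' ⧸ J') (A' ⧸ K')) := by
    have hsp : ∀ l : List A', Ideal.span (Set.range (fun i : Fin l.length => l.get i)) = Ideal.ofList l :=
      fun l => by rw [Ideal.ofList]; congr 1; ext; simp [List.mem_iff_get]
    have hsum : Ideal.span (Set.range fun i : Fin f.length => f.get i) ⊔ K' ≠ ⊤ := by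
      rw [hsp, show K' = Ideal.ofList g from hg.symm]; exact hm
    have hreg : IsWeaklyRegular (A' ⧸ K') (List.ofFn fun i : Fin f.length => Ideal.Quotient.mk K' (f.get i)) := by
      have h1 := ((isWeaklyRegular_append_iff' A' g f).1 hgf).2
      rw [show List.ofFn (fun i : Fin f.length => Ideal.Quotient.mk K' (f.get i)) = f.map (Ideal.Quotient.mk K') by
        conv_rhs => rw [← List.ofFn_get f, List.map_ofFn]
        rfl]
      have e : (A' ⧸ (Ideal.ofList g • ⊤ : Submodule A' A')) ≃ₗ[A'] A' ⧸ K' :=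
        Submodule.quotEquivOfEq _ _ (by rw [hg]; simp [Ideal.smul_top_eq_map, K'])
      have h2 := ((isWeaklyRegular_append_iff A' g f).1 hgf).2
      rw [e.isWeaklyRegular_congr] at h2
      exact (isWeaklyRegular_map_algebraMap_iff (A' ⧸ K') _ f).2 h2
    have := (S16238.result A' f.length (fun i => f.get i) (by rwa [List.ofFn_get]) K' hsum).1 hreg (n + 1) (by omega)
    have hs := ModuleCat.subsingleton_of_isZero this
    rw [hsp, hf] at hs
    exact hs
  -- base change
  obtain ⟨φ, hφ⟩ := HTor95.BaseChange.exists_bc A' (CategoryTheory.projectiveResolution (ModuleCat.of A (A ⧸ K))) (A' ⧸ J')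
    (fun q => ⟨fun a b => (tor_succ_eq_zero_of_flat (ModuleCat.of A A') q _ a).trans
      (tor_succ_eq_zero_of_flat (ModuleCat.of A A') q _ b).symm⟩) (n + 1)
  have h1 : Subsingleton (DRing.Tor A' (n + 1) (A' ⧸ J') (A' ⊗[A] (A ⧸ K))) := by
    let e : ModuleCat.of A' (A' ⊗[A] (A ⧸ K)) ≅ ModuleCat.of A' (A' ⧸ K') :=
      ((Algebra.TensorProduct.quotIdealMapEquivTensorQuot A' K).symm.toLinearEquiv).toModuleIso
    exact (((CategoryTheory.Tor (ModuleCat.{u} A') (n + 1)).obj _).mapIso e).toLinearEquiv.toEquiv.subsingleton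
  have h2 : ∀ z : T (n + 1) (ModuleCat.of A (A' ⧸ J')) (ModuleCat.of A (A ⧸ K)), z = 0 := fun z =>
    hφ.1 (Subsingleton.elim _ _)
  let π : (A ⧸ J) →ₗ[A] (A' ⧸ J') :=
    Submodule.liftQ J ((Ideal.Quotient.mkₐ A J').toLinearMap.comp (Algebra.linearMap A A'))
      fun a ha => Ideal.Quotient.eq_zero_iff_mem.2 (Ideal.mem_map_of_mem _ ha)
  have hker : ∀ m : ModuleCat.of A (A ⧸ J), (ModuleCat.ofHom π).hom m = 0 → ∃ t ∈ P.primeCompl, t • m = 0 := by
    intro m hm
    obtain ⟨a, rfl⟩ := Ideal.Quotient.mk_surjective m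
    have ha : algebraMap A A' a ∈ J' := Ideal.Quotient.eq_zero_iff_mem.1 hm
    obtain ⟨⟨⟨b, hb⟩, t⟩, e⟩ := (IsLocalization.mem_map_algebraMap_iff P.primeCompl A').1 ha
    rw [← map_mul] at e
    obtain ⟨u, hu⟩ := (IsLocalization.eq_iff_exists P.primeCompl A').1 e
    refine ⟨u * t, P.primeCompl.mul_mem u.2 t.2, ?_⟩
    rw [Algebra.smul_def, Ideal.Quotient.algebraMap_eq, ← map_mul, Ideal.Quotient.eq_zero_iff_mem,
      show (u : A) * t * a = u * (a * t) by ring, hu]
    exact Ideal.mul_mem_left _ _ hb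
  have hcok : ∀ m' : ModuleCat.of A (A' ⧸ J'), ∃ t ∈ P.primeCompl, ∃ m, (ModuleCat.ofHom π).hom m = t • m' := by
    intro m'
    obtain ⟨a', rfl⟩ := Ideal.Quotient.mk_surjective m'
    obtain ⟨⟨a, t⟩, e⟩ := IsLocalization.surj P.primeCompl a'
    refine ⟨t, t.2, Ideal.Quotient.mk J a, ?_⟩
    show Ideal.Quotient.mk J' (algebraMap A A' a) = (t : A) • Ideal.Quotient.mk J' a'
    rw [Algebra.smul_def, IsScalarTower.algebraMap_apply A A' (A' ⧸ J'), Ideal.Quotient.algebraMap_eq, ← map_mul,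
      mul_comm, e]
  obtain ⟨t, ht, htx⟩ := exists_smul_eq_zero_of_map P.primeCompl (ModuleCat.ofHom π) hker hcok (n + 1) _ h2 x
  exact ⟨t, ht, htx⟩

/-- `Tor_i(A/J, A/K) = 0` for `i > 0` from regular sequences at the primes containing `J + K`. -/
theorem subsingleton_tor [IsNoetherianRing A] (J K : Ideal A)
    (h : ∀ (P : Ideal A) (_ : P.IsPrime), J ≤ P → K ≤ P → ∃ f g : List (Localization.AtPrime P),
      Ideal.ofList f = J.map (algebraMap A (Localization.AtPrime P)) ∧
      Ideal.ofList g = K.map (algebraMap A (Localization.AtPrime P)) ∧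
      IsWeaklyRegular (Localization.AtPrime P) (g ++ f) ∧ IsWeaklyRegular (Localization.AtPrime P) f ∧
      Ideal.ofList f ⊔ Ideal.ofList g ≠ ⊤)
    (i : ℕ) (hi : 0 < i) : Subsingleton (DRing.Tor A i (A ⧸ J) (A ⧸ K)) := by
  obtain ⟨n, rfl⟩ : ∃ n, i = n + 1 := ⟨i - 1, by omega⟩
  refine subsingleton_of_forall_eq 0 fun x => ?_
  by_contra hx
  let L : Ideal A := LinearMap.ker (LinearMap.toSpanSingleton A _ x)
  have hL : L ≠ ⊤ := fun e => hx (by
    have h1 : (1 : A) ∈ L := by rw [e]; trivial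
    simpa [L] using h1)
  obtain ⟨P, hP, hLP⟩ := Ideal.exists_le_maximal L hL
  haveI := hP.isPrime
  have key : ∀ t, t • x = 0 → t ∈ P := fun t ht => hLP (by simpa [L] using ht)
  by_cases hJ : J ≤ P
  · by_cases hK : K ≤ P
    · obtain ⟨f, g, hf, hg, hgf, hfw, hm⟩ := h P hP.isPrime hJ hK
      obtain ⟨t, ht, htx⟩ := exists_smul_eq_zero_of_prime J K P _ f g hf hg hgf hfw hm n x
      exact ht (key t htx)
    · obtain ⟨t, htK, htP⟩ := SetLike.not_le_iff_exists.1 hK
      apply htP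
      apply key
      let e : T (n + 1) (ModuleCat.of A (A ⧸ J)) (ModuleCat.of A (A ⧸ K)) ≅
          T (n + 1) (ModuleCat.of A (A ⧸ K)) (ModuleCat.of A (A ⧸ J)) :=
        HTor95.BaseChange.commTor _ _ _
      apply e.toLinearEquiv.injective
      rw [map_smul, map_zero]
      refine kill_of_module (fun z => ?_) _ _ _
      obtain ⟨a, rfl⟩ := Ideal.Quotient.mk_surjective z
      rw [Algebra.smul_def, Ideal.Quotient.algebraMap_eq, Ideal.Quotient.eq_zero_iff_mem.2 htK, zero_mul]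
  · obtain ⟨t, htJ, htP⟩ := SetLike.not_le_iff_exists.1 hJ
    apply htP
    apply key
    refine kill_of_module (M := ModuleCat.of A (A ⧸ J)) (fun z => ?_) _ _ _
    obtain ⟨a, rfl⟩ := Ideal.Quotient.mk_surjective z
    rw [Algebra.smul_def, Ideal.Quotient.algebraMap_eq, Ideal.Quotient.eq_zero_iff_mem.2 htJ, zero_mul]

end Groth.Agent.Desc44.TorLocalVanish
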