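import Groth.Agent.Desc44.ExpectedCodim
import Groth.Agent.Desc44.TorLocalVanish
import Groth.Agent.RegImm44.Affine
import Groth.Agent.Omega.ConormalZero
import Groth.Agent.DRing.KoszulSpread.Basic
import Groth.Prelude.Def_RegImm

/-!
# Regular immersions meeting in the expected codimension
-/

set_option autoImplicit false
set_option linter.style.haveILetI false
set_option backward.isDefEq.respectTransparency false
set_option backward.isDefEq.respectTransparency.types false

universe u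

open CategoryTheory CategoryTheory.Limits AlgebraicGeometry RingTheory.Sequence

noncomputable section

namespace Groth.Agent.Desc44.InterExpected

variable {X Y Z : Scheme.{u}}

/-- The ideal of a closed immersion at a point, from an affine open. -/
abbrev stalkIdeal (i : Y ⟶ X) {U : X.Opens} {x : X} (hx : x ∈ U) : Ideal (X.presheaf.stalk x) :=
  (RingHom.ker (i.app U).hom).map (X.presheaf.germ U x hx).hom

theorem stalkIdeal_congr (i : Y ⟶ X) [IsClosedImmersion i] {x : X} (y : Y) (hy : i y = x) {U V : X.Opens}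
    (hU : IsAffineOpen U) (hV : IsAffineOpen V) (hxU : x ∈ U) (hxV : x ∈ V) :
    stalkIdeal i hxU = stalkIdeal i hxV := by
  subst hy
  rw [stalkIdeal, stalkIdeal,
    ← Omega.ConormalZero.ker_stalkMap_eq i hU (RegImm44.isAffineOpen_preimage i hU) hxU (RegImm44.app_surjective i hU),
    ← Omega.ConormalZero.ker_stalkMap_eq i hV (RegImm44.isAffineOpen_preimage i hV) hxV (RegImm44.app_surjective i hV)]

theorem exists_stalk_list (i : Y ⟶ X) [IsClosedImmersion i] (a : ℕ)
    (hi : RegImm.IsRegularImmersionOfCodim RegImm.Kind.regular a i) {x : X} (y : Y) (hy : i y = x)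
    {U : X.Opens} (hU : IsAffineOpen U) (hxU : x ∈ U) :
    ∃ l : List (X.presheaf.stalk x), l.length = a ∧ Ideal.ofList l = stalkIdeal i hxU := by
  obtain ⟨⟨V, hV⟩, hyV, -, rs, hlen, -, hker⟩ := hi.2 y
  have hxV : x ∈ V := hy ▸ hyV
  refine ⟨rs.map (X.presheaf.germ V x hxV).hom, by simp [hlen], ?_⟩
  rw [stalkIdeal_congr i y hy hU hV hxU hxV, stalkIdeal, hker, Ideal.map_ofList]

theorem isWeaklyRegular_map_ringEquiv {R S : Type u} [CommRing R] [CommRing S] (e : R ≃+* S) (l : List R)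
    (h : IsWeaklyRegular R l) : IsWeaklyRegular S (l.map e) := by
  refine (AddEquiv.isWeaklyRegular_congr (e := e.toAddEquiv) (as := l) ?_).1 h
  rw [List.forall₂_map_right_iff, List.forall₂_same]
  intro r _ v
  exact map_mul e r v

section Data

variable [IsLocallyNoetherian X] (hCM : ∀ x : X, LocCoh.IsCohenMacaulayLocalRing (X.presheaf.stalk x))
  (iY : Y ⟶ X) (iZ : Z ⟶ X) [IsClosedImmersion iY] [IsClosedImmersion iZ] (a b : ℕ)
  (hcodim : ∀ w : ↥(pullback iY iZ), ((a + b : ℕ) : WithBot ℕ∞) ≤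
    ringKrullDim (X.presheaf.stalk ((pullback.fst iY iZ ≫ iY).base w)))

include hCM hcodim in
theorem isWeaklyRegular_stalk {U : X.Opens} (hU : IsAffineOpen U) {x : X} (hxU : x ∈ U)
    (hxY : ∃ y, iY y = x) (hxZ : ∃ z, iZ z = x) (l : List (X.presheaf.stalk x)) (hl : l.length ≤ a + b)
    (hlI : Ideal.ofList l = stalkIdeal iY hxU ⊔ stalkIdeal iZ hxU) :
    IsWeaklyRegular (X.presheaf.stalk x) l ∧ Ideal.ofList l ≤ IsLocalRing.maximalIdeal (X.presheaf.stalk x) := by
  haveI := hCM x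
  letI : Algebra Γ(X, U) (X.presheaf.stalk x) := X.presheaf.algebra_section_stalk ⟨x, hxU⟩
  haveI := hU.isLocalization_stalk ⟨x, hxU⟩
  let p := (hU.primeIdealOf ⟨x, hxU⟩).asIdeal
  have hm : Ideal.ofList l ≤ IsLocalRing.maximalIdeal (X.presheaf.stalk x) := by
    rw [hlI, ← IsLocalization.AtPrime.map_eq_maximalIdeal p]
    obtain ⟨y, hy⟩ := hxY
    obtain ⟨z, hz⟩ := hxZ
    refine sup_le (Ideal.map_mono ?_) (Ideal.map_mono ?_)
    · subst hy; exact RegImm44.ker_le_primeIdealOf iY hU y hxU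
    · subst hz; exact RegImm44.ker_le_primeIdealOf iZ hU z hxU
  refine ⟨ExpectedCodim.isWeaklyRegular_of_le_height l hm fun q hq hle => ?_, hm⟩
  haveI := hq
  let P := q.under Γ(X, U)
  rw [hlI, sup_le_iff, stalkIdeal, stalkIdeal, Ideal.map_le_iff_le_comap, Ideal.map_le_iff_le_comap] at hle
  haveI : IsClosedImmersion (iY ∣_ U) := inferInstance
  haveI : IsClosedImmersion (iZ ∣_ U) := inferInstance
  obtain ⟨y', hy'⟩ := RegImm44.exists_preimage_of_ker_le iY hU ⟨P, inferInstance⟩ hle.1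
  obtain ⟨z', hz'⟩ := RegImm44.exists_preimage_of_ker_le iZ hU ⟨P, inferInstance⟩ hle.2
  obtain ⟨w, hw1, -⟩ := Scheme.Pullback.exists_preimage_pullback y' z' (hy'.trans hz'.symm)
  have h1 := hcodim w
  have e : (pullback.fst iY iZ ≫ iY).base w = hU.fromSpec ⟨P, inferInstance⟩ := by
    show (pullback.fst iY iZ ≫ iY) w = _
    rw [Scheme.Hom.comp_apply, hw1, hy']
  rw [e] at h1
  have hxU' : hU.fromSpec ⟨P, inferInstance⟩ ∈ U := by
    rw [← SetLike.mem_coe, ← hU.range_fromSpec]; exact ⟨_, rfl⟩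
  letI : Algebra Γ(X, U) (X.presheaf.stalk (hU.fromSpec ⟨P, inferInstance⟩)) :=
    X.presheaf.algebra_section_stalk ⟨_, hxU'⟩
  haveI := hU.isLocalization_stalk' ⟨P, inferInstance⟩ hxU'
  rw [IsLocalization.AtPrime.ringKrullDim_eq_height P] at h1
  have h2 : P.height = q.height := IsLocalization.height_under p.primeCompl q
  have h3 : ((a + b : ℕ) : ℕ∞) ≤ P.height := by exact_mod_cast h1
  exact le_trans (by exact_mod_cast hl) (h2 ▸ h3)

variable (hY : RegImm.IsRegularImmersionOfCodim RegImm.Kind.regular a iY)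
  (hZ : RegImm.IsRegularImmersionOfCodim RegImm.Kind.regular b iZ)

include hCM hcodim hY hZ in
theorem regular_inter : RegImm.IsRegularImmersionOfCodim RegImm.Kind.regular (a + b) (pullback.fst iY iZ ≫ iY) := by
  refine ⟨inferInstance, fun w => ?_⟩
  let y := pullback.fst iY iZ w
  let z := pullback.snd iY iZ w
  let x := iY y
  have hz : iZ z = x := by
    show (pullback.snd iY iZ ≫ iZ) w = (pullback.fst iY iZ ≫ iY) w
    rw [pullback.condition]
  obtain ⟨⟨V₁, hV₁⟩, hyV, -, f, hflen, -, hfker⟩ := hY.2 y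
  obtain ⟨⟨V₂, hV₂⟩, hzV, -, g, hglen, -, hgker⟩ := hZ.2 z
  obtain ⟨s, s', hss, hxs⟩ := exists_basicOpen_le_affine_inter hV₁ hV₂ x ⟨hyV, hz ▸ hzV⟩
  let D := X.basicOpen s
  have hD : IsAffineOpen D := hV₁.basicOpen s
  have h₁ : D ≤ V₁ := X.basicOpen_le s
  have h₂ : D ≤ V₂ := (le_of_eq hss).trans (X.basicOpen_le s')
  let f₀ := f.map (X.presheaf.map (homOfLE h₁).op).hom
  let g₀ := g.map (X.presheaf.map (homOfLE h₂).op).hom
  have hf₀ : RingHom.ker (iY.app D).hom = Ideal.ofList f₀ := by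
    rw [RegImm44.ker_app_restrict iY hV₁ hD h₁, hfker, Ideal.map_ofList]
  have hg₀ : RingHom.ker (iZ.app D).hom = Ideal.ofList g₀ := by
    rw [RegImm44.ker_app_restrict iZ hV₂ hD h₂, hgker, Ideal.map_ofList]
  have hK : RingHom.ker ((pullback.fst iY iZ ≫ iY).app D).hom = Ideal.ofList (f₀ ++ g₀) := by
    have h := RegImm44.ker_app_baseChange (IsPullback.of_hasPullback iY iZ).flip hD
      (RegImm44.isAffineOpen_preimage iY hD) (le_refl (iY ⁻¹ᵁ D))
    rw [← Scheme.Hom.app_eq_appLE] at h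
    rw [Scheme.Hom.comp_app]
    show RingHom.ker (((pullback.fst iY iZ).app (iY ⁻¹ᵁ D)).hom.comp (iY.app D).hom) = _
    rw [← RingHom.comap_ker, h, Ideal.comap_map_of_surjective' _ (RegImm44.app_surjective iY hD), hf₀, hg₀,
      Ideal.ofList_append, sup_comm]
  haveI : IsNoetherianRing Γ(X, D) := IsLocallyNoetherian.component_noetherian ⟨D, hD⟩
  letI : Algebra Γ(X, D) (X.presheaf.stalk x) := X.presheaf.algebra_section_stalk ⟨x, hxs⟩
  haveI := hD.isLocalization_stalk ⟨x, hxs⟩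
  let p := (hD.primeIdealOf ⟨x, hxs⟩).asIdeal
  have hreg := isWeaklyRegular_stalk hCM iY iZ a b hcodim hD hxs ⟨y, rfl⟩ ⟨z, hz⟩
    ((f₀ ++ g₀).map (algebraMap Γ(X, D) (X.presheaf.stalk x))) (by simp [f₀, g₀, hflen, hglen])
    (by rw [stalkIdeal, stalkIdeal, hf₀, hg₀, ← Ideal.map_sup, ← Ideal.ofList_append, Ideal.map_ofList]; rfl)
  have hreg' : IsWeaklyRegular (Localization.AtPrime p)
      ((f₀ ++ g₀).map (algebraMap Γ(X, D) (Localization.AtPrime p))) := by
    let e : X.presheaf.stalk x ≃ₐ[Γ(X, D)] Localization.AtPrime p := IsLocalization.algEquiv p.primeCompl _ _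
    have := isWeaklyRegular_map_ringEquiv e.toRingEquiv _ hreg.1
    rw [List.map_map] at this
    have e' : e.toRingEquiv ∘ algebraMap Γ(X, D) (X.presheaf.stalk x) = algebraMap Γ(X, D) (Localization.AtPrime p) :=
      funext fun r => e.commutes r
    rw [e'] at this
    exact this
  obtain ⟨t, htp, ht⟩ := DRing.KoszulSpread.exists_isWeaklyRegular_away p (f₀ ++ g₀) hreg'
  let W := X.basicOpen t
  have hW : IsAffineOpen W := hD.basicOpen t
  have hxW : x ∈ W := (RegImm44.mem_basicOpen_iff hD ⟨x, hxs⟩ t).2 htp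
  haveI := hD.isLocalization_basicOpen t
  have hregW := ht t dvd_rfl Γ(X, W)
  have hkerW : RingHom.ker ((pullback.fst iY iZ ≫ iY).app W).hom =
      Ideal.ofList ((f₀ ++ g₀).map (algebraMap Γ(X, D) Γ(X, W))) := by
    rw [RegImm44.ker_app_restrict (pullback.fst iY iZ ≫ iY) hD hW (X.basicOpen_le t), hK, Ideal.map_ofList]
    rfl
  refine ⟨⟨W, hW⟩, hxW, inferInstance, _, by simp [f₀, g₀, hflen, hglen], ⟨hregW, ?_⟩, hkerW⟩
  intro e
  have e' : (⊤ : Ideal Γ(X, W)) = Ideal.ofList ((f₀ ++ g₀).map (algebraMap Γ(X, D) Γ(X, W))) := by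
    rw [smul_eq_mul, Ideal.mul_top] at e; exact e
  have hle := RegImm44.ker_le_primeIdealOf (pullback.fst iY iZ ≫ iY) hW w hxW
  rw [hkerW, ← e'] at hle
  exact (hW.primeIdealOf ⟨_, hxW⟩).isPrime.ne_top (top_le_iff.1 hle)

include hCM hcodim hY hZ in
theorem tor_vanishing (U : X.Opens) (hU : IsAffineOpen U) (i : ℕ) (hi : 0 < i) :
    Subsingleton (@DRing.Tor Γ(X, U) _ i Γ(Y, iY ⁻¹ᵁ U) Γ(Z, iZ ⁻¹ᵁ U) _ (iY.app U).hom.toModule _ (iZ.app U).hom.toModule) := by
  haveI : IsNoetherianRing Γ(X, U) := IsLocallyNoetherian.component_noetherian ⟨U, hU⟩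
  letI := (iY.app U).hom.toModule
  letI := (iZ.app U).hom.toModule
  let J := RingHom.ker (iY.app U).hom
  let K := RingHom.ker (iZ.app U).hom
  have h : Subsingleton (DRing.Tor Γ(X, U) i (Γ(X, U) ⧸ J) (Γ(X, U) ⧸ K)) := by
    refine TorLocalVanish.subsingleton_tor J K (fun P hP hJP hKP => ?_) i hi
    obtain ⟨y, hy⟩ := RegImm44.exists_preimage_of_ker_le iY hU ⟨P, hP⟩ hJP
    obtain ⟨z, hz⟩ := RegImm44.exists_preimage_of_ker_le iZ hU ⟨P, hP⟩ hKP
    have hxU : hU.fromSpec ⟨P, hP⟩ ∈ U := by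
      rw [← SetLike.mem_coe, ← hU.range_fromSpec]; exact ⟨_, rfl⟩
    obtain ⟨f, hflen, hf⟩ := exists_stalk_list iY a hY y hy hU hxU
    obtain ⟨g, hglen, hg⟩ := exists_stalk_list iZ b hZ z hz hU hxU
    letI : Algebra Γ(X, U) (X.presheaf.stalk (hU.fromSpec ⟨P, hP⟩)) := X.presheaf.algebra_section_stalk ⟨_, hxU⟩
    haveI := hU.isLocalization_stalk' ⟨P, hP⟩ hxU
    let e : X.presheaf.stalk (hU.fromSpec ⟨P, hP⟩) ≃ₐ[Γ(X, U)] Localization.AtPrime P :=
      IsLocalization.algEquiv P.primeCompl _ _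
    have hmap : ∀ (l : List (X.presheaf.stalk (hU.fromSpec ⟨P, hP⟩))) (I : Ideal Γ(X, U)),
        Ideal.ofList l = I.map (algebraMap _ _) →
        Ideal.ofList (l.map e) = I.map (algebraMap Γ(X, U) (Localization.AtPrime P)) := fun l I h => by
      show Ideal.ofList (l.map e.toRingEquiv.toRingHom) = _
      rw [← Ideal.map_ofList, h, Ideal.map_map]
      congr 1
      exact RingHom.ext fun r => e.commutes r
    have hreg : ∀ l : List (X.presheaf.stalk (hU.fromSpec ⟨P, hP⟩)), IsWeaklyRegular _ l →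
        IsWeaklyRegular (Localization.AtPrime P) (l.map e) := fun l hl =>
      isWeaklyRegular_map_ringEquiv e.toRingEquiv l hl
    have hgf := isWeaklyRegular_stalk hCM iY iZ a b hcodim hU hxU ⟨y, hy⟩ ⟨z, hz⟩ (g ++ f)
      (by simp [hflen, hglen]; omega) (by rw [Ideal.ofList_append, hf, hg, sup_comm])
    have hfg := isWeaklyRegular_stalk hCM iY iZ a b hcodim hU hxU ⟨y, hy⟩ ⟨z, hz⟩ (f ++ g)
      (by simp [hflen, hglen]) (by rw [Ideal.ofList_append, hf, hg])
    refine ⟨f.map e, g.map e, hmap f J hf, hmap g K hg, ?_, hreg f ((isWeaklyRegular_append_iff _ f g).1 hfg.1).1, ?_⟩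
    · rw [← List.map_append]; exact hreg _ hgf.1
    · intro htop
      have h1 := hfg.2
      have h2 : Ideal.ofList ((f ++ g).map e) = ⊤ := by rw [List.map_append, Ideal.ofList_append]; exact htop
      rw [show (f ++ g).map e = (f ++ g).map e.toRingEquiv.toRingHom from rfl, ← Ideal.map_ofList] at h2
      have h3 := congrArg (Ideal.comap e.toRingEquiv.toRingHom) h2
      rw [Ideal.comap_map_of_bijective e.toRingEquiv.toRingHom e.bijective, Ideal.comap_top] at h3
      exact (IsLocalRing.maximalIdeal.isMaximal _).ne_top (top_le_iff.1 (h3 ▸ h1))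
  let eY : (Γ(X, U) ⧸ J) ≃ₗ[Γ(X, U)] Γ(Y, iY ⁻¹ᵁ U) :=
    LinearEquiv.ofBijective
      { toFun := Ideal.Quotient.lift J (iY.app U).hom fun _ h => h
        map_add' := map_add _
        map_smul' := fun r x => by
          obtain ⟨x, rfl⟩ := Ideal.Quotient.mk_surjective x
          exact map_mul (iY.app U).hom r x }
      ⟨RingHom.lift_injective_of_ker_le_ideal J (fun _ h => h) (le_refl _),
        Ideal.Quotient.lift_surjective_of_surjective J (fun _ h => h) (RegImm44.app_surjective iY hU)⟩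
  let eZ : (Γ(X, U) ⧸ K) ≃ₗ[Γ(X, U)] Γ(Z, iZ ⁻¹ᵁ U) :=
    LinearEquiv.ofBijective
      { toFun := Ideal.Quotient.lift K (iZ.app U).hom fun _ h => h
        map_add' := map_add _
        map_smul' := fun r x => by
          obtain ⟨x, rfl⟩ := Ideal.Quotient.mk_surjective x
          exact map_mul (iZ.app U).hom r x }
      ⟨RingHom.lift_injective_of_ker_le_ideal K (fun _ h => h) (le_refl _),
        Ideal.Quotient.lift_surjective_of_surjective K (fun _ h => h) (RegImm44.app_surjective iZ hU)⟩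
  let T := CategoryTheory.Tor (ModuleCat.{u} Γ(X, U)) i
  exact ((T.mapIso eY.toModuleIso).app _ ≪≫ (T.obj _).mapIso eZ.toModuleIso).symm.toLinearEquiv.toEquiv.subsingleton

end Data

end Groth.Agent.Desc44.InterExpected
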