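import Groth.Agent.EGA4Lib.ZeroLocusDim
import Groth.Agent.EquidimPt.FieldBase
import Groth.Prelude.Def_RegImm
import Mathlib.AlgebraicGeometry.Morphisms.QuasiCompact

/-!
# Krull's height theorem on points; zero loci of regular immersions
-/

set_option autoImplicit false
set_option linter.style.haveILetI false

universe u

open CategoryTheory AlgebraicGeometry Groth.Agent.VarDim Groth.Agent.EquidimPt

namespace Groth.Agent.Desc44.KrullPts

attribute [local instance] Curv2.resAlgebra secAlgebra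

section
variable {X : Scheme.{u}} (k : Type u) [Field k] [X.Over (Spec (CommRingCat.of k))]
  [LocallyOfFiniteType (X ↘ Spec (CommRingCat.of k))]

/-- Cutting by `c` functions lowers dimension by at most `c`. -/
theorem exists_dimPt_le_add {η x : X} (hx : η ⤳ x) {V : X.Opens} (hV : IsAffineOpen V) (hxV : x ∈ V) {c : ℕ}
    (g : Fin c → Γ(X, V)) (hg : ∀ i, x ∉ X.basicOpen (g i)) :
    ∃ y, η ⤳ y ∧ y ⤳ x ∧ (∀ i, y ∉ X.basicOpen (g i)) ∧ dimPt k X η ≤ dimPt k X y + c := by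
  have hηV : η ∈ V := hx.mem_open V.2 hxV
  haveI := finiteType_sections k hV
  have hmem : ∀ y (hy : y ∈ V) i, y ∉ X.basicOpen (g i) ↔ g i ∈ (hV.primeIdealOf ⟨y, hy⟩).asIdeal := fun y hy i => by
    rw [← evaluation_eq_zero_iff hV y hy, X.evaluation_eq_zero_iff_notMem_basicOpen y hy]
  set Q := hV.primeIdealOf ⟨η, hηV⟩
  set P := hV.primeIdealOf ⟨x, hxV⟩
  have hQP : Q.asIdeal ≤ P.asIdeal := (primeIdealOf_le_iff hV η x hηV hxV).2 hx
  haveI := finiteType_quotient k Γ(X, V) Q.asIdeal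
  haveI : IsNoetherianRing (Γ(X, V) ⧸ Q.asIdeal) := Algebra.FiniteType.isNoetherianRing k _
  have hle : Ideal.span (Set.range fun i => Ideal.Quotient.mk Q.asIdeal (g i)) ≤
      P.asIdeal.map (Ideal.Quotient.mk Q.asIdeal) := by
    rw [Ideal.span_le]
    rintro _ ⟨i, rfl⟩
    exact Ideal.mem_map_of_mem _ ((hmem x hxV i).1 (hg i))
  haveI : (P.asIdeal.map (Ideal.Quotient.mk Q.asIdeal)).IsPrime :=
    Ideal.map_isPrime_of_surjective Ideal.Quotient.mk_surjective (by rwa [Ideal.mk_ker])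
  obtain ⟨p, hp, hpP⟩ := Ideal.exists_minimalPrimes_le hle
  haveI := hp.1.1
  have hht : p.height ≤ c := by
    classical
    have h := Ideal.height_le_card_of_mem_minimalPrimes_span_finset (p := p)
      (s := Finset.univ.image fun i => Ideal.Quotient.mk Q.asIdeal (g i))
      (by rw [Finset.coe_image, Finset.coe_univ, Set.image_univ]; exact hp)
    exact h.trans (Nat.cast_le.2 (Finset.card_image_le.trans (le_of_eq (Finset.card_fin c))))
  obtain ⟨n, hn, hn'⟩ := trdeg_quotient_add_height k (Γ(X, V) ⧸ Q.asIdeal) p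
  let R : PrimeSpectrum Γ(X, V) := ⟨p.comap (Ideal.Quotient.mk Q.asIdeal), inferInstance⟩
  obtain ⟨y, hy, hye⟩ := exists_eq_primeIdealOf hV R
  have hQR : Q.asIdeal ≤ R.asIdeal := fun a ha => by
    show Ideal.Quotient.mk Q.asIdeal a ∈ p
    rw [Ideal.Quotient.eq_zero_iff_mem.2 ha]; exact zero_mem _
  have hgR : ∀ i, g i ∈ R.asIdeal := fun i => hp.1.2 (Ideal.subset_span ⟨i, rfl⟩)
  have hRP : R.asIdeal ≤ P.asIdeal := fun a ha => by
    have h1 : Ideal.Quotient.mk Q.asIdeal a ∈ P.asIdeal.map (Ideal.Quotient.mk Q.asIdeal) := hpP ha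
    rw [Ideal.mem_map_iff_of_surjective _ Ideal.Quotient.mk_surjective] at h1
    obtain ⟨b, hb, hab⟩ := h1
    exact (P.asIdeal.sub_mem_iff_right hb).1 (hQP (Ideal.Quotient.eq.1 hab))
  have hmap : R.asIdeal.map (Ideal.Quotient.mk Q.asIdeal) = p :=
    Ideal.map_comap_of_surjective _ Ideal.Quotient.mk_surjective p
  rw [← hmap, trdeg_quotient_quotient k Γ(X, V) hQR, trdeg_quotient_primeIdealOf k hV η hηV, ← hye,
    trdeg_quotient_primeIdealOf k hV y hy] at hn'
  refine ⟨y, (primeIdealOf_le_iff hV η y hηV hy).1 (by rw [hye]; exact hQR),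
    (primeIdealOf_le_iff hV y x hy hxV).1 (by rw [hye]; exact hRP),
    fun i => (hmem y hy i).2 (by rw [hye]; exact hgR i), ?_⟩
  have h1 : dimPt k X y + n = dimPt k X η := by exact_mod_cast hn'
  have h2 : n ≤ c := by rw [hn] at hht; exact_mod_cast hht
  omega

end

variable {W X : Scheme.{u}}

/-- A regular immersion is locally cut out by `c` functions. -/
theorem exists_equations {κ : RegImm.Kind} {c : ℕ} {ι : W ⟶ X} (hι : RegImm.IsRegularImmersionOfCodim κ c ι)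
    (w : W) : ∃ (U : X.Opens) (g : Fin c → Γ(X, U)), ι w ∈ U ∧
      ∀ y ∈ U, y ∈ Set.range ι ↔ ∀ i, y ∉ X.basicOpen (g i) := by
  obtain ⟨U, hwU, hcl, rs, hlen, -, hker⟩ := hι.2 w
  refine ⟨U.1, fun i => rs.get (i.cast hlen.symm), hwU, fun y hy => ⟨?_, fun h => ?_⟩⟩
  · rintro ⟨v, rfl⟩ i hi
    have h1 : (ι.app U.1).hom (rs.get (i.cast hlen.symm)) = 0 := by
      rw [← RingHom.mem_ker, hker]
      exact Ideal.subset_span (List.get_mem _ _)
    have h2 : v ∈ W.basicOpen ((ι.app U.1).hom (rs.get (i.cast hlen.symm))) := by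
      rw [← Scheme.preimage_basicOpen]; exact hi
    rw [h1, Scheme.basicOpen_zero] at h2
    exact h2
  · by_contra hyr
    haveI : IsAffine U.1.toScheme := U.2
    haveI := hcl
    have haff : IsAffineOpen (ι ⁻¹ᵁ U.1) := isAffine_of_isAffineHom (ι ∣_ U.1)
    have hclosed : IsClosed (Set.range (ι ∣_ U.1)) := (ι ∣_ U.1).isClosedEmbedding.isClosed_range
    obtain ⟨O, hO, hOeq⟩ := hclosed.isOpen_compl
    have hyO : y ∈ O := by
      have : (⟨y, hy⟩ : U.1.toScheme) ∈ (Set.range (ι ∣_ U.1))ᶜ := by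
        rintro ⟨v, hv⟩
        exact hyr ⟨v.1, (morphismRestrict_base_coe ι U.1 v).symm.trans (congrArg Subtype.val hv)⟩
      rw [← hOeq] at this
      exact this
    obtain ⟨b, hb, hyb⟩ := U.2.exists_basicOpen_le (V := ⟨O, hO⟩ ⊓ U.1) ⟨y, hyO, hy⟩ hy
    have hbot : W.basicOpen ((ι.app U.1).hom b) = ⊥ := by
      rw [← Scheme.preimage_basicOpen]
      refine TopologicalSpace.Opens.ext (Set.eq_empty_iff_forall_notMem.2 fun v hv => ?_)
      have hvO : ι v ∈ O := (hb hv).1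
      have hvU : ι v ∈ U.1 := (hb hv).2
      have : (ι ∣_ U.1) ⟨v, hvU⟩ ∈ (Set.range (ι ∣_ U.1))ᶜ := by
        rw [← hOeq]
        show ((ι ∣_ U.1) ⟨v, hvU⟩).1 ∈ O
        rw [morphismRestrict_base_coe]
        exact hvO
      exact this ⟨_, rfl⟩
    obtain ⟨N, hN⟩ := (Scheme.isNilpotent_iff_basicOpen_eq_bot_of_isCompact haff.isCompact _).2 hbot
    have hmem : b ^ N ∈ RingHom.ker (ι.app U.1).hom := by rw [RingHom.mem_ker, map_pow]; exact hN
    rw [hker] at hmem
    set P := U.2.primeIdealOf ⟨y, hy⟩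
    have hP : ∀ f : Γ(X, U.1), y ∉ X.basicOpen f ↔ f ∈ P.asIdeal := fun f => by
      rw [← evaluation_eq_zero_iff U.2 y hy, X.evaluation_eq_zero_iff_notMem_basicOpen y hy]
    have hsub : Ideal.ofList rs ≤ P.asIdeal := Ideal.span_le.2 fun a ha => by
      obtain ⟨j, rfl⟩ := List.get_of_mem ha
      have := h (j.cast hlen)
      exact (hP _).1 (by simpa using this)
    exact (hP b).2 (P.isPrime.mem_of_pow_mem N (hsub hmem)) hyb

variable (k : Type u) [Field k] {C : Scheme.{u}} (π : C ⟶ X) (q : X ⟶ Spec (CommRingCat.of k))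
  [LocallyOfFiniteType q] [LocallyOfFiniteType π]

/-- Points of the preimage of a regular immersion, maximal in a closed irreducible set. -/
theorem dimOver_le_add {κ : RegImm.Kind} {c : ℕ} {ι : W ⟶ X} (hι : RegImm.IsRegularImmersionOfCodim κ c ι)
    {η ξ : C} (h : η ⤳ ξ) (hξ : π ξ ∈ Set.range ι)
    (hmax : ∀ y, η ⤳ y → y ⤳ ξ → π y ∈ Set.range ι → y = ξ) :
    dimOver k (π ≫ q) η ≤ dimOver k (π ≫ q) ξ + c := by
  obtain ⟨w, hw⟩ := hξ
  obtain ⟨U, g, hwU, hU⟩ := exists_equations hι w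
  have hξU : π ξ ∈ U := hw ▸ hwU
  obtain ⟨V, hV, hξV, hVU⟩ := exists_isAffineOpen_mem_and_subset (X := C) (x := ξ) (U := π ⁻¹ᵁ U) hξU
  let g' : Fin c → Γ(C, V) := fun i => C.presheaf.map (homOfLE hVU).op ((π.app U).hom (g i))
  have hg' : ∀ i (y : C), y ∈ V → (y ∈ C.basicOpen (g' i) ↔ π y ∈ X.basicOpen (g i)) := fun i y hy => by
    show y ∈ C.basicOpen (C.presheaf.map (homOfLE hVU).op ((π.app U).hom (g i))) ↔ _
    rw [Scheme.basicOpen_res, ← Scheme.preimage_basicOpen]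
    exact ⟨fun h => h.2, fun h => ⟨hy, h⟩⟩
  letI : C.Over (Spec (CommRingCat.of k)) := ⟨π ≫ q⟩
  haveI : LocallyOfFiniteType (C ↘ Spec (CommRingCat.of k)) := inferInstanceAs (LocallyOfFiniteType (π ≫ q))
  obtain ⟨y, hηy, hyξ, hy, hd⟩ := exists_dimPt_le_add k h hV hξV g'
    fun i hi => (hU _ hξU).1 ⟨w, hw⟩ i ((hg' i ξ hξV).1 hi)
  have hyV : y ∈ V := hyξ.mem_open V.2 hξV
  have hyr : π y ∈ Set.range ι := (hU _ (hVU hyV)).2 fun i hi => hy i ((hg' i y hyV).2 hi)
  obtain rfl := hmax y hηy hyξ hyr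
  exact hd

end Groth.Agent.Desc44.KrullPts
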