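import Mathlib.AlgebraicGeometry.Cover.Open
import Mathlib.AlgebraicGeometry.Sites.MorphismProperty
import Mathlib.CategoryTheory.MorphismProperty.Local
import Mathlib.AlgebraicGeometry.Morphisms.OpenImmersion

/-!
# The largest open of the source on which a property, local at the source, holds
-/

universe u

open CategoryTheory CategoryTheory.Limits AlgebraicGeometry MorphismProperty

namespace Groth.Agent.Desc44

variable {Q : MorphismProperty Scheme.{u}} [Q.IsStableUnderBaseChange] [Q.ContainsIdentities]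
  [Q.IsStableUnderComposition]
variable (P : MorphismProperty Scheme.{u}) [P.IsLocalAtSource (Scheme.precoverage Q)]

/-- A property local at the source passes to the composition with any member of `Q`. -/
lemma comp_mem {U W Y : Scheme.{u}} (e : U ⟶ W) (he : Q e) (f : W ⟶ Y) (hf : P f) : P (e ≫ f) := by
  let 𝒰 : W.Cover (Scheme.precoverage Q) := Scheme.Cover.mkOfCovers (ULift.{u} Bool)
    (fun b => Bool.rec W U b.down) (fun b => match b with | ⟨true⟩ => e | ⟨false⟩ => 𝟙 W)
    (fun x => ⟨⟨false⟩, x, rfl⟩)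
    (fun b => match b with | ⟨true⟩ => he | ⟨false⟩ => Q.id_mem W)
  exact (IsLocalAtSource.iff_of_zeroHypercover (P := P) 𝒰).mp hf ⟨true⟩

/-- A property local at the source descends along a surjective member of `Q`. -/
lemma of_comp_surjective {U W Y : Scheme.{u}} (e : U ⟶ W) (he : Q e) [Surjective e] (f : W ⟶ Y)
    (hf : P (e ≫ f)) : P f := by
  let 𝒰 : W.Cover (Scheme.precoverage Q) := Scheme.Cover.mkOfCovers PUnit.{u+1}
    (fun _ => U) (fun _ => e)
    (fun x => ⟨⟨⟩, e.surjective x⟩) (fun _ => he)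
  exact IsLocalAtSource.of_zeroHypercover 𝒰 fun _ => hf

/-- The largest open of the source over which `P` holds. -/
theorem exists_largest (hopen : ∀ {A B : Scheme.{u}} (h : A ⟶ B) [IsOpenImmersion h], Q h)
    (hQopen : ∀ {A B : Scheme.{u}} (h : A ⟶ B), Q h → IsOpenMap h)
    {X Y : Scheme.{u}} (f : X ⟶ Y) :
    ∃ W : X.Opens, (P (W.ι ≫ f) ∧ ∀ W' : X.Opens, P (W'.ι ≫ f) → W' ≤ W) ∧
      ∀ (X' : Scheme.{u}) (g : X' ⟶ X), Q g → ∀ V : X'.Opens,
        (P (V.ι ≫ g ≫ f) ∧ ∀ V' : X'.Opens, P (V'.ι ≫ g ≫ f) → V' ≤ V) → V = g ⁻¹ᵁ W := by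
  let S := {W' : X.Opens // P (W'.ι ≫ f)}
  let W : X.Opens := ⨆ s : S, s.1
  have hW : P (W.ι ≫ f) := by
    let 𝒰 : W.toScheme.Cover (Scheme.precoverage Q) := Scheme.Cover.mkOfCovers S
      (fun s => s.1.toScheme) (fun s => X.homOfLE (le_iSup (fun t : S => t.1) s))
      (fun x => by
        obtain ⟨s, hs⟩ := TopologicalSpace.Opens.mem_iSup.mp x.2
        refine ⟨s, ⟨x.1, hs⟩, Subtype.ext ?_⟩
        simp)
      (fun s => hopen _)
    refine IsLocalAtSource.of_zeroHypercover 𝒰 fun s => ?_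
    change P (X.homOfLE (le_iSup (fun t : S => t.1) s) ≫ W.ι ≫ f)
    rw [Scheme.homOfLE_ι_assoc]
    exact s.2
  have hle : ∀ W' : X.Opens, P (W'.ι ≫ f) → W' ≤ W := fun W' h => le_iSup (fun t : S => t.1) ⟨W', h⟩
  refine ⟨W, ⟨hW, hle⟩, fun X' g hg V hV => le_antisymm ?_ ?_⟩
  · have he : Q (V.ι ≫ g) := Q.comp_mem _ _ (hopen _) hg
    let W0 : X.Opens := ⟨Set.range (V.ι ≫ g), (hQopen _ he).isOpen_range⟩
    let e : V.toScheme ⟶ W0.toScheme := IsOpenImmersion.lift W0.ι (V.ι ≫ g) (by rw [Scheme.Opens.range_ι]; rfl)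
    have hfac : e ≫ W0.ι = V.ι ≫ g := IsOpenImmersion.lift_fac _ _ _
    haveI : Surjective e := ⟨fun x => by
      obtain ⟨v, hv⟩ := x.2
      refine ⟨v, Subtype.ext ?_⟩
      rw [← hv, ← hfac]
      rfl⟩
    have heQ : Q e := by
      have hpb : IsPullback (𝟙 V.toScheme) e (V.ι ≫ g) W0.ι := by
        refine IsPullback.of_vert_isIso_mono ?_ |>.flip
        exact ⟨by rw [Category.id_comp, hfac]⟩
      exact MorphismProperty.of_isPullback hpb he
    have h0 : P (W0.ι ≫ f) := of_comp_surjective P e heQ _ (by rw [← Category.assoc, hfac, Category.assoc]; exact hV.1)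
    intro x hx
    exact hle W0 h0 ⟨⟨x, hx⟩, rfl⟩
  · refine hV.2 _ ?_
    have h2 := comp_mem P (g ∣_ W) (MorphismProperty.of_isPullback (isPullback_morphismRestrict g W).flip hg) _ hW
    rwa [morphismRestrict_ι_assoc] at h2

end Groth.Agent.Desc44
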