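import Mathlib.AlgebraicGeometry.Cover.Open
import Mathlib.AlgebraicGeometry.Sites.MorphismProperty
import Mathlib.CategoryTheory.MorphismProperty.Local
import Mathlib.AlgebraicGeometry.Morphisms.OpenImmersion

/-!
# The largest open of the target over which a property, local at the target, holds
-/

universe u

open CategoryTheory CategoryTheory.Limits AlgebraicGeometry MorphismProperty

namespace Groth.Agent.Desc44.Target

variable {Q : MorphismProperty Scheme.{u}} [Q.IsStableUnderBaseChange] [Q.ContainsIdentities]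
  [Q.IsStableUnderComposition]
variable (P : MorphismProperty Scheme.{u}) [P.IsLocalAtTarget (Scheme.precoverage Q)]

/-- A property local at the target is stable under base change by members of `Q`. -/
lemma of_isPullback_mem {A A' U W : Scheme.{u}} (e : U ⟶ W) (he : Q e) {h : A ⟶ W} {fst : A' ⟶ A}
    {snd : A' ⟶ U} (H : IsPullback fst snd h e) (hf : P h) : P snd := by
  let 𝒰 : W.Cover (Scheme.precoverage Q) := Scheme.Cover.mkOfCovers (ULift.{u} Bool)
    (fun b => Bool.rec W U b.down) (fun b => match b with | ⟨true⟩ => e | ⟨false⟩ => 𝟙 W)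
    (fun x => ⟨⟨false⟩, x, rfl⟩)
    (fun b => match b with | ⟨true⟩ => he | ⟨false⟩ => Q.id_mem W)
  exact IsLocalAtTarget.of_isPullback (P := P) 𝒰 ⟨true⟩ H hf

/-- A property local at the target descends along a surjective member of `Q`. -/
lemma of_isPullback_surjective {A A' U W : Scheme.{u}} (e : U ⟶ W) (he : Q e) [Surjective e]
    {h : A ⟶ W} {fst : A' ⟶ A} {snd : A' ⟶ U} (H : IsPullback fst snd h e) (hf : P snd) : P h := by
  haveI : P.RespectsIso := IsLocalAtTarget.toRespects (K := Scheme.precoverage Q)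
  let 𝒰 : W.Cover (Scheme.precoverage Q) := Scheme.Cover.mkOfCovers PUnit.{u+1}
    (fun _ => U) (fun _ => e)
    (fun x => ⟨⟨⟩, e.surjective x⟩) (fun _ => he)
  refine IsLocalAtTarget.of_zeroHypercover (P := P) 𝒰 fun _ => ?_
  have := H.isoPullback_inv_snd
  change P (pullback.snd h e)
  rw [← this, P.cancel_left_of_respectsIso]
  exact hf

/-- The image of a member of `Q` over which `P` holds lies in an open over which `P` holds. -/
lemma exists_open (hopen : ∀ {A B : Scheme.{u}} (h : A ⟶ B) [IsOpenImmersion h], Q h)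
    (hQopen : ∀ {A B : Scheme.{u}} (h : A ⟶ B), Q h → IsOpenMap h)
    {X Y Y' A : Scheme.{u}} {f : X ⟶ Y} {g : Y' ⟶ Y} {fst : A ⟶ X} {snd : A ⟶ Y'}
    (H : IsPullback fst snd f g) (hg : Q g) (hf : P snd) :
    ∃ W0 : Y.Opens, P (f ∣_ W0) ∧ Set.range g ⊆ (W0 : Set Y) := by
  let W0 : Y.Opens := ⟨Set.range g, (hQopen _ hg).isOpen_range⟩
  let e : Y' ⟶ W0.toScheme := IsOpenImmersion.lift W0.ι g (by rw [Scheme.Opens.range_ι]; rfl)
  have hfac : e ≫ W0.ι = g := IsOpenImmersion.lift_fac _ _ _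
  haveI : Surjective e := ⟨fun x => by
    obtain ⟨v, hv⟩ := x.2
    refine ⟨v, Subtype.ext ?_⟩
    rw [← hv, ← hfac]
    rfl⟩
  have heQ : Q e := by
    have hpb : IsPullback (𝟙 Y') e g W0.ι :=
      (IsPullback.of_vert_isIso_mono ⟨by rw [Category.id_comp, hfac]⟩).flip
    exact MorphismProperty.of_isPullback hpb hg
  refine ⟨W0, ?_, subset_rfl⟩
  have t : IsPullback (f ⁻¹ᵁ W0).ι (f ∣_ W0) f W0.ι := (isPullback_morphismRestrict f W0).flip
  let l : A ⟶ (f ⁻¹ᵁ W0).toScheme := t.lift fst (snd ≫ e) (by rw [Category.assoc, hfac, H.w])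
  refine of_isPullback_surjective P e heQ (fst := l) (snd := snd) ?_ hf
  refine IsPullback.of_right ?_ (t.lift_snd _ _ _) t
  rw [t.lift_fst, hfac]
  exact H

/-- The largest open of the target over which `P` holds, and its compatibility with base change by `Q`. -/
theorem exists_largest (hopen : ∀ {A B : Scheme.{u}} (h : A ⟶ B) [IsOpenImmersion h], Q h)
    (hQopen : ∀ {A B : Scheme.{u}} (h : A ⟶ B), Q h → IsOpenMap h)
    {X Y : Scheme.{u}} (f : X ⟶ Y) :
    ∃ W : Y.Opens, P (f ∣_ W) ∧ (∀ W₀ : Y.Opens, P (f ∣_ W₀) → W₀ ≤ W) ∧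
      (∀ (Y' : Scheme.{u}) (g : Y' ⟶ Y), Q g → P (pullback.snd f g) → Set.range g.base ⊆ (W : Set Y)) ∧
      (∀ (Y' : Scheme.{u}) (g : Y' ⟶ Y), Q g → ∀ W' : Y'.Opens, P (pullback.snd f g ∣_ W') →
        (∀ W₀ : Y'.Opens, P (pullback.snd f g ∣_ W₀) → W₀ ≤ W') → W' = g ⁻¹ᵁ W) := by
  haveI : P.RespectsIso := IsLocalAtTarget.toRespects (K := Scheme.precoverage Q)
  let S := {W' : Y.Opens // P (f ∣_ W')}
  let W : Y.Opens := ⨆ s : S, s.1
  have hle : ∀ W' : Y.Opens, P (f ∣_ W') → W' ≤ W := fun W' h => le_iSup (fun t : S => t.1) ⟨W', h⟩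
  have hW : P (f ∣_ W) := by
    let 𝒰 : W.toScheme.Cover (Scheme.precoverage Q) := Scheme.Cover.mkOfCovers S
      (fun s => s.1.toScheme) (fun s => Y.homOfLE (le_iSup (fun t : S => t.1) s))
      (fun x => by
        obtain ⟨s, hs⟩ := TopologicalSpace.Opens.mem_iSup.mp x.2
        refine ⟨s, ⟨x.1, hs⟩, Subtype.ext ?_⟩
        simp)
      (fun s => hopen _)
    refine IsLocalAtTarget.of_zeroHypercover (P := P) 𝒰 fun s => ?_
    change P (pullback.snd (f ∣_ W) (Y.homOfLE (le_iSup (fun t : S => t.1) s)))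
    have H : IsPullback (X.homOfLE (f.preimage_mono (le_iSup (fun t : S => t.1) s))) (f ∣_ s.1) (f ∣_ W)
        (Y.homOfLE (le_iSup (fun t : S => t.1) s)) := by
      refine IsPullback.of_right ?_ ?_ (isPullback_morphismRestrict f W).flip
      · rw [Scheme.homOfLE_ι, Scheme.homOfLE_ι]; exact (isPullback_morphismRestrict f s.1).flip
      · rw [← cancel_mono W.ι]
        simp only [Category.assoc, morphismRestrict_ι, Scheme.homOfLE_ι]
        exact Scheme.homOfLE_ι_assoc _ _ _
    rw [← H.isoPullback_inv_snd, P.cancel_left_of_respectsIso]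
    exact s.2
  have ha : ∀ {A Y' : Scheme.{u}} {g : Y' ⟶ Y} {fst : A ⟶ X} {snd : A ⟶ Y'},
      IsPullback fst snd f g → Q g → P snd → Set.range g ⊆ (W : Set Y) := by
    intro A Y' g fst snd H hg hf
    obtain ⟨W0, h0, h1⟩ := exists_open P hopen hQopen H hg hf
    exact h1.trans (hle W0 h0)
  refine ⟨W, hW, hle, fun Y' g hg h => ha (IsPullback.of_hasPullback f g) hg h, ?_⟩
  intro Y' g hg W' h1 h2
  refine le_antisymm ?_ ?_
  · have H := (isPullback_morphismRestrict (pullback.snd f g) W').flip.paste_horiz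
      (IsPullback.of_hasPullback f g)
    intro y hy
    exact ha H (Q.comp_mem _ _ (hopen _) hg) h1 ⟨⟨y, hy⟩, rfl⟩
  · refine h2 _ ?_
    have H := (isPullback_morphismRestrict (pullback.snd f g) (g ⁻¹ᵁ W)).flip.paste_horiz
      (IsPullback.of_hasPullback f g)
    rw [← morphismRestrict_ι] at H
    have t := (isPullback_morphismRestrict f W).flip
    let l := t.lift _ (pullback.snd f g ∣_ (g ⁻¹ᵁ W) ≫ g ∣_ W) (H.w.trans (Category.assoc _ _ _).symm)
    have H' := H
    rw [← t.lift_fst _ (pullback.snd f g ∣_ (g ⁻¹ᵁ W) ≫ g ∣_ W) (H.w.trans (Category.assoc _ _ _).symm)] at H'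
    exact of_isPullback_mem P (g ∣_ W) (MorphismProperty.of_isPullback (isPullback_morphismRestrict g W).flip hg)
      (IsPullback.of_right H' (t.lift_snd _ _ _) t) hW

end Groth.Agent.Desc44.Target
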