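import Groth.Agent.Desc44.ExtScalars
import Mathlib.RingTheory.Flat.Basic
import Mathlib.RingTheory.RingHom.Flat

/-! Effective descent for modules along a flat ring map, in the `ringModPF` language. -/

set_option autoImplicit false

open CategoryTheory Opposite ModuleCat TensorProduct
open scoped ChangeOfRings

universe u

namespace Groth.Agent.Desc44.ModDesc

variable {R S : Type u} [CommRing R] [CommRing S] [Algebra R S]

variable (R S) in
/-- the structure map -/
abbrev sm : CommRingCat.of R ⟶ CommRingCat.of S := CommRingCat.ofHom (algebraMap R S)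

variable (D : Desc.ringModPF.{u}.DescentData (fun _ : PUnit.{u + 1} => (sm R S).op))

/-- the underlying module -/
abbrev N : ModuleCat.{u} (CommRingCat.of S) := D.obj PUnit.unit

/-- the gluing map over `T` -/
noncomputable def H {T : CommRingCat.{u}} (φ₁ φ₂ : CommRingCat.of S ⟶ T) (h : sm R S ≫ φ₁ = sm R S ≫ φ₂) :
    Ext φ₁ (N D) ⟶ Ext φ₂ (N D) :=
  D.hom (sm R S ≫ φ₁).op (i₁ := PUnit.unit) (i₂ := PUnit.unit) φ₁.op φ₂.op (by rw [← op_comp])
    (by rw [← op_comp, h])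

theorem H_pull {T T' : CommRingCat.{u}} (φ₁ φ₂ : CommRingCat.of S ⟶ T) (h : sm R S ≫ φ₁ = sm R S ≫ φ₂) (g : T ⟶ T')
    (ψ₁ ψ₂ : CommRingCat.of S ⟶ T') (h₁ : φ₁ ≫ g = ψ₁) (h₂ : φ₂ ≫ g = ψ₂) (n : N D) :
    H D ψ₁ ψ₂ (by rw [← h₁, ← h₂, reassoc_of% h]) (tm ψ₁ (1 : T') n) =
      chg φ₂ g ψ₂ h₂ (N D) (H D φ₁ φ₂ h (tm φ₁ (1 : T) n)) := by
  rw [← pullHom_tm φ₁ φ₂ g ψ₁ ψ₂ h₁ h₂ (N D) (N D) (H D φ₁ φ₂ h) (by rw [← h₁, op_comp])
    (by rw [← h₂, op_comp]) n]
  refine congrArg (fun φ : Ext ψ₁ (N D) ⟶ Ext ψ₂ (N D) => φ (tm ψ₁ (1 : T') n)) ?_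
  exact (D.pullHom_hom g.op (sm R S ≫ φ₁).op (sm R S ≫ ψ₁).op (by rw [← op_comp, ← h₁, Category.assoc])
    φ₁.op φ₂.op (by rw [← op_comp]) (by rw [← op_comp, h]) ψ₁.op ψ₂.op (by rw [← op_comp, h₁]) (by rw [← op_comp, h₂])).symm

theorem H_self {T : CommRingCat.{u}} (φ : CommRingCat.of S ⟶ T) (x : Ext φ (N D)) : H D φ φ rfl x = x := by
  have e : H D φ φ rfl = 𝟙 (Ext φ (N D)) := D.hom_self (sm R S ≫ φ).op φ.op (by rw [← op_comp])
  rw [e]; rfl

theorem H_comp {T : CommRingCat.{u}} (φ₁ φ₂ φ₃ : CommRingCat.of S ⟶ T) (h₁₂ : sm R S ≫ φ₁ = sm R S ≫ φ₂)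
    (h₂₃ : sm R S ≫ φ₂ = sm R S ≫ φ₃) (x : Ext φ₁ (N D)) :
    H D φ₂ φ₃ h₂₃ (H D φ₁ φ₂ h₁₂ x) = H D φ₁ φ₃ (h₁₂.trans h₂₃) x := by
  have e := D.hom_comp (sm R S ≫ φ₁).op (i₁ := PUnit.unit) (i₂ := PUnit.unit) (i₃ := PUnit.unit)
    φ₁.op φ₂.op φ₃.op (by rw [← op_comp]) (by rw [← op_comp, h₁₂]) (by rw [← op_comp, h₁₂, h₂₃])
  have e' : H D φ₁ φ₂ h₁₂ ≫ H D φ₂ φ₃ h₂₃ = H D φ₁ φ₃ (h₁₂.trans h₂₃) := by
    refine Eq.trans ?_ e
    unfold H
    congr 2 <;> simp [h₁₂]
  exact congrArg (fun φ : Ext φ₁ (N D) ⟶ Ext φ₃ (N D) => φ x) e'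

/-- `N` as an `R`-module -/
local instance modN : Module R (N D) := Module.compHom _ (algebraMap R S)

local instance towerN : IsScalarTower R S (N D) :=
  ⟨fun r b n => by
    show (r • b) • n = algebraMap R S r • (b • n)
    rw [Algebra.smul_def, mul_smul]⟩

variable (R S) in
/-- `S ⊗_A S` -/
abbrev T₂ : CommRingCat.{u} := CommRingCat.of (S ⊗[R] S)

variable (R S) in
/-- left inclusion -/
noncomputable def l : CommRingCat.of S ⟶ T₂ R S :=
  CommRingCat.ofHom (Algebra.TensorProduct.includeLeftRingHom (R := R) (A := S) (B := S))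

variable (R S) in
/-- right inclusion -/
noncomputable def r : CommRingCat.of S ⟶ T₂ R S :=
  CommRingCat.ofHom (Algebra.TensorProduct.includeRight (R := R) (A := S) (B := S)).toRingHom

variable (R S) in
lemma lr : sm R S ≫ l R S = sm R S ≫ r R S := by
  ext x
  show algebraMap R S x ⊗ₜ[R] (1 : S) = (1 : S) ⊗ₜ[R] algebraMap R S x
  rw [Algebra.algebraMap_eq_smul_one, TensorProduct.smul_tmul]

/-- `(s ⊗ t) ⊗ n ↦ s ⊗ t n` -/
noncomputable def e : Ext (r R S) (N D) →+ S ⊗[R] (N D) :=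
  liftExt (r R S)
    (AddMonoidHom.flip
      { toFun := fun n => (LinearMap.lTensor S ((LinearMap.toSpanSingleton S (N D) n).restrictScalars R)).toAddMonoidHom
        map_zero' := by ext x; simp
        map_add' := fun m n => by
          ext x
          show LinearMap.lTensor S _ x = LinearMap.lTensor S _ x + LinearMap.lTensor S _ x
          rw [← LinearMap.add_apply, ← LinearMap.lTensor_add]
          congr 2; ext; simp })
    fun b t n => by
      show LinearMap.lTensor S _ ((r R S).hom b * t) = LinearMap.lTensor S _ t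
      induction t using TensorProduct.induction_on with
      | zero => simp
      | tmul x y =>
        show LinearMap.lTensor S _ (((1 : S) ⊗ₜ[R] b) * (x ⊗ₜ[R] y)) = _
        simp [Algebra.TensorProduct.tmul_mul_tmul, mul_smul, smul_comm b y n]
      | add x y hx hy => rw [mul_add, map_add, map_add, hx, hy]

lemma e_tm (x y : S) (n : N D) : e D (tm (r R S) (x ⊗ₜ[R] y : T₂ R S) n) = x ⊗ₜ[R] (y • n) := rfl

/-- additive maps out of `(S ⊗ S) ⊗ N` agree if they agree on pure tensors -/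
lemma hom_ext₂ {P : Type*} [AddCommGroup P] (F G : Ext (r R S) (N D) →+ P)
    (h : ∀ (x y : S) (n : N D), F (tm (r R S) (x ⊗ₜ[R] y : T₂ R S) n) = G (tm (r R S) (x ⊗ₜ[R] y : T₂ R S) n))
    (z : Ext (r R S) (N D)) : F z = G z := by
  induction z using ext_induction with
  | h0 => rw [map_zero, map_zero]
  | ht t n =>
    induction t using TensorProduct.induction_on with
    | zero =>
      rw [show tm (r R S) (0 : T₂ R S) n = 0 from tm_zero_left _ _, map_zero, map_zero]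
    | tmul x y => exact h x y n
    | add x y hx hy =>
      have e₁ : tm (r R S) (x + y : T₂ R S) n = tm (r R S) x n + tm (r R S) y n := tm_add_left _ _ _ _
      exact (congrArg F e₁).trans ((map_add F _ _).trans ((congrArg₂ (· + ·) hx hy).trans
        ((map_add G _ _).symm.trans (congrArg G e₁.symm))))
  | ha x y hx hy => rw [map_add, map_add, hx, hy]

/-- `s ⊗ n ↦ (s ⊗ 1) ⊗ n` -/
noncomputable def d : S ⊗[R] (N D) →+ Ext (r R S) (N D) :=
  TensorProduct.liftAddHom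
    { toFun := fun s =>
        { toFun := fun n => tm (r R S) (s ⊗ₜ[R] (1 : S) : T₂ R S) n
          map_zero' := tm_zero _ _
          map_add' := tm_add _ _ }
      map_zero' := by
        ext n
        show tm (r R S) ((0 : S) ⊗ₜ[R] (1 : S) : T₂ R S) n = 0
        rw [TensorProduct.zero_tmul, tm_eq_smul_one, zero_smul]
      map_add' := fun s t => by
        ext n
        show tm (r R S) ((s + t) ⊗ₜ[R] (1 : S) : T₂ R S) n =
          tm (r R S) (s ⊗ₜ[R] (1 : S) : T₂ R S) n + tm (r R S) (t ⊗ₜ[R] (1 : S) : T₂ R S) n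
        rw [TensorProduct.add_tmul]; exact tm_add_left _ _ _ _ }
    fun c s n => by
      show tm (r R S) ((c • s) ⊗ₜ[R] (1 : S) : T₂ R S) n = tm (r R S) (s ⊗ₜ[R] (1 : S) : T₂ R S) (algebraMap R S c • n)
      rw [← tm_balance]
      congr 1
      show _ = ((1 : S) ⊗ₜ[R] algebraMap R S c) * (s ⊗ₜ[R] (1 : S))
      rw [Algebra.TensorProduct.tmul_mul_tmul, one_mul, mul_one, TensorProduct.smul_tmul]
      congr 1
      rw [Algebra.smul_def, mul_one]

lemma d_e (x : Ext (r R S) (N D)) : d D (e D x) = x := by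
  induction x using ext_induction with
  | h0 => rw [map_zero, map_zero]
  | ht t n =>
    induction t using TensorProduct.induction_on with
    | zero => rw [tm_eq_smul_one, zero_smul, map_zero, map_zero]
    | tmul x y =>
      rw [e_tm]
      show tm (r R S) (x ⊗ₜ[R] (1 : S) : T₂ R S) (y • n) = _
      rw [← tm_balance]
      congr 1
      show ((1 : S) ⊗ₜ[R] y) * (x ⊗ₜ[R] (1 : S)) = _
      simp [Algebra.TensorProduct.tmul_mul_tmul]
    | add x y hx hy =>
      have e₁ : tm (r R S) (x + y : T₂ R S) n = tm (r R S) x n + tm (r R S) y n := by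
        exact tm_add_left _ _ _ _
      rw [e₁, map_add, map_add, hx, hy]
  | ha x y hx hy => rw [map_add, map_add, hx, hy]

lemma e_lsmul (s : S) (x : Ext (r R S) (N D)) : e D ((l R S).hom s • x) = s • e D x := by
  induction x using ext_induction with
  | h0 => simp
  | ht t n =>
    rw [tm_smul]
    induction t using TensorProduct.induction_on with
    | zero => rw [mul_zero, tm_eq_smul_one, zero_smul, map_zero, smul_zero]
    | tmul x y =>
      show e D (tm (r R S) ((s ⊗ₜ[R] (1 : S)) * (x ⊗ₜ[R] y) : T₂ R S) n) = _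
      rw [Algebra.TensorProduct.tmul_mul_tmul, one_mul, e_tm, e_tm, TensorProduct.smul_tmul', smul_eq_mul]
    | add x y hx hy =>
      have e₁ : ∀ z w : T₂ R S, tm (r R S) (z + w) n = tm (r R S) z n + tm (r R S) w n := fun z w => by
        exact tm_add_left _ _ _ _
      rw [mul_add, e₁, e₁, map_add, map_add, smul_add, hx, hy]
  | ha x y hx hy => rw [smul_add, map_add, map_add, smul_add, hx, hy]

/-- the coaction -/
noncomputable def ρ : N D →ₗ[S] S ⊗[R] (N D) where
  toFun n := e D (H D (l R S) (r R S) (lr R S) (tm (l R S) (1 : T₂ R S) n))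
  map_add' m n := by rw [tm_add, map_add, map_add]
  map_smul' s n := by
    rw [← tm_balance, tm_eq_smul_one, map_smul, mul_one, e_lsmul]
    rfl

lemma H_tm_one (n : N D) :
    H D (l R S) (r R S) (lr R S) (tm (l R S) (1 : T₂ R S) n) = d D (ρ D n) := (d_e D _).symm

/-- multiplication `S ⊗ N → N` -/
noncomputable def act : S ⊗[R] (N D) →ₗ[R] N D :=
  TensorProduct.lift ((LinearMap.lsmul S (N D)).restrictScalars₁₂ R R)

@[simp] lemma act_tmul (s : S) (n : N D) : act D (s ⊗ₜ[R] n) = s • n := rfl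

theorem act_ρ (n : N D) : act D (ρ D n) = n := by
  let m : T₂ R S ⟶ CommRingCat.of S := CommRingCat.ofHom (Algebra.TensorProduct.lmul' R (S := S)).toRingHom
  have h₁ : l R S ≫ m = 𝟙 (CommRingCat.of S) := by ext x; simp [l, m]
  have h₂ : r R S ≫ m = 𝟙 (CommRingCat.of S) := by ext x; simp [r, m]
  have e₀ := (H_pull D (l R S) (r R S) (lr R S) m (𝟙 (CommRingCat.of S)) (𝟙 (CommRingCat.of S)) h₁ h₂ n)
  rw [H_self] at e₀
  let κ : Ext (𝟙 (CommRingCat.of S)) (N D) →+ N D := liftExt (𝟙 (CommRingCat.of S)) (smulAddHom S (N D)) fun b s x => by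
    show (b * s) • x = s • (b • x)
    rw [mul_comm, mul_smul]
  have e₁ := congrArg κ e₀
  have key : ∀ x : Ext (r R S) (N D), κ (chg (r R S) m (𝟙 (CommRingCat.of S)) h₂ (N D) x) = act D (e D x) := by
    intro x
    induction x using ext_induction with
    | h0 => simp
    | ht t k =>
      rw [chg_tm]
      show m.hom t • k = _
      induction t using TensorProduct.induction_on with
      | zero => rw [map_zero, zero_smul, tm_eq_smul_one, zero_smul, map_zero, map_zero]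
      | tmul x y =>
        rw [e_tm, act_tmul, ← mul_smul]
        simp [m]
      | add x y hx hy =>
        have e₂ : tm (r R S) (x + y : T₂ R S) k = tm (r R S) x k + tm (r R S) y k := by
          exact tm_add_left _ _ _ _
        rw [map_add, add_smul, e₂, map_add, map_add, hx, hy]
    | ha x y hx hy => simp [hx, hy]
  rw [key] at e₁
  exact e₁.symm.trans (one_smul S n)

variable (R S) in
/-- `S ⊗ (S ⊗ S)` -/
abbrev T₃ : CommRingCat.{u} := CommRingCat.of (S ⊗[R] (S ⊗[R] S))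

variable (R S) in
/-- `(x ⊗ y) ↦ x ⊗ y ⊗ 1` -/
noncomputable def p₁₂ : T₂ R S ⟶ T₃ R S :=
  CommRingCat.ofHom (Algebra.TensorProduct.map (AlgHom.id R S)
    ((Algebra.TensorProduct.includeLeft : S →ₐ[R] S ⊗[R] S))).toRingHom

variable (R S) in
/-- `(x ⊗ y) ↦ x ⊗ 1 ⊗ y` -/
noncomputable def p₁₃ : T₂ R S ⟶ T₃ R S :=
  CommRingCat.ofHom (Algebra.TensorProduct.map (AlgHom.id R S)
    ((Algebra.TensorProduct.includeRight : S →ₐ[R] S ⊗[R] S))).toRingHom

variable (R S) in
/-- `(x ⊗ y) ↦ 1 ⊗ x ⊗ y` -/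
noncomputable def p₂₃ : T₂ R S ⟶ T₃ R S :=
  CommRingCat.ofHom ((Algebra.TensorProduct.includeRight : (S ⊗[R] S) →ₐ[R] S ⊗[R] (S ⊗[R] S))).toRingHom

variable (R S) in
/-- last factor -/
noncomputable def q₃ : CommRingCat.of S ⟶ T₃ R S := r R S ≫ p₁₃ R S

/-- `(x ⊗ y ⊗ z) ⊗ n ↦ x ⊗ y ⊗ z n` -/
noncomputable def e₃ : Ext (q₃ R S) (N D) →+ S ⊗[R] (S ⊗[R] (N D)) :=
  liftExt (q₃ R S)
    (AddMonoidHom.flip
      { toFun := fun n => (LinearMap.lTensor S (LinearMap.lTensor S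
          ((LinearMap.toSpanSingleton S (N D) n).restrictScalars R))).toAddMonoidHom
        map_zero' := by ext x; simp
        map_add' := fun m n => by
          ext x
          show LinearMap.lTensor S (LinearMap.lTensor S _) x =
            LinearMap.lTensor S (LinearMap.lTensor S _) x + LinearMap.lTensor S (LinearMap.lTensor S _) x
          rw [← LinearMap.add_apply, ← LinearMap.lTensor_add, ← LinearMap.lTensor_add]
          congr 3; ext; simp })
    fun b t n => by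
      show LinearMap.lTensor S _ ((q₃ R S).hom b * t) = LinearMap.lTensor S _ t
      induction t using TensorProduct.induction_on with
      | zero => simp
      | tmul x z =>
        show LinearMap.lTensor S _ (((1 : S) ⊗ₜ[R] ((1 : S) ⊗ₜ[R] b)) * (x ⊗ₜ[R] z)) = _
        induction z using TensorProduct.induction_on with
        | zero => simp
        | tmul y w => simp [Algebra.TensorProduct.tmul_mul_tmul, mul_smul, smul_comm b w n]
        | add y w hy hw => simp only [TensorProduct.tmul_add, mul_add, map_add, hy, hw]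
      | add x y hx hy => rw [mul_add, map_add, map_add, hx, hy]

lemma e₃_tm (x y z : S) (n : N D) :
    e₃ D (tm (q₃ R S) (x ⊗ₜ[R] (y ⊗ₜ[R] z) : T₃ R S) n) = x ⊗ₜ[R] (y ⊗ₜ[R] (z • n)) := rfl

lemma e₃_chg₁₃ (x : Ext (r R S) (N D)) :
    e₃ D (chg (r R S) (p₁₃ R S) (q₃ R S) rfl (N D) x) =
      LinearMap.lTensor S (TensorProduct.mk R S (N D) 1) (e D x) :=
  hom_ext₂ D ((e₃ D).comp (chg (r R S) (p₁₃ R S) (q₃ R S) rfl (N D)))
    ((LinearMap.lTensor S (TensorProduct.mk R S (N D) 1)).toAddMonoidHom.comp (e D))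
    (fun _ _ _ => rfl) x

lemma e₃_smul_chg₂₃ (s t : S) (h₂ : r R S ≫ p₂₃ R S = q₃ R S) (x : Ext (r R S) (N D)) :
    e₃ D ((p₁₂ R S).hom (s ⊗ₜ[R] t : T₂ R S) • chg (r R S) (p₂₃ R S) (q₃ R S) h₂ (N D) x) =
      s ⊗ₜ[R] (t • e D x) :=
  hom_ext₂ D
    ((e₃ D).comp ((DistribSMul.toAddMonoidHom (Ext (q₃ R S) (N D)) ((p₁₂ R S).hom (s ⊗ₜ[R] t : T₂ R S))).comp
      (chg (r R S) (p₂₃ R S) (q₃ R S) h₂ (N D))))
    (((TensorProduct.mk R S (S ⊗[R] N D) s).toAddMonoidHom.comp
      (DistribSMul.toAddMonoidHom (S ⊗[R] N D) t)).comp (e D))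
    (fun x y n => by
      show e₃ D (tm (q₃ R S) ((s ⊗ₜ[R] (t ⊗ₜ[R] (1 : S))) * ((1 : S) ⊗ₜ[R] (x ⊗ₜ[R] y)) : T₃ R S) n) = s ⊗ₜ[R] (t • e D (tm (r R S) (x ⊗ₜ[R] y : T₂ R S) n))
      rw [Algebra.TensorProduct.tmul_mul_tmul, Algebra.TensorProduct.tmul_mul_tmul, mul_one, one_mul, e₃_tm, e_tm,
        TensorProduct.smul_tmul', smul_eq_mul]) x

theorem coassoc (n : N D) :
    LinearMap.lTensor S ((ρ D).restrictScalars R) (ρ D n) =
      LinearMap.lTensor S (TensorProduct.mk R S (N D) 1) (ρ D n) := by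
  have c₁ : l R S ≫ p₁₃ R S = l R S ≫ p₁₂ R S := rfl
  have c₂ : l R S ≫ p₂₃ R S = r R S ≫ p₁₂ R S := rfl
  have c₃ : r R S ≫ p₂₃ R S = q₃ R S := rfl
  have h23 : sm R S ≫ r R S ≫ p₁₂ R S = sm R S ≫ q₃ R S := by
    rw [← c₂, ← c₃, reassoc_of% (lr R S)]
  have h12 : sm R S ≫ l R S ≫ p₁₂ R S = sm R S ≫ r R S ≫ p₁₂ R S := by
    rw [reassoc_of% (lr R S)]
  have h13 := H_pull D (l R S) (r R S) (lr R S) (p₁₃ R S) (l R S ≫ p₁₂ R S) (q₃ R S) c₁ rfl n
  rw [← H_comp D (l R S ≫ p₁₂ R S) (r R S ≫ p₁₂ R S) (q₃ R S) h12 h23,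
    H_pull D (l R S) (r R S) (lr R S) (p₁₂ R S) _ _ rfl rfl n] at h13
  have h' := congrArg (e₃ D) h13
  rw [e₃_chg₁₃] at h'
  refine Eq.trans ?_ h'
  show LinearMap.lTensor S ((ρ D).restrictScalars R) (e D (H D (l R S) (r R S) (lr R S) (tm (l R S) (1 : T₂ R S) n))) = _
  generalize H D (l R S) (r R S) (lr R S) (tm (l R S) (1 : T₂ R S) n) = x
  exact hom_ext₂ D ((LinearMap.lTensor S ((ρ D).restrictScalars R)).toAddMonoidHom.comp (e D))
    ((e₃ D).comp ((H D (r R S ≫ p₁₂ R S) (q₃ R S) h23).hom.toAddMonoidHom.comp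
      (chg (r R S) (p₁₂ R S) (r R S ≫ p₁₂ R S) rfl (N D))))
    (fun x y k => by
      show LinearMap.lTensor S _ (e D (tm (r R S) (x ⊗ₜ[R] y : T₂ R S) k)) =
        e₃ D (H D (r R S ≫ p₁₂ R S) (q₃ R S) h23
          (chg (r R S) (p₁₂ R S) (r R S ≫ p₁₂ R S) rfl (N D) (tm (r R S) (x ⊗ₜ[R] y : T₂ R S) k)))
      rw [chg_tm, tm_eq_smul_one (r R S ≫ p₁₂ R S), map_smul,
        H_pull D (l R S) (r R S) (lr R S) (p₂₃ R S) (r R S ≫ p₁₂ R S) (q₃ R S) c₂ c₃ k,
        e₃_smul_chg₂₃, e_tm, LinearMap.lTensor_tmul]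
      show x ⊗ₜ[R] (ρ D (y • k)) = _
      rw [map_smul]; rfl) x

/-- the descended module -/
noncomputable def M₀ : Submodule R (N D) :=
  LinearMap.ker ((ρ D).restrictScalars R - TensorProduct.mk R S (N D) 1)

lemma mem_M₀ {m : N D} : m ∈ M₀ D ↔ ρ D m = (1 : S) ⊗ₜ[R] m := by
  rw [M₀, LinearMap.mem_ker, LinearMap.sub_apply, sub_eq_zero]
  rfl

/-- `S ⊗ M₀ → N` -/
noncomputable def μ : S ⊗[R] (M₀ D) →ₗ[R] N D := act D ∘ₗ LinearMap.lTensor S (M₀ D).subtype

lemma ρ_μ (y : S ⊗[R] (M₀ D)) : ρ D (μ D y) = LinearMap.lTensor S (M₀ D).subtype y := by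
  induction y using TensorProduct.induction_on with
  | zero => simp
  | tmul s m =>
    show ρ D (s • (m : N D)) = s ⊗ₜ[R] (m : N D)
    rw [map_smul, (mem_M₀ D).1 m.2, TensorProduct.smul_tmul', smul_eq_mul, mul_one]
  | add x y hx hy => simp [hx, hy]

theorem μ_bijective [Module.Flat R S] : Function.Bijective (μ D) := by
  constructor
  · intro x y h
    apply Module.Flat.lTensor_preserves_injective_linearMap (M := S) _ (M₀ D).injective_subtype
    rw [← ρ_μ, ← ρ_μ, h]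
  · intro n
    have hex := Module.Flat.lTensor_exact S
      (LinearMap.exact_subtype_ker_map ((ρ D).restrictScalars R - TensorProduct.mk R S (N D) 1))
    obtain ⟨y, hy⟩ := (hex (ρ D n)).1 (by
      rw [LinearMap.lTensor_sub, LinearMap.sub_apply, sub_eq_zero]
      exact coassoc D n)
    exact ⟨y, (congrArg (act D) hy).trans (act_ρ D n)⟩

/-- the descended module as an object -/
noncomputable abbrev Mo : ModuleCat.{u} (CommRingCat.of R) := ModuleCat.of R (M₀ D)

/-- inclusion of the descended module -/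
noncomputable def incl : Mo D →+ N D := (M₀ D).subtype.toAddMonoidHom

lemma incl_smul (c : R) (m : Mo D) : incl D (c • m) = algebraMap R S c • incl D m := rfl

/-- `Ext` to tensor product -/
noncomputable def toTensor : Ext (sm R S) (Mo D) →+ S ⊗[R] (M₀ D) :=
  liftExt (sm R S)
    { toFun := fun s => (TensorProduct.mk R S (M₀ D) s).toAddMonoidHom
      map_zero' := by ext m; simp
      map_add' := fun s t => by ext m; simp [TensorProduct.add_tmul] }
    fun c s m => by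
      show (algebraMap R S c * s) ⊗ₜ[R] m = s ⊗ₜ[R] (c • m : M₀ D)
      rw [← Algebra.smul_def, TensorProduct.smul_tmul]

lemma toTensor_surjective : Function.Surjective (toTensor D) := by
  intro y
  induction y using TensorProduct.induction_on with
  | zero => exact ⟨0, map_zero _⟩
  | tmul s m => exact ⟨tm (sm R S) (M := Mo D) (s : CommRingCat.of S) m, rfl⟩
  | add x y hx hy =>
    obtain ⟨a, rfl⟩ := hx
    obtain ⟨b, rfl⟩ := hy
    exact ⟨a + b, map_add _ _ _⟩

/-- back -/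
noncomputable def ofTensor : S ⊗[R] (M₀ D) →+ Ext (sm R S) (Mo D) :=
  TensorProduct.liftAddHom
    { toFun := fun s =>
        { toFun := fun m => tm (sm R S) (M := Mo D) (s : CommRingCat.of S) m
          map_zero' := tm_zero _ _
          map_add' := tm_add (sm R S) (M := Mo D) _ }
      map_zero' := by ext m; exact tm_zero_left _ _
      map_add' := fun s t => by ext m; exact tm_add_left _ _ _ _ }
    fun c s m => by
      show tm (sm R S) (M := Mo D) ((c • s : S) : CommRingCat.of S) m = _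
      rw [Algebra.smul_def]
      exact tm_balance (sm R S) (M := Mo D) c s m

lemma ofTensor_toTensor (x : Ext (sm R S) (Mo D)) : ofTensor D (toTensor D x) = x := by
  induction x using ext_induction with
  | h0 => rw [map_zero, map_zero]
  | ht s m => rfl
  | ha x y hx hy => rw [map_add, map_add, hx, hy]

/-- the comparison map -/
noncomputable def cmp : Ext (sm R S) (Mo D) ⟶ N D :=
  @ConcreteCategory.ofHom (ModuleCat.{u} (CommRingCat.of S)) _ _ _ _ _ (Ext (sm R S) (Mo D)) (N D)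
   ({ toFun := fun x => μ D (toTensor D x)
      map_add' := fun x y => by rw [map_add, map_add]
      map_smul' := fun b x => by
        induction x using ext_induction with
        | h0 => simp
        | ht s m =>
          rw [tm_smul]
          exact mul_smul b s (m.1 : N D)
        | ha x y hx hy => simp only [smul_add, map_add, hx, hy, RingHom.id_apply] at * } :
      ↑(Ext (sm R S) (Mo D)) →ₗ[CommRingCat.of S] ↑(N D))

lemma cmp_tm (m : Mo D) : cmp D (tm (sm R S) 1 m) = incl D m := one_smul S _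

theorem isIso_cmp (hμ : Function.Bijective (μ D)) : IsIso (cmp D) := by
  rw [ConcreteCategory.isIso_iff_bijective]
  refine hμ.comp ⟨fun x y h => ?_, toTensor_surjective D⟩
  rw [← ofTensor_toTensor D x, h, ofTensor_toTensor]

theorem H_incl {T : CommRingCat.{u}} (φ₁ φ₂ : CommRingCat.of S ⟶ T) (h : sm R S ≫ φ₁ = sm R S ≫ φ₂)
    (m : Mo D) : H D φ₁ φ₂ h (tm φ₁ (1 : T) (incl D m)) = tm φ₂ (1 : T) (incl D m) := by
  letI alg : Algebra R T := (φ₁.hom.comp (algebraMap R S)).toAlgebra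
  let α₁ : S →ₐ[R] T := { φ₁.hom with commutes' := fun c => rfl }
  let α₂ : S →ₐ[R] T :=
    { φ₂.hom with commutes' := fun c => (congrArg (fun ψ => ψ.hom c) h).symm }
  let g : T₂ R S ⟶ T := CommRingCat.ofHom (Algebra.TensorProduct.productMap α₁ α₂).toRingHom
  have g₁ : l R S ≫ g = φ₁ := by ext x; simp [l, g, α₁]
  have g₂ : r R S ≫ g = φ₂ := by ext x; simp [r, g, α₂]
  have hm : H D (l R S) (r R S) (lr R S) (tm (l R S) (1 : T₂ R S) (incl D m)) =
      tm (r R S) (1 : T₂ R S) (incl D m) := by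
    rw [H_tm_one, show ρ D (incl D m) = (1 : S) ⊗ₜ[R] incl D m from (mem_M₀ D).1 m.2]
    rfl
  rw [H_pull D (l R S) (r R S) (lr R S) g φ₁ φ₂ g₁ g₂, hm, chg_tm, map_one]

theorem effective_of_bijective (hμ : Function.Bijective (μ D)) : ∃ M : ModuleCat.{u} R,
    Nonempty ((Desc.ringModPF.{u}.toDescentData (fun _ : PUnit.{u + 1} => (sm R S).op)).obj M ≅ D) := by
  haveI := isIso_cmp D hμ
  refine ⟨Mo D, ⟨Pseudofunctor.DescentData.isoMk (fun _ => (asIso (cmp D) : Ext (sm R S) (Mo D) ≅ N D)) ?_⟩⟩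
  rintro Y q ⟨⟩ ⟨⟩ f₁ f₂ hf₁ hf₂
  obtain ⟨T⟩ := Y
  obtain ⟨φ₁, rfl⟩ : ∃ φ : CommRingCat.of S ⟶ T, φ.op = f₁ := ⟨f₁.unop, rfl⟩
  obtain ⟨φ₂, rfl⟩ : ∃ φ : CommRingCat.of S ⟶ T, φ.op = f₂ := ⟨f₂.unop, rfl⟩
  obtain rfl : q = (sm R S ≫ φ₁).op := hf₁.symm
  have h : sm R S ≫ φ₁ = sm R S ≫ φ₂ := (congrArg Quiver.Hom.unop hf₂).symm
  have w₁ : (sm R S).op.op.toLoc ≫ φ₁.op.op.toLoc = (sm R S ≫ φ₁).op.op.toLoc := rfl
  have w₂ : (sm R S).op.op.toLoc ≫ φ₂.op.op.toLoc = (sm R S ≫ φ₁).op.op.toLoc := by rw [h]; rfl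
  show (extendScalars φ₁.hom).map (cmp D) ≫ H D φ₁ φ₂ h =
    (mcInv (sm R S) φ₁ (sm R S ≫ φ₁) (Mo D) w₁ ≫ mcHom (sm R S) φ₂ (sm R S ≫ φ₁) (Mo D) w₂) ≫
      (extendScalars φ₂.hom).map (cmp D)
  refine hom_ext_tm φ₁ fun x => ?_
  induction x using ext_induction with
  | h0 => rw [tm_zero, map_zero, map_zero]
  | ha x y hx hy => rw [tm_add, map_add, map_add, hx, hy]
  | ht s m =>
    have key : ∀ (F : Ext φ₁ (Ext (sm R S) (Mo D)) ⟶ Ext φ₂ (N D)),
        F (tm φ₁ (1 : T) (tm (sm R S) s m)) = φ₁.hom s • F (tm φ₁ (1 : T) (tm (sm R S) 1 m)) := fun F => by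
      rw [← map_smul, ← tm_eq_smul_one φ₁, tm_eq_smul_one (sm R S) s, ← tm_balance, mul_one]
    rw [key, key]
    congr 1
    rw [ConcreteCategory.comp_apply, ExtendScalars.map_tmul, cmp_tm]
    refine (H_incl D φ₁ φ₂ h m).trans ?_
    rw [ConcreteCategory.comp_apply,
      ConcreteCategory.comp_apply, mapComp'_inv_tm (sm R S) φ₁ _ rfl, mapComp'_hom_tm (sm R S) φ₂ _ h.symm]
    erw [ExtendScalars.map_tmul]
    rw [cmp_tm]
    rfl

theorem effective [Module.Flat R S] : ∃ M : ModuleCat.{u} R,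
    Nonempty ((Desc.ringModPF.{u}.toDescentData (fun _ : PUnit.{u + 1} => (sm R S).op)).obj M ≅ D) :=
  effective_of_bijective D (μ_bijective D)

end Groth.Agent.Desc44.ModDesc
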