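import Mathlib
import Groth.Agent.Desc44.CokerExt

/-! Kaehler differentials of power series rings over algebraically closed fields of positive
characteristic, and of their hypersurface quotients. -/

set_option autoImplicit false

universe u

open MvPowerSeries CategoryTheory

noncomputable section

namespace Groth.Agent.Desc44.PSKaehler

variable {k : Type u} [Field k] {n : ℕ}

/-- The exponent of a residue vector. -/
def exp (p : ℕ) (e : Fin n → Fin p) : Fin n →₀ ℕ := Finsupp.equivFunOnFinite.symm fun i => (e i : ℕ)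

theorem exists_decomp [IsAlgClosed k] (p : ℕ) [Fact p.Prime] [CharP k p] (g : MvPowerSeries (Fin n) k) :
    ∃ h : (Fin n → Fin p) → MvPowerSeries (Fin n) k,
      g = ∑ e, h e ^ p * monomial (exp p e) 1 := by
  classical
  have hp : p.Prime := Fact.out
  choose r hr using fun a : k => IsAlgClosed.exists_pow_nat_eq a hp.pos
  let h : (Fin n → Fin p) → MvPowerSeries (Fin n) k := fun e m => r (coeff (p • m + exp p e) g)
  refine ⟨h, MvPowerSeries.ext fun m => ?_⟩
  let e₀ : Fin n → Fin p := fun i => ⟨m i % p, Nat.mod_lt _ hp.pos⟩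
  have hpow : ∀ e (d : Fin n →₀ ℕ), (∃ i, ¬ p ∣ d i) → coeff d (h e ^ p) = 0 := by
    rintro e d ⟨i, hi⟩
    rw [← map_frobenius_expand p hp.ne_zero, coeff_map, coeff_expand_of_not_dvd p hp.ne_zero _ hi, map_zero]
  rw [map_sum, Finset.sum_eq_single e₀]
  · let d : Fin n →₀ ℕ := Finsupp.equivFunOnFinite.symm fun i => m i / p
    have hm : m = p • d + exp p e₀ := Finsupp.ext fun i => by
      simp [d, exp, e₀, Nat.div_add_mod]
    rw [hm, coeff_add_mul_monomial, mul_one, ← map_frobenius_expand p hp.ne_zero, coeff_map,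
      coeff_expand_smul, frobenius_def]
    exact (hr _).symm
  · intro e _ he
    rw [coeff_mul_monomial]
    split_ifs with hle
    · obtain ⟨i, hi⟩ : ∃ i, e i ≠ e₀ i := by
        by_contra! hc
        exact he (funext hc)
      rw [hpow e _ ⟨i, fun hd => hi (Fin.ext ?_)⟩, zero_mul]
      have h1 : (exp p e) i ≤ m i := hle i
      rw [Finsupp.tsub_apply] at hd
      simp only [exp, Finsupp.coe_equivFunOnFinite_symm] at h1 hd
      show (e i : ℕ) = m i % p
      have h2 : (e i : ℕ) % p = m i % p := (Nat.modEq_iff_dvd' h1).2 hd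
      rwa [Nat.mod_eq_of_lt (e i).2] at h2
    · rfl
  · exact fun h => absurd (Finset.mem_univ _) h

variable {M : Type u} [AddCommGroup M] [Module k M] [Module (MvPowerSeries (Fin n) k) M]
  [IsScalarTower k (MvPowerSeries (Fin n) k) M]

theorem derivation_apply [IsAlgClosed k] (p : ℕ) [Fact p.Prime] [CharP k p]
    (D : Derivation k (MvPowerSeries (Fin n) k) M) (g : MvPowerSeries (Fin n) k) :
    D g = ∑ i, pderiv k i g • D (X i) := by
  classical
  have hp : (p : MvPowerSeries (Fin n) k) = 0 := by
    rw [← map_natCast (C (σ := Fin n) (R := k)), CharP.cast_eq_zero, map_zero]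
  have hz : ∀ h : MvPowerSeries (Fin n) k, D (h ^ p) = 0 := fun h => by
    rw [Derivation.leibniz_pow, ← Nat.cast_smul_eq_nsmul (MvPowerSeries (Fin n) k), hp, zero_smul]
  have hz' : ∀ (h : MvPowerSeries (Fin n) k) (i : Fin n), pderiv k i (h ^ p) = 0 := fun h i => by
    rw [Derivation.leibniz_pow, ← Nat.cast_smul_eq_nsmul (MvPowerSeries (Fin n) k), hp, zero_smul]
  obtain ⟨h, rfl⟩ := exists_decomp p g
  have key : ∀ q : MvPolynomial (Fin n) k, D (q : MvPowerSeries (Fin n) k) =
      ∑ i, pderiv k i (q : MvPowerSeries (Fin n) k) • D (X i) := by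
    intro q
    induction q using MvPolynomial.induction_on with
    | C a =>
      rw [MvPolynomial.coe_C]
      have : D (C (σ := Fin n) a) = 0 := D.map_algebraMap a
      rw [this]
      exact (Finset.sum_eq_zero fun i _ => by rw [pderiv_C, zero_smul]).symm
    | add a b ha hb =>
      rw [MvPolynomial.coe_add, map_add, ha, hb, ← Finset.sum_add_distrib]
      exact Finset.sum_congr rfl fun i _ => by rw [map_add, add_smul]
    | mul_X a j ha =>
      rw [MvPolynomial.coe_mul, MvPolynomial.coe_X, Derivation.leibniz, ha, Finset.smul_sum]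
      simp only [Derivation.leibniz, smul_eq_mul, pderiv_X, add_smul, Finset.sum_add_distrib, mul_smul]
      congr 1
      rw [Finset.sum_eq_single j]
      · simp
      · intro b _ hb
        simp [Pi.single_apply, Ne.symm hb]
      · exact fun h => absurd (Finset.mem_univ _) h
  have hmono : ∀ e : Fin n →₀ ℕ, D (monomial e (1 : k)) = ∑ i, pderiv k i (monomial e (1 : k)) • D (X i) := by
    intro e
    rw [← MvPolynomial.coe_monomial]
    exact key _
  simp only [map_sum, Finset.sum_smul]
  rw [Finset.sum_comm]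
  refine Finset.sum_congr rfl fun e _ => ?_
  rw [Derivation.leibniz, hz, smul_zero, add_zero, hmono, Finset.smul_sum]
  exact Finset.sum_congr rfl fun i _ => by
    rw [Derivation.leibniz, hz', smul_zero, add_zero, smul_eq_mul, mul_smul]

theorem span_derivations_eq [IsAlgClosed k] (p : ℕ) [Fact p.Prime] [CharP k p] (f : MvPowerSeries (Fin n) k) :
    Ideal.span {g | ∃ D : Derivation k (MvPowerSeries (Fin n) k) (MvPowerSeries (Fin n) k), g = D f} =
      Ideal.span (Set.range fun i => pderiv k i f) := by
  refine le_antisymm (Ideal.span_le.2 ?_) (Ideal.span_mono ?_)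
  · rintro _ ⟨D, rfl⟩
    rw [SetLike.mem_coe, derivation_apply p D f]
    exact Ideal.sum_mem _ fun i _ => Ideal.mul_mem_right _ _ (Ideal.subset_span ⟨i, rfl⟩)
  · rintro _ ⟨i, rfl⟩
    exact ⟨pderiv k i, rfl⟩

/-- a power series divisible by two variables' powers after multiplication lies in the ideal -/
theorem mem_span_of_mul_pow {f a : MvPowerSeries (Fin n) k} (hf : f ≠ 0) {i j : Fin n} (hij : i ≠ j) (N : ℕ)
    (hi : a * X i ^ N ∈ Ideal.span {f}) (hj : a * X j ^ N ∈ Ideal.span {f}) : a ∈ Ideal.span {f} := by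
  classical
  obtain ⟨b, hb⟩ := Ideal.mem_span_singleton'.1 hi
  obtain ⟨c, hc⟩ := Ideal.mem_span_singleton'.1 hj
  have h1 : b * X j ^ N = c * X i ^ N := mul_right_cancel₀ hf (by
    rw [mul_assoc, mul_comm _ f, ← mul_assoc, hb, mul_right_comm c, hc]; ring)
  have h2 : X i ^ N ∣ b := by
    rw [X_pow_dvd_iff]
    intro m hm
    have := congrArg (coeff (m + Finsupp.single j N)) h1
    rw [X_pow_eq, coeff_add_mul_monomial, mul_one, X_pow_eq, coeff_mul_monomial, if_neg] at this
    · exact this
    · intro hle
      have := hle i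
      simp [hij.symm] at this
      omega
  obtain ⟨b', rfl⟩ := h2
  refine Ideal.mem_span_singleton'.2 ⟨b', mul_right_cancel₀ (pow_ne_zero N ?_) (?_ : b' * f * X i ^ N = a * X i ^ N)⟩
  · intro h0
    have := congrArg (coeff (Finsupp.single i 1)) h0
    rw [coeff_index_single_self_X, map_zero] at this
    exact one_ne_zero this
  · rw [← hb]; ring

/-- The map presenting the differentials of a hypersurface. -/
theorem ext_hypersurface [IsAlgClosed k] (p : ℕ) [Fact p.Prime] [CharP k p] (f : MvPowerSeries (Fin n) k)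
    (hreg : ∀ a : MvPowerSeries (Fin n) k, (∀ i, a * pderiv k i f ∈ Ideal.span {f}) → a ∈ Ideal.span {f}) :
    Subsingleton (Abelian.Ext
        (ModuleCat.of (MvPowerSeries (Fin n) k ⧸ Ideal.span {f})
          (KaehlerDifferential k (MvPowerSeries (Fin n) k ⧸ Ideal.span {f})))
        (ModuleCat.of (MvPowerSeries (Fin n) k ⧸ Ideal.span {f}) (MvPowerSeries (Fin n) k ⧸ Ideal.span {f})) 2) ∧
      Nonempty (Abelian.Ext
        (ModuleCat.of (MvPowerSeries (Fin n) k ⧸ Ideal.span {f})
          (KaehlerDifferential k (MvPowerSeries (Fin n) k ⧸ Ideal.span {f})))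
        (ModuleCat.of (MvPowerSeries (Fin n) k ⧸ Ideal.span {f}) (MvPowerSeries (Fin n) k ⧸ Ideal.span {f})) 1
        ≃ₗ[MvPowerSeries (Fin n) k ⧸ Ideal.span {f}]
        ((MvPowerSeries (Fin n) k ⧸ Ideal.span {f}) ⧸ Ideal.map (Ideal.Quotient.mk (Ideal.span {f}))
          (Ideal.span {g | ∃ D : Derivation k (MvPowerSeries (Fin n) k) (MvPowerSeries (Fin n) k), g = D f}))) := by
  classical
  let P := MvPowerSeries (Fin n) k
  let R := P ⧸ Ideal.span {f}
  let mk : P →+* R := Ideal.Quotient.mk (Ideal.span {f})
  let v : Fin n → R := fun i => mk (pderiv k i f)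
  let Ω := KaehlerDifferential k R
  let π : (Fin n → R) →ₗ[R] Ω := Fintype.linearCombination R fun i => KaehlerDifferential.D k R (mk (X i))
  have hπ : ∀ c : Fin n → R, π c = ∑ i, c i • KaehlerDifferential.D k R (mk (X i)) := fun c => by
    simp [π, Fintype.linearCombination_apply]
  have hD : ∀ g : P, KaehlerDifferential.D k R (mk g) = π fun i => mk (pderiv k i g) := fun g => by
    rw [hπ]
    refine (derivation_apply p ((KaehlerDifferential.D k R).compAlgebraMap P) g).trans
      (Finset.sum_congr rfl fun i _ => ?_)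
    exact (algebraMap_smul R (pderiv k i g) (KaehlerDifferential.D k R (mk (X i)))).symm
  have hsurj : Function.Surjective π := by
    rw [← LinearMap.range_eq_top, eq_top_iff, ← KaehlerDifferential.span_range_derivation, Submodule.span_le]
    rintro _ ⟨x, rfl⟩
    obtain ⟨g, rfl⟩ := Ideal.Quotient.mk_surjective x
    exact ⟨_, (hD g).symm⟩
  let N : Submodule R (Fin n → R) := Submodule.span R {v}
  let Q := (Fin n → R) ⧸ N
  let δ₀ : P → Q := fun g => N.mkQ fun i => mk (pderiv k i g)
  let L : P →ₗ[k] Q :=
    { toFun := δ₀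
      map_add' := fun a b => by
        simp only [δ₀, map_add]
        exact map_add N.mkQ (fun i => mk (pderiv k i a)) (fun i => mk (pderiv k i b))
      map_smul' := fun c a => by
        simp only [δ₀, RingHom.id_apply]
        refine Eq.trans (congrArg N.mkQ (funext fun i => ?_ :
          (fun i => mk (pderiv k i (c • a))) = c • fun i => mk (pderiv k i a)))
          ((N.mkQ.restrictScalars k).map_smul c _)
        rw [Derivation.map_smul]
        rfl }
  have hle : (Ideal.span {f}).restrictScalars k ≤ LinearMap.ker L := by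
    intro g hg
    obtain ⟨a, rfl⟩ := Ideal.mem_span_singleton'.1 hg
    show δ₀ (a * f) = 0
    refine (Submodule.Quotient.mk_eq_zero _).2 (Submodule.mem_span_singleton.2 ⟨mk a, funext fun i => ?_⟩)
    have : mk f = 0 := Ideal.Quotient.eq_zero_iff_mem.2 (Ideal.mem_span_singleton_self f)
    simp [v, Derivation.leibniz, this]
  let Lq : R →ₗ[k] Q := (Submodule.liftQ ((Ideal.span {f}).restrictScalars k) L hle).comp
    (Submodule.Quotient.restrictScalarsEquiv k (Ideal.span {f})).symm.toLinearMap
  have hLq : ∀ g, Lq (mk g) = δ₀ g := fun g => rfl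
  let δ : Derivation k R Q := Derivation.mk' Lq fun a b => by
    obtain ⟨a, rfl⟩ := Ideal.Quotient.mk_surjective a
    obtain ⟨b, rfl⟩ := Ideal.Quotient.mk_surjective b
    show Lq (mk a * mk b) = mk a • Lq (mk b) + mk b • Lq (mk a)
    rw [← map_mul, hLq, hLq, hLq]
    simp only [δ₀, ← map_smul, ← map_add]
    congr 1
    funext i
    simp [Derivation.leibniz]
  have hker : ∀ c, π c = 0 ↔ ∃ a : R, a • v = c := by
    intro c
    constructor
    · intro hc
      have h2 : δ.liftKaehlerDifferential (π c) = N.mkQ c := by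
        rw [hπ, map_sum]
        conv_rhs => rw [pi_eq_sum_univ' c, map_sum]
        refine Finset.sum_congr rfl fun i _ => ?_
        rw [map_smul, map_smul, Derivation.liftKaehlerDifferential_comp_D]
        congr 1
        show δ₀ (X i) = _
        refine congrArg N.mkQ (funext fun j => ?_)
        rw [pderiv_X, Pi.single_apply, Pi.single_apply]
        by_cases hji : j = i
        · subst hji
          simp
        · simp [hji, Ne.symm hji]
      rw [hc, map_zero] at h2
      exact Submodule.mem_span_singleton.1 ((Submodule.Quotient.mk_eq_zero _).1 h2.symm)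
    · rintro ⟨a, rfl⟩
      rw [map_smul, show π v = KaehlerDifferential.D k R (mk f) from (hD f).symm,
        show mk f = 0 from Ideal.Quotient.eq_zero_iff_mem.2 (Ideal.mem_span_singleton_self f), map_zero, smul_zero]
  have hv : ∀ a : R, (∀ i, a * v i = 0) → a = 0 := by
    intro a ha
    obtain ⟨a, rfl⟩ := Ideal.Quotient.mk_surjective a
    exact Ideal.Quotient.eq_zero_iff_mem.2 (hreg a fun i => Ideal.Quotient.eq_zero_iff_mem.1 (by
      rw [map_mul]; exact ha i))
  obtain ⟨h2, ⟨e⟩⟩ := CokerExt.ext_of_column v hv π hsurj hker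
  refine ⟨h2, ⟨e.trans (Submodule.quotEquivOfEq _ _ ?_)⟩⟩
  rw [span_derivations_eq p, Ideal.map_span, ← Set.range_comp]
  rfl

end Groth.Agent.Desc44.PSKaehler
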