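import Mathlib.LinearAlgebra.ExteriorPower.Basic
import Mathlib.LinearAlgebra.CliffordAlgebra.Contraction
import Mathlib.RingTheory.Kaehler.Polynomial
import Mathlib.RingTheory.MvPolynomial.EulerIdentity
import Mathlib.LinearAlgebra.ExteriorAlgebra.Basic

/-!
# The algebraic Poincaré lemma
-/

set_option autoImplicit false

universe u

open MvPolynomial
open scoped Pointwise

noncomputable section

namespace Groth.Agent.Desc44.Poincare

variable (k : Type u) [Field k] (n : ℕ)


/-- Pairing with the Euler vector field. -/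
def φ : Module.Dual (MvPolynomial (Fin n) k) (KaehlerDifferential k (MvPolynomial (Fin n) k)) := (KaehlerDifferential.mvPolynomialBasis k (Fin n)).constr (MvPolynomial (Fin n) k) fun i => X i

lemma φ_D (f : (MvPolynomial (Fin n) k)) : φ k n ((KaehlerDifferential.D k (MvPolynomial (Fin n) k)) f) = ∑ i, X i * pderiv i f := by
  rw [φ, Module.Basis.constr_apply, Finsupp.sum_fintype]
  · simp [mul_comm]
  · simp

lemma φ_D_X (i : Fin n) : φ k n ((KaehlerDifferential.D k (MvPolynomial (Fin n) k)) (X i)) = X i := by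
  rw [← KaehlerDifferential.mvPolynomialBasis_apply, φ, Module.Basis.constr_basis]

lemma φ_D_monomial (a : Fin n →₀ ℕ) (c : k) : φ k n ((KaehlerDifferential.D k (MvPolynomial (Fin n) k)) (monomial a c)) = a.degree • monomial a c := by
  rw [φ_D]
  exact (isHomogeneous_monomial c rfl).sum_X_mul_pderiv

/-- Contraction with the Euler field. -/
def ctr : (ExteriorAlgebra (MvPolynomial (Fin n) k) (KaehlerDifferential k (MvPolynomial (Fin n) k))) →ₗ[(MvPolynomial (Fin n) k)] (ExteriorAlgebra (MvPolynomial (Fin n) k) (KaehlerDifferential k (MvPolynomial (Fin n) k))) := CliffordAlgebra.contractLeft (φ k n)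

lemma ctr_ι_mul (v : (KaehlerDifferential k (MvPolynomial (Fin n) k))) (y : (ExteriorAlgebra (MvPolynomial (Fin n) k) (KaehlerDifferential k (MvPolynomial (Fin n) k)))) : ctr k n ((ExteriorAlgebra.ι (MvPolynomial (Fin n) k) (M := KaehlerDifferential k (MvPolynomial (Fin n) k))) v * y) = φ k n v • y - (ExteriorAlgebra.ι (MvPolynomial (Fin n) k) (M := KaehlerDifferential k (MvPolynomial (Fin n) k))) v * ctr k n y :=
  CliffordAlgebra.contractLeft_ι_mul (φ k n) v y

lemma ctr_alg_mul (f : (MvPolynomial (Fin n) k)) (y : (ExteriorAlgebra (MvPolynomial (Fin n) k) (KaehlerDifferential k (MvPolynomial (Fin n) k)))) : ctr k n (algebraMap (MvPolynomial (Fin n) k) (ExteriorAlgebra (MvPolynomial (Fin n) k) (KaehlerDifferential k (MvPolynomial (Fin n) k))) f * y) = algebraMap (MvPolynomial (Fin n) k) (ExteriorAlgebra (MvPolynomial (Fin n) k) (KaehlerDifferential k (MvPolynomial (Fin n) k))) f * ctr k n y :=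
  CliffordAlgebra.contractLeft_algebraMap_mul (φ k n) f y

lemma ctr_one : ctr k n 1 = 0 := CliffordAlgebra.contractLeft_one _ (φ k n)

/-- Wedge products of `dX i`. -/
def W : ℕ → Set (ExteriorAlgebra (MvPolynomial (Fin n) k) (KaehlerDifferential k (MvPolynomial (Fin n) k)))
  | 0 => {1}
  | p + 1 => Set.range (fun i : Fin n => (ExteriorAlgebra.ι (MvPolynomial (Fin n) k) (M := KaehlerDifferential k (MvPolynomial (Fin n) k))) ((KaehlerDifferential.D k (MvPolynomial (Fin n) k)) (X i))) * W p

lemma span_W : ∀ p, Submodule.span (MvPolynomial (Fin n) k) (W k n p) = ExteriorAlgebra.exteriorPower (MvPolynomial (Fin n) k) p (KaehlerDifferential k (MvPolynomial (Fin n) k))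
  | 0 => by rw [ExteriorAlgebra.exteriorPower, pow_zero, W, Submodule.one_eq_span]
  | p + 1 => by
    have h : LinearMap.range (ExteriorAlgebra.ι (MvPolynomial (Fin n) k) (M := KaehlerDifferential k (MvPolynomial (Fin n) k))) = Submodule.span (MvPolynomial (Fin n) k) (Set.range fun i : Fin n => (ExteriorAlgebra.ι (MvPolynomial (Fin n) k) (M := KaehlerDifferential k (MvPolynomial (Fin n) k))) ((KaehlerDifferential.D k (MvPolynomial (Fin n) k)) (X i))) := by
      rw [LinearMap.range_eq_map, ← (KaehlerDifferential.mvPolynomialBasis k (Fin n)).span_eq,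
        Submodule.map_span, ← Set.range_comp]
      congr 1
      ext
      simp
    rw [W, ← Submodule.span_mul_span, span_W p]
    simp only [ExteriorAlgebra.exteriorPower]
    rw [pow_succ', h]

variable {k n} (d : (ExteriorAlgebra (MvPolynomial (Fin n) k) (KaehlerDifferential k (MvPolynomial (Fin n) k))) →ₗ[k] (ExteriorAlgebra (MvPolynomial (Fin n) k) (KaehlerDifferential k (MvPolynomial (Fin n) k)))) (h0 : ∀ a : (MvPolynomial (Fin n) k), d (algebraMap (MvPolynomial (Fin n) k) (ExteriorAlgebra (MvPolynomial (Fin n) k) (KaehlerDifferential k (MvPolynomial (Fin n) k))) a) = (ExteriorAlgebra.ι (MvPolynomial (Fin n) k) (M := KaehlerDifferential k (MvPolynomial (Fin n) k))) ((KaehlerDifferential.D k (MvPolynomial (Fin n) k)) a))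
  (hder : ∀ (p : ℕ) (ω η : (ExteriorAlgebra (MvPolynomial (Fin n) k) (KaehlerDifferential k (MvPolynomial (Fin n) k)))), ω ∈ ExteriorAlgebra.exteriorPower (MvPolynomial (Fin n) k) p (KaehlerDifferential k (MvPolynomial (Fin n) k)) →
    d (ω * η) = d ω * η + (-1) ^ p * ω * d η)
  (hdd : ∀ ω, d (d ω) = 0)

include h0 hder in
lemma d_alg_mul (f : (MvPolynomial (Fin n) k)) (y : (ExteriorAlgebra (MvPolynomial (Fin n) k) (KaehlerDifferential k (MvPolynomial (Fin n) k)))) : d (algebraMap (MvPolynomial (Fin n) k) (ExteriorAlgebra (MvPolynomial (Fin n) k) (KaehlerDifferential k (MvPolynomial (Fin n) k))) f * y) = (ExteriorAlgebra.ι (MvPolynomial (Fin n) k) (M := KaehlerDifferential k (MvPolynomial (Fin n) k))) ((KaehlerDifferential.D k (MvPolynomial (Fin n) k)) f) * y + algebraMap (MvPolynomial (Fin n) k) (ExteriorAlgebra (MvPolynomial (Fin n) k) (KaehlerDifferential k (MvPolynomial (Fin n) k))) f * d y := by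
  rw [hder 0 _ y (by rw [ExteriorAlgebra.exteriorPower, pow_zero]; exact Submodule.algebraMap_mem f), h0]
  simp

include h0 hder hdd in
lemma d_ι_mul (f : (MvPolynomial (Fin n) k)) (y : (ExteriorAlgebra (MvPolynomial (Fin n) k) (KaehlerDifferential k (MvPolynomial (Fin n) k)))) : d ((ExteriorAlgebra.ι (MvPolynomial (Fin n) k) (M := KaehlerDifferential k (MvPolynomial (Fin n) k))) ((KaehlerDifferential.D k (MvPolynomial (Fin n) k)) f) * y) = -((ExteriorAlgebra.ι (MvPolynomial (Fin n) k) (M := KaehlerDifferential k (MvPolynomial (Fin n) k))) ((KaehlerDifferential.D k (MvPolynomial (Fin n) k)) f) * d y) := by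
  rw [hder 1 _ y (by rw [ExteriorAlgebra.exteriorPower, pow_one]; exact ⟨_, rfl⟩), ← h0, hdd]
  simp

include h0 hder hdd in
lemma eigen_W : ∀ (p : ℕ) (y : (ExteriorAlgebra (MvPolynomial (Fin n) k) (KaehlerDifferential k (MvPolynomial (Fin n) k)))), y ∈ W k n p → d y = 0 ∧ d (ctr k n y) = p • y
  | 0, y, hy => by
    obtain rfl : y = 1 := hy
    have : d 1 = 0 := by rw [← map_one (algebraMap (MvPolynomial (Fin n) k) (ExteriorAlgebra (MvPolynomial (Fin n) k) (KaehlerDifferential k (MvPolynomial (Fin n) k)))), h0, Derivation.map_one_eq_zero, map_zero]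
    simp [this, ctr_one]
  | p + 1, z, hz => by
    obtain ⟨_, ⟨i, rfl⟩, y, hy, rfl⟩ := hz
    obtain ⟨hy₁, hy₂⟩ := eigen_W p y hy
    refine ⟨by simp [d_ι_mul d h0 hder hdd, hy₁], ?_⟩
    show d (ctr k n ((ExteriorAlgebra.ι (MvPolynomial (Fin n) k) (M := KaehlerDifferential k (MvPolynomial (Fin n) k))) ((KaehlerDifferential.D k (MvPolynomial (Fin n) k)) (X i)) * y)) = _
    rw [ctr_ι_mul, φ_D_X, map_sub, Algebra.smul_def, d_alg_mul d h0 hder, d_ι_mul d h0 hder hdd, hy₁, hy₂]
    simp only [mul_smul_comm, mul_zero, neg_zero, add_zero, sub_neg_eq_add, add_smul, one_smul, ← Algebra.smul_def]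
    exact add_comm _ _

/-- The Lie derivative along the Euler field. -/
def L : Module.End k (ExteriorAlgebra (MvPolynomial (Fin n) k) (KaehlerDifferential k (MvPolynomial (Fin n) k))) := d ∘ₗ (ctr k n).restrictScalars k + (ctr k n).restrictScalars k ∘ₗ d

lemma L_apply (y : (ExteriorAlgebra (MvPolynomial (Fin n) k) (KaehlerDifferential k (MvPolynomial (Fin n) k)))) : L d y = d (ctr k n y) + ctr k n (d y) := rfl

include h0 hder hdd in
lemma L_monomial_mul (p : ℕ) (y : (ExteriorAlgebra (MvPolynomial (Fin n) k) (KaehlerDifferential k (MvPolynomial (Fin n) k)))) (hy : y ∈ W k n p) (a : Fin n →₀ ℕ) (c : k) :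
    L d (algebraMap (MvPolynomial (Fin n) k) (ExteriorAlgebra (MvPolynomial (Fin n) k) (KaehlerDifferential k (MvPolynomial (Fin n) k))) (monomial a c) * y) = (a.degree + p) • (algebraMap (MvPolynomial (Fin n) k) (ExteriorAlgebra (MvPolynomial (Fin n) k) (KaehlerDifferential k (MvPolynomial (Fin n) k))) (monomial a c) * y) := by
  obtain ⟨hy₁, hy₂⟩ := eigen_W d h0 hder hdd p y hy
  rw [L_apply, ctr_alg_mul, d_alg_mul d h0 hder, d_alg_mul d h0 hder, hy₁, hy₂, mul_zero, add_zero, ctr_ι_mul,
    φ_D_monomial, smul_assoc, Algebra.smul_def, mul_smul_comm, add_smul]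
  abel

/-- Elements killed by a polynomial in `L` with non-zero constant term. -/
def Good : Submodule k (ExteriorAlgebra (MvPolynomial (Fin n) k) (KaehlerDifferential k (MvPolynomial (Fin n) k))) where
  carrier := {ω | ∃ q : Polynomial k, q.eval 0 ≠ 0 ∧ Polynomial.aeval (L d) q ω = 0}
  zero_mem' := ⟨1, by simp, by simp⟩
  add_mem' := by
    rintro a b ⟨q, hq, ha⟩ ⟨r, hr, hb⟩
    refine ⟨q * r, by simp [hq, hr], ?_⟩
    rw [map_add]
    nth_rw 1 [mul_comm q r]
    simp [ha, hb]
  smul_mem' := by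
    rintro c a ⟨q, hq, ha⟩
    exact ⟨q, hq, by simp [ha]⟩

variable [CharZero k]

include h0 hder hdd in
lemma mem_good (p : ℕ) {ω : (ExteriorAlgebra (MvPolynomial (Fin n) k) (KaehlerDifferential k (MvPolynomial (Fin n) k)))} (hω : ω ∈ ExteriorAlgebra.exteriorPower (MvPolynomial (Fin n) k) (p + 1) (KaehlerDifferential k (MvPolynomial (Fin n) k))) : ω ∈ Good d := by
  rw [← span_W] at hω
  induction hω using Submodule.closure_induction with
  | zero => exact zero_mem _
  | add x y _ _ hx hy => exact add_mem hx hy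
  | smul_mem r y hy =>
    rw [Algebra.smul_def]
    induction r using MvPolynomial.induction_on' with
    | monomial a c =>
      refine ⟨Polynomial.X - Polynomial.C ((a.degree + (p + 1) : ℕ) : k), ?_, ?_⟩
      · rw [Polynomial.eval_sub, Polynomial.eval_X, Polynomial.eval_C, zero_sub, neg_ne_zero, Nat.cast_ne_zero]
        omega
      · simp only [map_sub, Polynomial.aeval_X, Polynomial.aeval_C, LinearMap.sub_apply,
          Module.algebraMap_end_apply, Nat.cast_smul_eq_nsmul]
        rw [L_monomial_mul d h0 hder hdd (p + 1) y hy a c, sub_self]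
    | add f g hf hg => rw [map_add, add_mul]; exact add_mem hf hg

include h0 hder hdd in
theorem exists_primitive (hdeg : ∀ (p : ℕ) (ω : (ExteriorAlgebra (MvPolynomial (Fin n) k) (KaehlerDifferential k (MvPolynomial (Fin n) k)))), ω ∈ ExteriorAlgebra.exteriorPower (MvPolynomial (Fin n) k) p (KaehlerDifferential k (MvPolynomial (Fin n) k)) →
      d ω ∈ ExteriorAlgebra.exteriorPower (MvPolynomial (Fin n) k) (p + 1) (KaehlerDifferential k (MvPolynomial (Fin n) k)))
    (p : ℕ) {ω : (ExteriorAlgebra (MvPolynomial (Fin n) k) (KaehlerDifferential k (MvPolynomial (Fin n) k)))} (hω : ω ∈ ExteriorAlgebra.exteriorPower (MvPolynomial (Fin n) k) (p + 1) (KaehlerDifferential k (MvPolynomial (Fin n) k))) (hd : d ω = 0) :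
    ∃ θ ∈ ExteriorAlgebra.exteriorPower (MvPolynomial (Fin n) k) p (KaehlerDifferential k (MvPolynomial (Fin n) k)), d θ = ω := by
  obtain ⟨q, hq, hqω⟩ := mem_good d h0 hder hdd p hω
  have hctr : ∀ (m : ℕ) (y : (ExteriorAlgebra (MvPolynomial (Fin n) k) (KaehlerDifferential k (MvPolynomial (Fin n) k)))), y ∈ ExteriorAlgebra.exteriorPower (MvPolynomial (Fin n) k) (m + 1) (KaehlerDifferential k (MvPolynomial (Fin n) k)) →
      ctr k n y ∈ ExteriorAlgebra.exteriorPower (MvPolynomial (Fin n) k) m (KaehlerDifferential k (MvPolynomial (Fin n) k)) := by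
    intro m
    induction m with
    | zero =>
      intro y hy
      rw [ExteriorAlgebra.exteriorPower, pow_one] at hy
      obtain ⟨v, rfl⟩ := hy
      rw [show ctr k n ((ExteriorAlgebra.ι (MvPolynomial (Fin n) k) (M := KaehlerDifferential k (MvPolynomial (Fin n) k))) v) = algebraMap (MvPolynomial (Fin n) k) (ExteriorAlgebra (MvPolynomial (Fin n) k) (KaehlerDifferential k (MvPolynomial (Fin n) k))) (φ k n v) from CliffordAlgebra.contractLeft_ι _ (φ k n) v,
        ExteriorAlgebra.exteriorPower, pow_zero]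
      exact Submodule.algebraMap_mem _
    | succ m ih =>
      intro y hy
      rw [ExteriorAlgebra.exteriorPower, pow_succ'] at hy
      refine Submodule.mul_induction_on hy ?_ fun a b ha hb => by rw [map_add]; exact add_mem ha hb
      rintro _ ⟨v, rfl⟩ b hb
      rw [ctr_ι_mul]
      refine sub_mem (Submodule.smul_mem _ _ hb) ?_
      rw [ExteriorAlgebra.exteriorPower, pow_succ']
      exact Submodule.mul_mem_mul ⟨v, rfl⟩ (ih b hb)
  -- closed forms of positive degree are preserved by `L`
  let V : Submodule k (ExteriorAlgebra (MvPolynomial (Fin n) k) (KaehlerDifferential k (MvPolynomial (Fin n) k))) := (ExteriorAlgebra.exteriorPower (MvPolynomial (Fin n) k) (p + 1) (KaehlerDifferential k (MvPolynomial (Fin n) k))).restrictScalars k ⊓ LinearMap.ker d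
  have hV : V ≤ V.comap (L d) := fun y hy => by
    obtain ⟨hy₁, hy₂⟩ := hy
    replace hy₂ : d y = 0 := hy₂
    show L d y ∈ V
    rw [L_apply, hy₂, map_zero, add_zero]
    exact ⟨hdeg p _ (hctr p y hy₁), hdd _⟩
  let θ := Polynomial.aeval (L d) q.divX ω
  have hθ : θ ∈ V := by
    have key : ∀ (r : Polynomial k) (y), y ∈ V → Polynomial.aeval (L d) r y ∈ V := fun r => by
      induction r using Polynomial.induction_on with
      | C c =>
        intro y hy
        rw [Polynomial.aeval_C, Module.algebraMap_end_apply]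
        exact V.smul_mem _ hy
      | add r s hr hs =>
        intro y hy
        rw [map_add, LinearMap.add_apply]
        exact add_mem (hr y hy) (hs y hy)
      | monomial m c ih =>
        intro y hy
        rw [pow_succ, ← mul_assoc, map_mul, Polynomial.aeval_X]
        exact ih _ (hV hy)
    exact key q.divX ω ⟨hω, hd⟩
  have hL : L d θ = -(q.eval 0) • ω := by
    have e : Polynomial.aeval (L d) (Polynomial.X * q.divX + Polynomial.C (q.coeff 0)) ω = 0 := by
      rw [Polynomial.X_mul_divX_add]; exact hqω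
    rw [map_add, map_mul, Polynomial.aeval_X, Polynomial.aeval_C, LinearMap.add_apply] at e
    rw [← Polynomial.coeff_zero_eq_eval_zero, neg_smul]
    exact eq_neg_of_add_eq_zero_left e
  refine ⟨(-(q.eval 0))⁻¹ • ctr k n θ,
    ((ExteriorAlgebra.exteriorPower (MvPolynomial (Fin n) k) p (KaehlerDifferential k (MvPolynomial (Fin n) k))).restrictScalars k).smul_mem _ (hctr p θ hθ.1), ?_⟩
  have hθ₂ : d θ = 0 := hθ.2
  rw [map_smul, show d (ctr k n θ) = L d θ by rw [L_apply, hθ₂, map_zero, add_zero], hL,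
    inv_smul_smul₀ (neg_ne_zero.2 hq)]

lemma exists_C_of_d_eq_zero (h0 : ∀ a : (MvPolynomial (Fin n) k), d (algebraMap (MvPolynomial (Fin n) k) (ExteriorAlgebra (MvPolynomial (Fin n) k) (KaehlerDifferential k (MvPolynomial (Fin n) k))) a) = (ExteriorAlgebra.ι (MvPolynomial (Fin n) k) (M := KaehlerDifferential k (MvPolynomial (Fin n) k))) ((KaehlerDifferential.D k (MvPolynomial (Fin n) k)) a)) (a : (MvPolynomial (Fin n) k))
    (ha : d (algebraMap (MvPolynomial (Fin n) k) (ExteriorAlgebra (MvPolynomial (Fin n) k) (KaehlerDifferential k (MvPolynomial (Fin n) k))) a) = 0) : ∃ c : k, a = C c := by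
  rw [h0, ExteriorAlgebra.ι_eq_zero_iff] at ha
  have hp : ∀ i, pderiv i a = 0 := fun i => by
    rw [← KaehlerDifferential.mvPolynomialBasis_repr_apply, ha]; simp
  refine ⟨coeff 0 a, MvPolynomial.ext _ _ fun m => ?_⟩
  rw [coeff_C]
  by_cases hm : 0 = m
  · rw [if_pos hm, hm]
  · rw [if_neg hm]
    obtain ⟨i, hi⟩ := Finsupp.support_nonempty_iff.2 (Ne.symm hm)
    rw [Finsupp.mem_support_iff] at hi
    have h := coeff_pderiv (i := i) a (m - Finsupp.single i 1)
    rw [hp i, coeff_zero, tsub_add_cancel_of_le (Finsupp.single_le_iff.2 (Nat.one_le_iff_ne_zero.2 hi))] at h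
    refine (mul_eq_zero.1 h.symm).resolve_right ?_
    exact_mod_cast Nat.succ_ne_zero ((m - Finsupp.single i (1 : ℕ) : Fin n →₀ ℕ) i)

end Groth.Agent.Desc44.Poincare
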