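import Groth.Agent.Omega.Stalks
import Groth.Agent.Desc44.ProjBundle.Quot
import Groth.Agent.RegDVR.Basic
import Groth.Agent.PerfTri.Betti
import Groth.Agent.FinCov71.Rank
import Groth.Agent.FDesc.Stalk
import Mathlib.LinearAlgebra.TensorProduct.Quotient
import Mathlib.RingTheory.Regular.Flat

/-!
# The conormal sheaf of the zero scheme of a regular section
-/

set_option autoImplicit false
set_option backward.isDefEq.respectTransparency false
set_option backward.isDefEq.respectTransparency.types false

universe u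

open CategoryTheory CategoryTheory.Limits AlgebraicGeometry TopologicalSpace Opposite TensorProduct
open Groth.Agent.PullStalk.Sky Groth.Agent.PullStalk.Exact Groth.Agent.PullStalk.Basic
open Groth.Agent.LFFrame

noncomputable section

namespace Groth.Agent.Desc44.RegSection

/-- The kernel of `M → B ⊗ M` for a quotient `B` of `A`. -/
theorem mem_smul_top_of_isBaseChange {A B M N : Type*} [CommRing A] [CommRing B] [Algebra A B]
    [AddCommGroup M] [Module A M] [AddCommGroup N] [Module A N] [Module B N] [IsScalarTower A B N]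
    (hsurj : Function.Surjective (algebraMap A B)) {φ : M →ₗ[A] N} (h : IsBaseChange B φ) {m : M}
    (hm : φ m = 0) : m ∈ RingHom.ker (algebraMap A B) • (⊤ : Submodule A M) := by
  have h1 : (1 : B) ⊗ₜ[A] m = 0 := h.equiv.injective (by rw [h.equiv_tmul, one_smul, hm, map_zero])
  let e : (A ⧸ RingHom.ker (algebraMap A B)) ≃ₐ[A] B :=
    Ideal.quotientKerAlgEquivOfSurjective (f := Algebra.ofId A B) hsurj
  have h2 := congrArg (fun t => (TensorProduct.quotTensorEquivQuotSMul M (RingHom.ker (algebraMap A B)))
    (TensorProduct.congr e.symm.toLinearEquiv (LinearEquiv.refl A M) t)) h1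
  simp only [TensorProduct.congr_tmul, map_zero, LinearEquiv.refl_apply] at h2
  rw [show e.symm.toLinearEquiv (1 : B) = Ideal.Quotient.mk _ (1 : A) from
    (map_one e.symm).trans (map_one _).symm, TensorProduct.quotTensorEquivQuotSMul_mk_tmul, one_smul] at h2
  exact (Submodule.Quotient.mk_eq_zero _).1 h2

/-- Quasi-regularity in degree one. -/
theorem qr_degree_one {A : Type*} [CommRing A] {n : ℕ} {a : Fin n → A} (h : RegDVR.QR a) (c : Fin n → A)
    (hc : ∑ k, c k * a k ∈ Ideal.span (Set.range a) * Ideal.span (Set.range a)) (k : Fin n) :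
    c k ∈ Ideal.span (Set.range a) := by
  let F : MvPolynomial (Fin n) A := ∑ l, MvPolynomial.C (c l) * MvPolynomial.X l
  have hF : F.IsHomogeneous 1 := MvPolynomial.IsHomogeneous.sum _ _ _ fun l _ =>
    (MvPolynomial.isHomogeneous_X A l).C_mul (c l)
  have he : MvPolynomial.eval a F = ∑ k, c k * a k := by simp [F]
  have := RegDVR.QR.of_mem_pow (fun G hG h0 => h 1 G hG h0) hF (by rwa [he, pow_two])
  have hk := congrArg (MvPolynomial.coeff (Finsupp.single k 1)) this
  rw [MvPolynomial.coeff_map, MvPolynomial.coeff_zero, Ideal.Quotient.eq_zero_iff_mem] at hk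
  simpa [F, MvPolynomial.coeff_sum, MvPolynomial.coeff_X, Finsupp.single_eq_single_iff] using hk

variable {X Y : Scheme.{u}}

open Omega.Stalks in
/-- The map induced on the pullback by a map to the ideal whose stalk has generators going to a sequence
that is quasi-regular in degree one and generates the ideal is bijective. -/
theorem bijective_stalk_pullback_map (i : Y ⟶ X) [IsClosedImmersion i] {R : X.Modules}
    (t : R ⟶ ClSub.idealMod i.ker) (y : Y) {n : ℕ} (τ : Fin n → R.presheaf.stalk (i y))
    (hτ : ∀ a : R.presheaf.stalk (i y), ∃ c : Fin n → X.presheaf.stalk (i y), ∑ k, c k • τ k = a)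
    (f : Fin n → X.presheaf.stalk (i y)) (hf : ∀ k, idealStalk i.ker (i y) (stalkLin t (i y) (τ k)) = f k)
    (hker : RingHom.ker (i.stalkMap y).hom = Ideal.span (Set.range f))
    (hqr : ∀ c : Fin n → X.presheaf.stalk (i y),
      ∑ k, c k * f k ∈ Ideal.span (Set.range f) * Ideal.span (Set.range f) →
        ∀ k, c k ∈ Ideal.span (Set.range f)) :
    Function.Bijective (stalkLin ((Scheme.Modules.pullback i).map t) y) := by
  set J := Ideal.span (Set.range f)
  let θ := stalkLin t (i y)
  have hmem : ∀ m : (ClSub.idealMod i.ker).presheaf.stalk (i y), idealStalk i.ker (i y) m ∈ J := fun m => by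
    rw [← hker]
    exact (range_idealStalk i i.isClosedEmbedding.isInducing y).le (Set.mem_range_self m)
  have hu : ∀ (M : X.Modules) (z : ((Scheme.Modules.pullback i).obj M).presheaf.stalk y),
      ∃ a, unitStalkHom i M y a = z := by
    intro M z
    let := (i.stalkMap y).hom.toAlgebra
    let := moduleOver i M y
    have : IsScalarTower (X.presheaf.stalk (i y)) (Y.presheaf.stalk y)
        (((Scheme.Modules.pullback i).obj M).presheaf.stalk y) :=
      IsScalarTower.of_algebraMap_smul fun _ _ => rfl
    have hbc := isBaseChange_unitStalk i M y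
    obtain ⟨w, rfl⟩ := hbc.equiv.surjective z
    induction w using TensorProduct.induction_on with
    | zero => exact ⟨0, by simp⟩
    | tmul c a =>
      obtain ⟨c, rfl⟩ := i.stalkMap_surjective y c
      exact ⟨c • a, (unitStalkHom_smul i M y c a).trans (hbc.equiv_tmul _ _).symm⟩
    | add p q hp hq =>
      obtain ⟨a, ha⟩ := hp
      obtain ⟨a', ha'⟩ := hq
      exact ⟨a + a', by rw [map_add, map_add, ha, ha']⟩
  have hθ : ∀ c : Fin n → X.presheaf.stalk (i y),
      idealStalk i.ker (i y) (θ (∑ k, c k • τ k)) = ∑ k, c k * f k := fun c => by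
    simp only [map_sum, map_smul, θ, hf, smul_eq_mul]
  refine ⟨(injective_iff_map_eq_zero _).2 fun z hz => ?_, fun w => ?_⟩
  · obtain ⟨a, rfl⟩ := hu R z
    obtain ⟨c, rfl⟩ := hτ a
    have hzI : unitStalkHom i (ClSub.idealMod i.ker) y (θ (∑ k, c k • τ k)) = 0 :=
      (FDesc.Stalk.unitStalkHom_natural i t y _).trans hz
    have hm : θ (∑ k, c k • τ k) ∈ J • (⊤ : Submodule (X.presheaf.stalk (i y))
        ((ClSub.idealMod i.ker).presheaf.stalk (i y))) := by
      let := (i.stalkMap y).hom.toAlgebra
      let := moduleOver i (ClSub.idealMod i.ker) y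
      have : IsScalarTower (X.presheaf.stalk (i y)) (Y.presheaf.stalk y)
          (((Scheme.Modules.pullback i).obj (ClSub.idealMod i.ker)).presheaf.stalk y) :=
        IsScalarTower.of_algebraMap_smul fun _ _ => rfl
      rw [← hker]
      exact mem_smul_top_of_isBaseChange (i.stalkMap_surjective y)
        (isBaseChange_unitStalk i (ClSub.idealMod i.ker) y) hzI
    have hJJ : ∀ m ∈ J • (⊤ : Submodule (X.presheaf.stalk (i y))
        ((ClSub.idealMod i.ker).presheaf.stalk (i y))), idealStalk i.ker (i y) m ∈ J * J := by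
      intro m hm
      refine Submodule.smul_induction_on hm (fun r hr m _ => ?_) (fun p q hp hq => ?_)
      · rw [map_smul, smul_eq_mul]
        exact Ideal.mul_mem_mul hr (hmem m)
      · rw [map_add]
        exact add_mem hp hq
    have hc := hqr c (hθ c ▸ hJJ _ hm)
    rw [map_sum]
    refine Finset.sum_eq_zero fun k _ => ?_
    rw [unitStalkHom_smul, show i.stalkMap y (c k) = 0 from hker.ge (hc k), zero_smul]
  · obtain ⟨m, rfl⟩ := hu (ClSub.idealMod i.ker) w
    obtain ⟨c, hc⟩ := Ideal.mem_span_range_iff_exists_fun.1 (hmem m)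
    refine ⟨unitStalkHom i R y (∑ k, c k • τ k), (FDesc.Stalk.unitStalkHom_natural i t y _).symm.trans
      (congrArg (unitStalkHom i (ClSub.idealMod i.ker) y) ?_)⟩
    exact idealStalk_injective i.ker (i y) ((hθ c).trans hc)

open Omega.Stalks in
/-- The map induced by a regular section from the restricted module to the conormal sheaf of its zero scheme
is an isomorphism. -/
theorem isIso_pullback_map {n : ℕ} {E : X.Modules} (hE : FlatMod.IsFinLocFreeOfRank n E)
    (s : E ⟶ Coh.structureModule X)
    (hs : ∀ x : X, ∃ U : X.affineOpens, x ∈ U.1 ∧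
      ∃ b : Module.Basis (Fin n) Γ(X, U.1) (E.val.obj (op U.1)),
        @RingTheory.Sequence.IsWeaklyRegular Γ(X, U.1) Γ(X, U.1) _ _ _
          (List.ofFn fun k => (s.val.app (op U.1)).hom (b k)))
    (i : Y ⟶ X) [IsClosedImmersion i] (t : E ⟶ ClSub.idealMod i.ker) [Epi t]
    (hts : t ≫ ClSub.idealModι i.ker = s) :
    IsIso ((Scheme.Modules.pullback i).map t) := by
  have : E.IsQuasicoherent :=
    PerfTri.Betti.isQuasicoherent_of_isFinLocFree (FinCov71.isFinLocFree_of_rank hE)
  have : Epi ((Scheme.Modules.pullback i).map t) :=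
    have := Functor.preservesEpimorphisms_of_adjunction (Scheme.Modules.pullbackPushforwardAdjunction i)
    inferInstance
  refine Omega.Stalks.isIso_of_stalk fun y => ?_
  obtain ⟨U, hxU, b, hb⟩ := hs (i y)
  have hfr : IsFrame E U.1 (fun k => b k) := ProjBundle.isFrame_of_basis U.2 b
  have hbij := hfr.stalkComb_bijective (i y) hxU
  let _ : Algebra Γ(X, U.1) (X.presheaf.stalk (i y)) := (X.presheaf.germ U.1 (i y) hxU).hom.toAlgebra
  have : IsLocalization (AssSch.Stalk.primeOf U.2 (i y) hxU).primeCompl (X.presheaf.stalk (i y)) :=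
    U.2.isLocalization_stalk ⟨i y, hxU⟩
  have : Module.Flat Γ(X, U.1) (X.presheaf.stalk (i y)) :=
    IsLocalization.flat _ (AssSch.Stalk.primeOf U.2 (i y) hxU).primeCompl
  let f : Fin n → X.presheaf.stalk (i y) := fun k =>
    X.presheaf.germ U.1 (i y) hxU ((s.val.app (op U.1)).hom (b k))
  have hqr : RegDVR.QR f := by
    refine RegDVR.qr_of_weaklyRegular f ?_
    have := RingTheory.Sequence.IsWeaklyRegular.of_flat (S := X.presheaf.stalk (i y)) hb
    rwa [List.map_ofFn] at this
  let τ : Fin n → E.presheaf.stalk (i y) := fun k => germM E U.1 (i y) hxU (b k)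
  let θ := stalkLin t (i y)
  have hθ : ∀ k, idealStalk i.ker (i y) (θ (τ k)) = f k := by
    intro k
    simp only [θ, τ, stalkLin_germ, idealStalk_germ]
    exact congrArg (X.presheaf.germ U.1 (i y) hxU) (congrArg (fun φ => Scheme.Modules.Hom.app φ U.1 (b k)) hts)
  have hspan : ∀ a : E.presheaf.stalk (i y), ∃ c : Fin n → X.presheaf.stalk (i y), ∑ k, c k • τ k = a := by
    intro a
    obtain ⟨c, hc⟩ := hbij.2 a
    exact ⟨c, by simpa [stalkComb, Fintype.linearCombination_apply, τ] using hc⟩
  set J := Ideal.span (Set.range f)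
  have hmem : ∀ m : (ClSub.idealMod i.ker).presheaf.stalk (i y), idealStalk i.ker (i y) m ∈ J := by
    intro m
    obtain ⟨a, rfl⟩ := stalk_surjective t (i y) m
    obtain ⟨c, rfl⟩ := hspan a
    simp only [map_sum, map_smul, smul_eq_mul, θ] at hθ ⊢
    exact sum_mem fun k _ => Ideal.mul_mem_left _ _ (by rw [hθ]; exact Ideal.subset_span ⟨k, rfl⟩)
  have hker : RingHom.ker (i.stalkMap y).hom = J := by
    refine le_antisymm (fun a ha => ?_) (Ideal.span_le.2 ?_)
    · obtain ⟨m, rfl⟩ := (range_idealStalk i i.isClosedEmbedding.isInducing y).ge ha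
      exact hmem m
    · rintro _ ⟨k, rfl⟩
      exact (range_idealStalk i i.isClosedEmbedding.isInducing y).le ⟨_, hθ k⟩
  exact bijective_stalk_pullback_map i t y τ hspan f hθ hker fun c hc k => qr_degree_one hqr c hc k

end Groth.Agent.Desc44.RegSection
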