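import Groth.Agent.Desc44.DimSemi
import Groth.Agent.Desc44.KrullPts

/-!
# Proper intersection with a regular immersion
-/

set_option autoImplicit false
set_option linter.style.haveILetI false

universe u

open CategoryTheory AlgebraicGeometry Limits Topology TopologicalSpace
open Groth.Agent.EquidimPt Groth.Agent.Desc44.DimSemi

noncomputable section

namespace Groth.Agent.Desc44.SemiProper

variable (k : Type u) [Field k] {C X W : Scheme.{u}}

section
variable (c : C ⟶ Spec (CommRingCat.of k)) [LocallyOfFiniteType c]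

lemma topDim_add_le {Z : Set C} (hZ : IsLocallyClosed Z) (j n : ℕ) (h : ∀ z ∈ Z, dimOver k c z + j ≤ n) :
    topologicalKrullDim Z + (j : WithBot ℕ∞) ≤ n := by
  have hk : topologicalKrullDim Z = Order.krullDim Z := Fibres16.JacobsonDim.topDim_eq_of_isLocallyClosed hZ
  rcases Z.eq_empty_or_nonempty with rfl | ⟨z₀, hz₀⟩
  · rw [hk, Order.krullDim_eq_bot, WithBot.bot_add]
    exact bot_le
  · have hjn : j ≤ n := le_trans (Nat.le_add_left j _) (h z₀ hz₀)
    let F : Z → ℕ := fun z => dimOver k c z.1
    have hF : StrictMono F := fun a b hab => by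
      have h1 : b.1 ⤳ a.1 := hab.le
      refine lt_of_le_of_ne (dimOver_le k c h1) fun e => ?_
      have := eq_of_dimOver_le k c h1 e.ge
      exact hab.ne (Subtype.ext this).symm
    have hle : Order.krullDim Z ≤ ((n - j : ℕ) : WithBot ℕ∞) := iSup_le fun p => by
      have h1 := LTSeries.head_add_length_le_nat (p.map F hF)
      have h2 := h p.last.1 p.last.2
      have h3 : (p.map F hF).last = dimOver k c p.last.1 := rfl
      have h4 : (p.map F hF).length = p.length := rfl
      exact_mod_cast (show p.length ≤ n - j by omega)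
    rw [hk]
    refine (add_le_add_left hle _).trans ?_
    exact_mod_cast (Nat.sub_add_cancel hjn).le

lemma le_topDim {Z : Set C} (hZ : IsLocallyClosed Z) {g : C} (hg : g ∈ Z) :
    (dimOver k c g : WithBot ℕ∞) ≤ topologicalKrullDim Z := by
  obtain ⟨O, K, hO, hK, rfl⟩ := hZ
  obtain ⟨z, hgz, hzO, hz⟩ := exists_closed_specialization k c g ⟨O, hO⟩ hg.1
  have hz0 : dimOver k c z = 0 := (dimOver_eq_zero_iff k c z).2 hz
  letI : C.Over (Spec (CommRingCat.of k)) := ⟨c⟩
  haveI : LocallyOfFiniteType (C ↘ Spec (CommRingCat.of k)) := ‹LocallyOfFiniteType c›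
  obtain ⟨-, l, hh, hl, hlen⟩ := VarDim.exists_ltSeries_of_le k (show z ≤ g from hgz)
  have hmem : ∀ i, l i ∈ O ∩ K := fun i => by
    have h1 : g ⤳ l i := (l.monotone (Fin.le_last i)).trans hl
    have h2 : l i ⤳ z := hh.ge.trans (l.monotone (Fin.zero_le i))
    exact ⟨h2.mem_open hO hzO, h1.mem_closed hK hg.2⟩
  rw [Fibres16.JacobsonDim.topDim_eq_of_isLocallyClosed ⟨O, K, hO, hK, rfl⟩]
  let L : LTSeries (O ∩ K : Set C) := LTSeries.mk l.length (fun i => ⟨l i, hmem i⟩) fun i j hij => l.strictMono hij
  refine le_trans ?_ (Order.LTSeries.length_le_krullDim L)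
  have hd : VarDim.dimPt k C z = 0 := hz0
  rw [hd, zero_add] at hlen
  exact_mod_cast hlen.ge

/-- A component of a locally closed subspace has a generic point, computing its dimension. -/
lemma exists_generic {Z : Set C} (hZ : IsLocallyClosed Z) {Q : Set Z} (hQ : Q ∈ irreducibleComponents Z) :
    ∃ g : Z, g ∈ Q ∧ topologicalKrullDim Q = (dimOver k c g.1 : WithBot ℕ∞) ∧ (∀ y ∈ Q, g.1 ⤳ y.1) ∧
      ∀ y : Z, y.1 ⤳ g.1 → y = g := by
  haveI : QuasiSober Z := by
    obtain ⟨O, K, hO, hK, rfl⟩ := hZ
    haveI : QuasiSober O := hO.isOpenEmbedding_subtypeVal.quasiSober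
    let j : (O ∩ K : Set C) → O := Set.inclusion Set.inter_subset_left
    have hj : Topology.IsClosedEmbedding j := by
      refine ⟨Topology.IsEmbedding.inclusion _, ?_⟩
      rw [Set.range_inclusion]
      refine isClosed_induced_iff.mpr ⟨K, hK, ?_⟩
      ext ⟨z, hz⟩
      simp [hz]
    exact hj.quasiSober
  obtain ⟨g, hg⟩ := QuasiSober.sober hQ.1 (isClosed_of_mem_irreducibleComponents Q hQ)
  have him : Subtype.val '' Q = closure {g.1} ∩ Z := by
    rw [← hg.def, IsEmbedding.subtypeVal.closure_eq_preimage_closure_image, Set.image_singleton,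
      Set.image_preimage_eq_inter_range, Subtype.range_coe]
  have hlc : IsLocallyClosed (closure {g.1} ∩ Z) := isClosed_closure.isLocallyClosed.inter hZ
  refine ⟨g, hg.mem, ?_, fun y hy => subtype_specializes_iff g y |>.1 (hg.specializes hy), fun y hy => ?_⟩
  · rw [(IsEmbedding.subtypeVal.homeomorphImage Q).isHomeomorph.topologicalKrullDim_eq, him]
    refine le_antisymm ?_ (le_topDim k c hlc ⟨subset_closure rfl, g.2⟩)
    have := topDim_add_le k c hlc 0 (dimOver k c g.1) fun z hz =>
      dimOver_le k c (specializes_iff_mem_closure.2 hz.1)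
    simpa using this
  · have hy' : y ⤳ g := (subtype_specializes_iff y g).2 hy
    have hsub : Q ⊆ closure {y} := by rw [← hg.def]; exact hy'.closure_subset
    have hyQ : y ∈ Q := hQ.2 isIrreducible_singleton.closure hsub (subset_closure rfl)
    exact Subtype.ext (((subtype_specializes_iff g y).1 (hg.specializes hyQ)).antisymm hy).eq.symm

end

variable (π : C ⟶ X) (ι : W ⟶ X) (q : X ⟶ Spec (CommRingCat.of k)) [LocallyOfFiniteType q] [LocallyOfFiniteType π]
  {κ : RegImm.Kind} (n c : ℕ) (hι : RegImm.IsRegularImmersionOfCodim κ c ι)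
  (hC : ∀ P ∈ irreducibleComponents (C : Type u), topologicalKrullDim P = n)

include hι in
omit [LocallyOfFiniteType q] [LocallyOfFiniteType π] in
lemma locallyClosed : IsLocallyClosed (π ⁻¹' Set.range ι) :=
  (haveI := hι.1; ι.isLocallyClosed_range).preimage π.continuous

include hC in
lemma dimOver_generic {P : Set C} (hP : P ∈ irreducibleComponents (C : Type u)) {η : C}
    (hη : IsGenericPoint η P) : dimOver k (π ≫ q) η = n := by
  have := topDim_closure_eq k (π ≫ q) η
  rw [hη.def, hC P hP] at this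
  exact_mod_cast this.symm

include hC in
lemma dimOver_le_n (y : C) : dimOver k (π ≫ q) y ≤ n := by
  obtain ⟨η, hη⟩ := QuasiSober.sober (S := irreducibleComponent y) isIrreducible_irreducibleComponent
    isClosed_irreducibleComponent
  rw [← dimOver_generic k π q n hC (irreducibleComponent_mem_irreducibleComponents y) hη]
  exact dimOver_le k _ (hη.specializes mem_irreducibleComponent)

include k q hι hC in
theorem meets_properly_iff :
    (∀ P ∈ irreducibleComponents (C : Type u), ∀ Q ∈ irreducibleComponents (P ∩ π ⁻¹' Set.range ι : Set C),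
        topologicalKrullDim Q + (c : WithBot ℕ∞) = n) ↔
      topologicalKrullDim (π ⁻¹' Set.range ι : Set C) + (c : WithBot ℕ∞) ≤ n := by
  have hlc := locallyClosed π ι c hι
  have hlcP : ∀ P ∈ irreducibleComponents (C : Type u), IsLocallyClosed (P ∩ π ⁻¹' Set.range ι) :=
    fun P hP => (isClosed_of_mem_irreducibleComponents P hP).isLocallyClosed.inter hlc
  constructor
  · intro h
    refine topDim_add_le k (π ≫ q) hlc c n fun y hy => ?_
    have hP := irreducibleComponent_mem_irreducibleComponents y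
    let y' : (irreducibleComponent y ∩ π ⁻¹' Set.range ι : Set C) := ⟨y, mem_irreducibleComponent, hy⟩
    have hQ := irreducibleComponent_mem_irreducibleComponents y'
    obtain ⟨g, -, hdim, hspec, -⟩ := exists_generic k (π ≫ q) (hlcP _ hP) hQ
    have e := h _ hP _ hQ
    rw [hdim] at e
    have e' : dimOver k (π ≫ q) g.1 + c = n := by exact_mod_cast e
    have := dimOver_le k (π ≫ q) (hspec y' mem_irreducibleComponent)
    have hyy : dimOver k (π ≫ q) y'.1 = dimOver k (π ≫ q) y := rfl
    show dimOver k (π ≫ q) y + c ≤ n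
    omega
  · intro h P hP Q hQ
    obtain ⟨g, -, hdim, -, hmax⟩ := exists_generic k (π ≫ q) (hlcP P hP) hQ
    obtain ⟨η, hη⟩ := QuasiSober.sober hP.1 (isClosed_of_mem_irreducibleComponents P hP)
    rw [hdim]
    have hge := KrullPts.dimOver_le_add k π q hι (hη.specializes g.2.1) g.2.2 fun y hηy hyg hy =>
      congrArg Subtype.val (hmax ⟨y, hηy.mem_closed (isClosed_of_mem_irreducibleComponents P hP) hη.mem, hy⟩ hyg)
    rw [dimOver_generic k π q n hC hP hη] at hge
    have hle : (dimOver k (π ≫ q) g.1 : WithBot ℕ∞) + c ≤ n :=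
      (add_le_add_left (le_topDim k (π ≫ q) hlc g.2.2) _).trans h
    have hle' : dimOver k (π ≫ q) g.1 + c ≤ n := by exact_mod_cast hle
    exact_mod_cast (show dimOver k (π ≫ q) g.1 + c = n by omega)

variable [CompactSpace C] [CompactSpace X]

include k q hι hC in
theorem semi_properly_iff (hB : ∀ j : ℕ, IsClosed (B π j)) :
    (∀ j : ℕ, topologicalKrullDim (B π j) + (j : WithBot ℕ∞) ≤ n) ∧
      (topologicalKrullDim (π ⁻¹' Set.range ι : Set C) + (c : WithBot ℕ∞) ≤ n ↔
        ∀ j : ℕ, topologicalKrullDim (ι ⁻¹' B π j : Set W) + (c : WithBot ℕ∞) + (j : WithBot ℕ∞) ≤ n) := by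
  have hn : topologicalKrullDim C ≤ n := by
    rw [topDim_eq_iSup k (π ≫ q)]
    exact iSup_le fun y => Nat.cast_le.2 (dimOver_le_n k π q n hC y)
  refine ⟨fun j => ?_, ?_⟩
  · have := (DimSemi.main k π q n).1 hn j
    rwa [(hB j).closure_eq] at this
  have hlc := locallyClosed π ι c hι
  haveI := hι.1
  have hlcj : ∀ j, IsLocallyClosed (Set.range ι ∩ B π j) := fun j =>
    ι.isLocallyClosed_range.inter (hB j).isLocallyClosed
  have hW : ∀ j, topologicalKrullDim (ι ⁻¹' B π j : Set W) = topologicalKrullDim (Set.range ι ∩ B π j : Set X) := by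
    intro j
    rw [(ι.isEmbedding.homeomorphImage (ι ⁻¹' B π j)).isHomeomorph.topologicalKrullDim_eq,
      Set.image_preimage_eq_inter_range, Set.inter_comm]
  constructor
  · intro h j
    rw [hW, add_assoc, ← Nat.cast_add]
    refine topDim_add_le k q (hlcj j) (c + j) n fun x hx => ?_
    obtain ⟨y, rfl, hy⟩ := exists_le_of_topDim_fibre π
      (hx.2.trans_eq (π.fiberHomeo x).isHomeomorph.topologicalKrullDim_eq)
    obtain ⟨t, ht, hD⟩ := exists_dimOver_eq k π q y
    rw [ht, Nat.cast_le] at hy
    have h1 : (dimOver k (π ≫ q) y : WithBot ℕ∞) + c ≤ n :=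
      (add_le_add_left (le_topDim k (π ≫ q) hlc hx.1) _).trans h
    have h2 : dimOver k (π ≫ q) y + c ≤ n := by exact_mod_cast h1
    omega
  · intro h
    refine topDim_add_le k (π ≫ q) hlc c n fun y hy => ?_
    obtain ⟨t, ht, hD⟩ := exists_dimOver_eq k π q y
    have hB' : π y ∈ Set.range ι ∩ B π t :=
      ⟨hy, (ht ▸ le_fibreDimAt π y).trans (fibreDimAt_le_topDim_fiber π y)⟩
    have h1 : (dimOver k q (π y) : WithBot ℕ∞) + c + t ≤ n := by
      refine le_trans ?_ (h t)
      rw [hW]
      exact add_le_add_left (add_le_add_left (le_topDim k q (hlcj t) hB') _) _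
    have h2 : dimOver k q (π y) + c + t ≤ n := by exact_mod_cast h1
    omega

end Groth.Agent.Desc44.SemiProper
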