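import Groth.Agent.ProjBundleLib.Projective
import Groth.Agent.CycLib.ProjBdl.Chart
import Groth.Agent.PerfTri.Betti
import Groth.Agent.LFFrame.Basic
import Groth.Agent.Props.QProj
import Groth.Agent.S1109
import Groth.Agent.QCoh.Exact
import Mathlib.AlgebraicGeometry.Morphisms.Smooth

/-! Projective morphisms to regular separated schemes factor through smooth projective bundles. -/

set_option autoImplicit false

universe u

open CategoryTheory CategoryTheory.Limits AlgebraicGeometry TopologicalSpace Opposite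
open RelProj Groth.Agent.ProjBundleLib Groth.Agent.CycLib.ProjBdl

noncomputable section

namespace Groth.Agent.Desc44.SmoothFactor

variable {Y X : Scheme.{u}}

lemma isFT_of_isFinLocFree {E : Y.Modules} (hE : FlatMod.IsFinLocFree E) [E.IsQuasicoherent] :
    CohB1.IsFT E :=
  (QCoh.isFiniteType_iff E).2 fun U hU => by
    have : Module.FinitePresentation Γ(Y, U) Γ(E, U) := Props.QProj.finitePresentation_sections (M := E) hE hU
    infer_instance

lemma smooth_C (R : CommRingCat.{u}) (σ : Type) [Finite σ] :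
    Smooth (Spec.map (CommRingCat.ofHom (MvPolynomial.C : R →+* MvPolynomial σ R))) := by
  rw [HasRingHomProperty.Spec_iff (P := @Smooth)]
  change RingHom.Smooth (algebraMap R (MvPolynomial σ R))
  rw [RingHom.smooth_algebraMap]
  exact { }

/-- The bundle of a finite locally free module is smooth. -/
theorem smooth_bundle {E : Y.Modules} (hE : FlatMod.IsFinLocFree E) [E.IsQuasicoherent] (B : Bundle E) :
    Smooth B.p := by
  choose U r e hmem he using fun y => LFFrame.exists_isFrame_of_isFinLocFree hE y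
  choose V hV hyV hVU using fun y => exists_isAffineOpen_mem_and_subset (x := y) (U := U y) (hmem y)
  let e' : ∀ y, Fin (r y) → Γ(E, V y) := fun y i => E.presheaf.map (homOfLE (hVU y)).op (e y i)
  have he' : ∀ y, Function.Bijective (LFFrame.comb E (e' y) (le_refl (V y))) := fun y => by
    have hc : LFFrame.comb E (e' y) (le_refl (V y)) = LFFrame.comb E (e y) (hVU y) := by
      funext a
      exact Finset.sum_congr rfl fun i _ => congrArg _ (LFFrame.res_res _ _ _ _)
    rw [hc]
    exact he y (V y) (hVU y)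
  let em := fun y => RelProj.emb B.p B.chart (V y) (hV y)
  let h := fun y => isPoly B.hj (hV y) (he' y)
  let c : ∀ i : Σ y : Y, Fin (r y), _ ⟶ B.P := fun i => acm (h i.1) (em i.1) i.2
  let 𝒰 : B.P.OpenCover := Scheme.Cover.mkOfCovers (Σ y : Y, Fin (r y)) _ c
    (fun x => by
      obtain ⟨z, hz⟩ : x ∈ Set.range (em (B.p x)) := (opensRange_emb (hV _) B.p B.chart).ge (hyV (B.p x))
      obtain ⟨m, hm⟩ := mem_range_acm (h (B.p x)) (em (B.p x)) z
      rw [hz] at hm
      exact ⟨⟨B.p x, m⟩, hm⟩)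
    (fun i => inferInstanceAs (IsOpenImmersion (acm (h i.1) (em i.1) i.2)))
  rw [IsZariskiLocalAtSource.iff_of_openCover (P := @Smooth) 𝒰]
  rintro ⟨y, m⟩
  have h1 : em y ≫ B.p = Proj.toSpecZero (B.alg.deg (V y) (hV y)) ≫
      Spec.map (B.alg.strZero (V y) (hV y)) ≫ (hV y).fromSpec := by
    show ((B.chart (V y) (hV y)).inv ≫ (B.p ⁻¹ᵁ V y).ι) ≫ B.p = _
    rw [Category.assoc, ← B.hP.chart_over (V y) (hV y), Iso.inv_hom_id_assoc]
  have h2 : acm (h y) (em y) m ≫ B.p =
      Spec.map (CommRingCat.ofHom (MvPolynomial.C : Γ(Y, V y) →+* MvPolynomial (Var m) Γ(Y, V y))) ≫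
        (hV y).fromSpec := by
    unfold acm
    rw [Category.assoc, Category.assoc, h1, Proj.awayι_toSpecZero_assoc, ← Spec.map_comp_assoc, ← Spec.map_comp_assoc]
    congr 2
    refine CommRingCat.hom_ext (RingHom.ext fun a => ?_)
    show (chartEquiv (h y) m).symm (cst (h y) m a) = MvPolynomial.C a
    rw [RingEquiv.symm_apply_eq]
    exact (chartMap_C (h y) m a).symm
  show Smooth (acm (h y) (em y) m ≫ B.p)
  rw [h2]
  have := smooth_C Γ(Y, V y) (Var m)
  infer_instance

/-- A projective morphism to a scheme with the resolution property factors through the bundle of a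
finite locally free module. -/
theorem exists_bundle_embedding (hY : PerfAux.HasResolutionProperty Y) {f : X ⟶ Y}
    (hf : RelProj.IsProjective f) :
    ∃ (P : Scheme.{u}) (i : X ⟶ P) (p : P ⟶ Y),
      IsClosedImmersion i ∧ Smooth p ∧ RelProj.IsProjective p ∧ i ≫ p = f := by
  obtain ⟨𝒮, P₀, p₀, chart, e, hgen, hft, hP, he⟩ := hf
  obtain ⟨E, π, hE, hπ⟩ := hY (one 𝒮) (inferInstance : (one 𝒮).IsQuasicoherent) (isFT_one 𝒮 hft)
  haveI := PerfTri.Betti.isQuasicoherent_of_isFinLocFree hE
  obtain ⟨B⟩ := exists_bundle E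
  obtain ⟨i, hi, hip⟩ := exists_closedImmersion (u := π ≫ oneι 𝒮) hgen
    (fun U hU x => oneι_mem 𝒮 U hU (π.app U x))
    (fun U hU s hs => by
      obtain ⟨z, hz⟩ := exists_oneι 𝒮 U hU s hs
      obtain ⟨x, rfl⟩ := QCoh.app_surjective_of_epi π hU z
      exact ⟨x, hz⟩)
    B.hj B.hP hP
  exact ⟨B.P, e.hom ≫ i, B.p, inferInstance, smooth_bundle hE B,
    isProjective_bundle (isFT_of_isFinLocFree hE) B, by rw [Category.assoc, hip, he]⟩

/-- The resolution property of a regular Noetherian separated scheme. -/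
theorem hasResolutionProperty (S : Scheme.{u}) [IsNoetherian S] [S.IsSeparated]
    (hS : ∀ s : S, IsRegularLocalRing (S.presheaf.stalk s)) : PerfAux.HasResolutionProperty S :=
  S1109.result S hS fun _ _ hU hV => hU.inf hV

/-- An open immersion followed by a projective morphism factors as a closed immersion into a smooth
open subscheme of a projective bundle. -/
theorem exists_quasi_embedding (hY : PerfAux.HasResolutionProperty Y) {Z : Scheme.{u}} (v : X ⟶ Z)
    [IsOpenImmersion v] {q : Z ⟶ Y} (hq : RelProj.IsProjective q) :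
    ∃ (W : Scheme.{u}) (i : X ⟶ W) (p : W ⟶ Y), IsClosedImmersion i ∧ Smooth p ∧
      (∃ (P : Scheme.{u}) (v' : W ⟶ P) (q' : P ⟶ Y),
        IsOpenImmersion v' ∧ RelProj.IsProjective q' ∧ v' ≫ q' = p) ∧ i ≫ p = v ≫ q := by
  obtain ⟨P, i₀, p, hi₀, hp, hpp, hip⟩ := exists_bundle_embedding hY hq
  let C : Set P := i₀ '' (Set.range v)ᶜ
  have hC : IsClosed C := i₀.isClosedEmbedding.isClosedMap _ v.isOpenEmbedding.isOpen_range.isClosed_compl
  let W : P.Opens := ⟨Cᶜ, hC.isOpen_compl⟩
  have hpre : i₀ ⁻¹ᵁ W = v.opensRange := by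
    ext z
    show i₀ z ∉ i₀ '' (Set.range v)ᶜ ↔ z ∈ Set.range v
    rw [i₀.isClosedEmbedding.injective.mem_set_image, Set.notMem_compl_iff]
  let i : X ⟶ (W : Scheme.{u}) := v.isoOpensRange.hom ≫ (Z.isoOfEq hpre.symm).hom ≫ (i₀ ∣_ W)
  haveI : IsClosedImmersion (i₀ ∣_ W) := IsZariskiLocalAtTarget.restrict hi₀ W
  refine ⟨W, i, W.ι ≫ p, inferInstanceAs (IsClosedImmersion (_ ≫ _ ≫ _)), inferInstance,
    ⟨P, W.ι, p, inferInstance, hpp, rfl⟩, ?_⟩
  simp only [i, Category.assoc, morphismRestrict_ι_assoc, Scheme.isoOfEq_hom_ι_assoc, hip]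
  rw [Scheme.Hom.isoOpensRange_hom_ι_assoc]

end Groth.Agent.Desc44.SmoothFactor
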