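import Groth.Agent.QuietLib.Syntomic
import Mathlib.RingTheory.AdjoinRoot
import Mathlib.RingTheory.Flat.FaithfullyFlat.Basic

/-!
# Splitting algebras of monic polynomials
-/

set_option autoImplicit false

universe u

open Polynomial Groth.Agent.QuietLib

noncomputable section

namespace Groth.Agent.Desc44.SplitAlg

theorem balanced_adjoinRoot (A : Type u) [CommRing A] (g : A[X]) : Balanced A (AdjoinRoot g) := by
  let e := MvPolynomial.pUnitAlgEquiv.{u, 0} A
  let π : MvPolynomial PUnit.{1} A →ₐ[A] AdjoinRoot g :=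
    ((Ideal.Quotient.mkₐ A (Ideal.span {g})) : A[X] →ₐ[A] AdjoinRoot g).comp e.toAlgHom
  have hπ : MvPolynomial.aeval (R := A) (fun _ : PUnit.{1} => AdjoinRoot.root g) = π := by
    apply MvPolynomial.algHom_ext
    intro i
    rw [MvPolynomial.aeval_X]
    change _ = Ideal.Quotient.mk (Ideal.span {g}) (MvPolynomial.pUnitAlgEquiv A (MvPolynomial.X i))
    rw [show MvPolynomial.pUnitAlgEquiv A (MvPolynomial.X i) = Polynomial.X by simp]
    rfl
  have hsurj : Function.Surjective (MvPolynomial.aeval (R := A) (fun _ : PUnit.{1} => AdjoinRoot.root g)) := by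
    rw [hπ]
    exact (Ideal.Quotient.mkₐ_surjective A _).comp e.surjective
  refine ⟨PUnit.{1}, PUnit.{1}, inferInstance, inferInstance, rfl, ⟨{
    toGenerators := Algebra.Generators.ofSurjective _ hsurj
    relation := fun _ => e.symm g
    span_range_relation_eq_ker := ?_ }⟩⟩
  rw [Algebra.Generators.ker_eq_ker_aeval_val]
  change _ = RingHom.ker (MvPolynomial.aeval (R := A) (fun _ : PUnit.{1} => AdjoinRoot.root g))
  rw [hπ, Set.range_const]
  ext q
  rw [RingHom.mem_ker]
  change q ∈ Ideal.span {e.symm g} ↔ Ideal.Quotient.mk (Ideal.span {g}) (e q) = 0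
  rw [Ideal.Quotient.eq_zero_iff_mem, Ideal.mem_span_singleton, Ideal.mem_span_singleton]
  constructor
  · rintro ⟨c, rfl⟩
    exact ⟨e c, by rw [map_mul, AlgEquiv.apply_symm_apply]⟩
  · rintro ⟨c, hc⟩
    exact ⟨e.symm c, e.injective (by rw [hc, map_mul, AlgEquiv.apply_symm_apply, AlgEquiv.apply_symm_apply])⟩

theorem balanced_self (A : Type u) [CommRing A] : Balanced A A :=
  ⟨PEmpty.{1}, PEmpty.{1}, inferInstance, inferInstance, rfl, ⟨Algebra.Presentation.id A⟩⟩

/-- A monic polynomial splits over a balanced finite free faithfully flat algebra. -/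
theorem exists_split : ∀ (n : ℕ) (A : Type u) [CommRing A] (P : A[X]), P.Monic → P.natDegree ≤ n →
    ∃ (A' : Type u) (_ : CommRing A') (_ : Algebra A A'), Balanced A A' ∧ Module.Finite A A' ∧
      Module.Free A A' ∧ Module.FaithfullyFlat A A' ∧
      ∃ s : Multiset A', P.map (algebraMap A A') = (s.map fun b => X - C b).prod
  | 0, A, _, P, hP, hn => ⟨A, inferInstance, inferInstance, balanced_self A, inferInstance, inferInstance,
      inferInstance, 0, by simp [hP.natDegree_eq_zero.1 (Nat.le_zero.1 hn)]⟩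
  | n + 1, A, _, P, hP, hn => by
    rcases eq_or_ne P.natDegree 0 with h0 | h0
    · exact ⟨A, inferInstance, inferInstance, balanced_self A, inferInstance, inferInstance,
        inferInstance, 0, by simp [hP.natDegree_eq_zero.1 h0]⟩
    let A₁ := AdjoinRoot P
    have : Nontrivial A := Polynomial.nontrivial_iff.1 (nontrivial_of_ne P 1 fun h => h0 (by simp [h]))
    have : Nonempty (Fin (AdjoinRoot.powerBasis' hP).dim) :=
      ⟨⟨0, (AdjoinRoot.powerBasis'_dim hP).symm ▸ Nat.pos_of_ne_zero h0⟩⟩
    have : Nontrivial A₁ := (AdjoinRoot.powerBasis' hP).basis.repr.toEquiv.nontrivial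
    have : Module.Finite A A₁ := hP.finite_adjoinRoot
    have : Module.Free A A₁ := hP.free_adjoinRoot
    let r : A₁ := AdjoinRoot.root P
    let P₁ := P.map (algebraMap A A₁)
    have hr : IsRoot P₁ r := AdjoinRoot.isRoot_root P
    let Q := P₁ /ₘ (X - C r)
    have hPQ : (X - C r) * Q = P₁ := mul_divByMonic_eq_iff_isRoot.2 hr
    have hQ : Q.Monic := (monic_X_sub_C r).of_mul_monic_left (hPQ ▸ hP.map _)
    have hQn : Q.natDegree ≤ n := by
      have := congrArg natDegree hPQ
      rw [(monic_X_sub_C r).natDegree_mul hQ, natDegree_X_sub_C, hP.natDegree_map] at this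
      omega
    obtain ⟨A', hr', ha', hb, hf, hfree, hff, s, hs⟩ := exists_split n A₁ Q hQ hQn
    let _ : Algebra A A' := ((algebraMap A₁ A').comp (algebraMap A A₁)).toAlgebra
    have : IsScalarTower A A₁ A' := IsScalarTower.of_algebraMap_eq fun _ => rfl
    refine ⟨A', hr', inferInstance, (balanced_adjoinRoot A P).trans hb, Module.Finite.trans A₁ A',
      Module.Free.trans (S := A₁), Module.FaithfullyFlat.trans A A₁ A', algebraMap A₁ A' r ::ₘ s, ?_⟩
    rw [Multiset.map_cons, Multiset.prod_cons, IsScalarTower.algebraMap_eq A A₁ A', ← Polynomial.map_map,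
      show P.map (algebraMap A A₁) = P₁ from rfl, ← hPQ, Polynomial.map_mul, hs]
    simp

end Groth.Agent.Desc44.SplitAlg
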