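import Groth.Agent.DualAbs.DetSeq
import Groth.Agent.Omega.ProdDiff

/-!
# Top exterior powers of locally free modules commute with pullback
-/

set_option autoImplicit false
set_option linter.style.haveILetI false

universe u

open CategoryTheory CategoryTheory.Limits AlgebraicGeometry TopologicalSpace Opposite TensorProduct

noncomputable section

namespace Groth.Agent.Desc44.TopPull

open Groth.Agent.PullStalk.Sky Groth.Agent.PullStalk.Exact Groth.Agent.PullStalk.Basic
  Groth.Agent.Omega.Stalks Groth.Agent.QCoh Groth.Agent.Props.SubMod Groth.Agent.Props.SubSheaf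
  Groth.Agent.ExtPowSt Groth.Agent.KFlat.StalkTensor Groth.Agent.ExtFilt.Stalkwise
  Groth.Agent.ExtFilt.Sheaf Groth.Agent.ExtFilt.Alg Groth.Agent.DualAbs.DetSeq
open Groth.Agent.Omega.ProdDiff (stalkLin_id)

/-- The top exterior power of `E'` is the pullback of that of `E` when `E' ≅ g^*E`. -/
theorem nonempty_iso {X P : Scheme.{u}} (g : X ⟶ P) {n : ℕ} {E' L' : X.Modules} {E L : P.Modules}
    [E'.IsQuasicoherent] [E.IsQuasicoherent] (e : (Scheme.Modules.pullback g).obj E ≅ E')
    (hL' : ExtPow.IsExtPow n E' L') (hL : ExtPow.IsExtPow n E L)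
    (hb : ∀ z, Nonempty (Module.Basis (Fin n) (P.presheaf.stalk z) (E.presheaf.stalk z))) :
    Nonempty (L' ≅ (Scheme.Modules.pullback g).obj L) := by
  classical
  let Φ' : Sys n E' L' := ⟨hL'.choose, hL'.choose_spec⟩
  let Φ : Sys n E L := ⟨hL.choose, hL.choose_spec⟩
  choose θ hθb hθ using fun y => exists_top g Φ y (hb (g y)).some
  have hinv : ∀ y, Function.Bijective (stalkLin e.inv y) := fun y => by
    refine Function.bijective_iff_has_inverse.mpr ⟨stalkLin e.hom y, fun t => ?_, fun t => ?_⟩
    · rw [← stalkLin_comp, e.inv_hom_id, stalkLin_id]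
    · rw [← stalkLin_comp, e.hom_inv_id, stalkLin_id]
  let eE : ∀ y : X, E'.presheaf.stalk y ≃ₗ[X.presheaf.stalk y]
      ((Scheme.Modules.pullback g).obj E).presheaf.stalk y := fun y => LinearEquiv.ofBijective _ (hinv y)
  let φ := fun y : X => θ y ∘ₗ exteriorPower.map n (eE y).toLinearMap ∘ₗ (stalkEquiv Φ' y).toLinearMap
  have hgen : ∀ x, Loc φ x ((stalkEquiv Φ' x).symm (exteriorPower.ιMulti _ n fun k =>
      stalkLin e.hom x (unitStalkHom g E x ((hb (g x)).some k)))) := by
    intro x
    obtain ⟨U, hxU, -, s, hs⟩ := exists_lifts E (g x) (hb (g x)).some ⊤ trivial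
    obtain ⟨T, hT, hxT, hTU⟩ := exists_isAffineOpen_mem_and_subset (X := X) (x := x) (U := g ⁻¹ᵁ U.1) hxU
    let us : Fin n → Γ((Scheme.Modules.pullback g).obj E, g ⁻¹ᵁ U.1) := fun k =>
      ((Scheme.Modules.pullbackPushforwardAdjunction g).unit.app E).app U.1 (s k)
    let T' : X.affineOpens := ⟨T, hT⟩
    let v : Fin n → Γ(E', T) := fun k => e.hom.app T (res _ hTU (us k))
    have hv : ∀ y (hy : y ∈ T) k, germM E' T y hy (v k) =
        stalkLin e.hom y (unitStalkHom g E y (germM E U.1 (g y) (hTU hy) (s k))) := fun y hy k => by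
      refine (stalkLin_germ e.hom T y hy (res _ hTU (us k))).symm.trans (congrArg (stalkLin e.hom y) ?_)
      exact (germM_res' _ hTU y hy _).trans (unitStalkHom_germ g E y U.1 (hTU hy) (s k)).symm
    refine ⟨T, hxT, wsec Φ' T' v, res _ hTU
      (((Scheme.Modules.pullbackPushforwardAdjunction g).unit.app L).app U.1 (wsec Φ U s)), ?_, fun y hy => ?_⟩
    · refine (stalkEquiv Φ' x).injective ((equiv_wedge Φ' T' x hxT v).trans ?_)
      rw [LinearEquiv.apply_symm_apply]
      exact congrArg _ (funext fun k => (hv x hxT k).trans (by rw [hs k]))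
    · show θ y (exteriorPower.map n (eE y).toLinearMap (stalkEquiv Φ' y _)) = _
      rw [equiv_wedge Φ' T' y hy v, exteriorPower.map_apply_ιMulti]
      refine Eq.trans ?_ ((germM_res' _ hTU y hy _).trans
        (unitStalkHom_germ g L y U.1 (hTU hy) (wsec Φ U s)).symm).symm
      refine Eq.trans ?_ ((hθ y fun k => germM E U.1 (g y) (hTU hy) (s k)).trans (congrArg (unitStalkHom g L y)
        ((LinearEquiv.symm_apply_eq _).2 (equiv_wedge Φ U (g y) (hTU hy) s).symm)))
      refine congrArg (θ y) (congrArg _ (funext fun k => ?_))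
      show stalkLin e.inv y (germM E' T y hy (v k)) = _
      rw [hv y hy k, ← stalkLin_comp, e.hom_inv_id, stalkLin_id]
  have hloc : ∀ x t, Loc φ x t := by
    intro x t
    obtain ⟨b', hb'⟩ := exists_pull_basis g E x (hb (g x)).some
    have hehom : Function.Bijective (stalkLin e.hom x) := by
      refine Function.bijective_iff_has_inverse.mpr ⟨stalkLin e.inv x, fun t => ?_, fun t => ?_⟩
      · rw [← stalkLin_comp, e.hom_inv_id, stalkLin_id]
      · rw [← stalkLin_comp, e.inv_hom_id, stalkLin_id]
    let b := b'.map (LinearEquiv.ofBijective _ hehom)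
    obtain ⟨c, hc⟩ := (bijective_smul_ιMulti b).2 (stalkEquiv Φ' x t)
    rw [← (stalkEquiv Φ' x).symm_apply_apply t, ← hc, LinearMap.toSpanSingleton_apply, LinearEquiv.map_smul]
    refine loc_smul c ?_
    rw [show ⇑b = fun k => stalkLin e.hom x (unitStalkHom g E x ((hb (g x)).some k)) from funext fun k => by
      rw [← hb' k]; rfl]
    exact hgen x
  obtain ⟨h, hh⟩ := exists_hom hloc
  haveI : IsIso h := isIso_of_stalk fun y => by
    rw [show (stalkLin h y : _ → _) = φ y from funext (hh y)]
    have hmap : Function.Bijective (exteriorPower.map n (eE y).toLinearMap) := by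
      refine Function.bijective_iff_has_inverse.mpr
        ⟨exteriorPower.map n (eE y).symm.toLinearMap, fun z => ?_, fun z => ?_⟩
      · rw [← LinearMap.comp_apply, ← exteriorPower.map_comp, LinearEquiv.comp_coe, LinearEquiv.self_trans_symm,
          LinearEquiv.refl_toLinearMap, exteriorPower.map_id, LinearMap.id_apply]
      · rw [← LinearMap.comp_apply, ← exteriorPower.map_comp, LinearEquiv.comp_coe, LinearEquiv.symm_trans_self,
          LinearEquiv.refl_toLinearMap, exteriorPower.map_id, LinearMap.id_apply]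
    exact (hθb y).comp (hmap.comp (stalkEquiv Φ' y).bijective)
  exact ⟨asIso h⟩

end Groth.Agent.Desc44.TopPull
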