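import Groth.Agent.Desc44.ModDesc
import Groth.Agent.Desc44.CharDescent

/-! Module descent along universally injective ring maps.  Everything is proved for an abstract descent
datum equipped with an identification with the canonical one. -/

set_option autoImplicit false

open CategoryTheory Opposite ModuleCat TensorProduct
open scoped ChangeOfRings

universe u

noncomputable section

namespace Groth.Agent.Desc44.UnivInjDesc

open ModDesc

variable {R S : Type u} [CommRing R] [CommRing S] [Algebra R S]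

attribute [local instance] ModDesc.modN ModDesc.towerN

theorem μ_bijective (hj : Pi1.UnivInjective R S)
    (D : Desc.ringModPF.{u}.DescentData (fun _ : PUnit.{u + 1} => (sm R S).op)) : Function.Bijective (μ D) := by
  obtain ⟨Ψ, hΨ⟩ := CharDescent.exists_split hj
  refine ⟨fun x y h => CharDescent.lTensor_subtype_injective Ψ hΨ ((ρ D).restrictScalars R) (coassoc D)
    ((ρ_μ D x).symm.trans ((congrArg (ρ D) h).trans (ρ_μ D y))), fun n => ?_⟩
  obtain ⟨b, hb⟩ := CharDescent.exists_preimage Ψ hΨ ((ρ D).restrictScalars R) (coassoc D) (ρ D n) (coassoc D n)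
  exact ⟨b, (congrArg (act D) hb).trans (act_ρ D n)⟩

lemma map_tm {T : CommRingCat.{u}} (φ : CommRingCat.of S ⟶ T) {X Y : ModuleCat.{u} (CommRingCat.of S)} (v : X ⟶ Y) (x : X) :
    (extendScalars φ.hom).map v (tm φ (1 : T) x) = tm φ (1 : T) (v x) :=
  ExtendScalars.map_tmul _ _ _ _

variable {M M' : ModuleCat.{u} (CommRingCat.of R)}
  {D D' : Desc.ringModPF.{u}.DescentData (fun _ : PUnit.{u + 1} => (sm R S).op)}

variable (u : Ext (sm R S) M ≅ ModDesc.N D) (u' : Ext (sm R S) M' ≅ ModDesc.N D')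

/-- compatibility of an identification with the gluing -/
def IsCompat : Prop :=
  ∀ {T : CommRingCat.{u}} (φ₁ φ₂ : CommRingCat.of S ⟶ T) (h : sm R S ≫ φ₁ = sm R S ≫ φ₂)
    (w₁ : (sm R S).op.op.toLoc ≫ φ₁.op.op.toLoc = (sm R S ≫ φ₁).op.op.toLoc)
    (w₂ : (sm R S).op.op.toLoc ≫ φ₂.op.op.toLoc = (sm R S ≫ φ₁).op.op.toLoc),
    (extendScalars φ₁.hom).map u.hom ≫ H D φ₁ φ₂ h =
      (mcInv (sm R S) φ₁ (sm R S ≫ φ₁) M w₁ ≫ mcHom (sm R S) φ₂ (sm R S ≫ φ₁) M w₂) ≫
        (extendScalars φ₂.hom).map u.hom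

/-- `1 ⊗ m` in the underlying module -/
def c1 (m : M) : ModDesc.N D := u.hom (tm (sm R S) (1 : CommRingCat.of S) m)

lemma H_c1 (hu : IsCompat u) {T : CommRingCat.{u}} (φ₁ φ₂ : CommRingCat.of S ⟶ T)
    (h : sm R S ≫ φ₁ = sm R S ≫ φ₂) (m : M) :
    H D φ₁ φ₂ h (tm φ₁ (1 : T) (c1 u m)) = tm φ₂ (1 : T) (c1 u m) := by
  have w₁ : (sm R S).op.op.toLoc ≫ φ₁.op.op.toLoc = (sm R S ≫ φ₁).op.op.toLoc := rfl
  have w₂ : (sm R S).op.op.toLoc ≫ φ₂.op.op.toLoc = (sm R S ≫ φ₁).op.op.toLoc := by rw [h]; rfl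
  have e₁ := congrArg (fun A : Ext φ₁ (Ext (sm R S) M) ⟶ Ext φ₂ (ModDesc.N D) =>
    A (tm φ₁ (1 : T) (tm (sm R S) (1 : CommRingCat.of S) m))) (hu φ₁ φ₂ h w₁ w₂)
  simp only [ConcreteCategory.comp_apply] at e₁
  rw [mapComp'_inv_tm (sm R S) φ₁ _ rfl, mapComp'_hom_tm (sm R S) φ₂ _ h.symm, map_tm, map_tm] at e₁
  exact e₁

lemma e_one (n : ModDesc.N D) : e D (tm (r R S) (1 : T₂ R S) n) = (1 : S) ⊗ₜ[R] n := by
  rw [show (1 : T₂ R S) = ((1 : S) ⊗ₜ[R] (1 : S) : T₂ R S) from Algebra.TensorProduct.one_def, e_tm, one_smul]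

lemma ρ_eq_of_H (n : ModDesc.N D)
    (h : H D (l R S) (r R S) (lr R S) (tm (l R S) (1 : T₂ R S) n) = tm (r R S) (1 : T₂ R S) n) :
    ρ D n = (1 : S) ⊗ₜ[R] n :=
  (congrArg (e D) h).trans (e_one n)

variable (M) in
/-- `Ext` to the tensor product -/
def toT : Ext (sm R S) M →+ S ⊗[R] M :=
  liftExt (sm R S)
    { toFun := fun s => (TensorProduct.mk R S M s).toAddMonoidHom
      map_zero' := by ext m; simp
      map_add' := fun s t => by ext m; simp [TensorProduct.add_tmul] }
    fun c s m => by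
      show (algebraMap R S c * s) ⊗ₜ[R] m = s ⊗ₜ[R] (c • m : M)
      rw [← Algebra.smul_def, TensorProduct.smul_tmul]

lemma toT_smul (c : R) (x : Ext (sm R S) M) :
    toT M (((sm R S).hom c : CommRingCat.of S) • x) = c • toT (S := S) M x := by
  induction x using ext_induction with
  | h0 => simp
  | ht s m =>
    rw [tm_smul]
    show (algebraMap R S c * s) ⊗ₜ[R] m = c • (s ⊗ₜ[R] m)
    rw [← Algebra.smul_def, TensorProduct.smul_tmul']
  | ha x y hx hy => rw [smul_add, map_add, map_add, hx, hy, smul_add]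

lemma toT_injective : Function.Injective (toT (S := S) M) := by
  let ofT : S ⊗[R] M →+ Ext (sm R S) M := TensorProduct.liftAddHom
    { toFun := fun s =>
        { toFun := fun m => tm (sm R S) (s : CommRingCat.of S) m
          map_zero' := tm_zero _ _
          map_add' := tm_add (sm R S) _ }
      map_zero' := by ext m; exact tm_zero_left _ _
      map_add' := fun s t => by ext m; exact tm_add_left _ _ _ _ }
    fun c s m => by
      show tm (sm R S) ((c • s : S) : CommRingCat.of S) m = _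
      rw [Algebra.smul_def]
      exact tm_balance (sm R S) c s m
  refine Function.LeftInverse.injective (g := ofT) fun x => ?_
  induction x using ext_induction with
  | h0 => rw [map_zero, map_zero]
  | ht s m => rfl
  | ha x y hx hy => rw [map_add, map_add, hx, hy]

/-- to the tensor product, linearly -/
def toTₗ : ModDesc.N D →ₗ[R] S ⊗[R] M where
  toFun x := toT M (u.inv x)
  map_add' x y := by rw [map_add, map_add]
  map_smul' c x := by
    show toT M (u.inv (((sm R S).hom c : CommRingCat.of S) • x)) = c • toT M (u.inv x)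
    rw [map_smul, toT_smul]

lemma toTₗ_smul_c1 (s : CommRingCat.of S) (m : M) : toTₗ u (s • c1 u m) = (s : S) ⊗ₜ[R] m := by
  show toT M (u.inv (s • u.hom (tm (sm R S) (1 : CommRingCat.of S) m))) = _
  rw [map_smul, Iso.hom_inv_id_apply, tm_smul, mul_one]
  rfl

lemma toTₗ_c1 (m : M) : toTₗ u (c1 u m) = (1 : S) ⊗ₜ[R] m := by
  have h := toTₗ_smul_c1 u (1 : CommRingCat.of S) m
  rw [one_smul] at h
  exact h

lemma exists_sum (x : ModDesc.N D) :
    ∃ (n : ℕ) (a : Fin n → CommRingCat.of S) (m : Fin n → M), x = ∑ i, a i • c1 u (m i) := by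
  have h : ∀ y : Ext (sm R S) M, u.hom y ∈ Submodule.span (CommRingCat.of S) (Set.range (c1 u)) := by
    intro y
    induction y using ext_induction with
    | h0 => rw [map_zero]; exact Submodule.zero_mem _
    | ht s m =>
      rw [tm_eq_smul_one, map_smul]
      exact Submodule.smul_mem _ _ (Submodule.subset_span ⟨m, rfl⟩)
    | ha a b ha hb => rw [map_add]; exact Submodule.add_mem _ ha hb
  have hx := h (u.inv x)
  rw [Iso.inv_hom_id_apply] at hx
  obtain ⟨n, a, g, hg⟩ := Submodule.mem_span_set'.1 hx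
  choose m hm using fun i => (g i).2
  exact ⟨n, a, m, by rw [← hg]; exact Finset.sum_congr rfl fun i _ => by rw [hm i]⟩

lemma toT_ρ (hu : IsCompat u) (x : ModDesc.N D) :
    LinearMap.lTensor S (toTₗ u) (ρ D x) = LinearMap.lTensor S (TensorProduct.mk R S M 1) (toTₗ u x) := by
  obtain ⟨n, a, m, rfl⟩ := exists_sum u x
  rw [map_sum, map_sum, map_sum, map_sum]
  refine Finset.sum_congr rfl fun i _ => ?_
  rw [map_smul, ρ_eq_of_H _ (H_c1 u hu (l R S) (r R S) (lr R S) (m i)), toTₗ_smul_c1]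
  show LinearMap.lTensor S (toTₗ u) ((a i : S) • ((1 : S) ⊗ₜ[R] c1 u (m i))) = _
  rw [TensorProduct.smul_tmul', smul_eq_mul, mul_one, LinearMap.lTensor_tmul, LinearMap.lTensor_tmul, toTₗ_c1]
  rfl

theorem c1_injective (hj : Pi1.UnivInjective R S) : Function.Injective (c1 u) := by
  obtain ⟨Ψ, hΨ⟩ := CharDescent.exists_split hj
  intro a b h
  refine CharDescent.one_tmul_injective Ψ hΨ ?_
  show (1 : S) ⊗ₜ[R] a = (1 : S) ⊗ₜ[R] b
  rw [← toTₗ_c1 u, ← toTₗ_c1 u, h]

lemma c1_add (x y : M) : c1 u (x + y) = c1 u x + c1 u y := by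
  unfold c1
  rw [tm_add, map_add]

lemma c1_smul (c : R) (x : M) : c1 u (c • x) = ((sm R S).hom c : CommRingCat.of S) • c1 u x := by
  unfold c1
  rw [← tm_balance, tm_eq_smul_one, map_smul, mul_one]

theorem exists_c1_eq (hu : IsCompat u) (hj : Pi1.UnivInjective R S) (a : ModDesc.N D)
    (ha : ρ D a = (1 : S) ⊗ₜ[R] a) : ∃ m : M, c1 u m = a := by
  obtain ⟨Ψ, hΨ⟩ := CharDescent.exists_split hj
  obtain ⟨m, hm⟩ := CharDescent.mem_range_of_eq Ψ hΨ (toTₗ u a) (by rw [← toT_ρ u hu, ha]; rfl)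
  refine ⟨m, ?_⟩
  rw [← toTₗ_c1 u] at hm
  exact Function.LeftInverse.injective (fun x => Iso.inv_hom_id_apply u x) (toT_injective hm)

include u u' in
theorem exists_hom (hu : IsCompat u) (hu' : IsCompat u') (hj : Pi1.UnivInjective R S) (α : D ⟶ D') :
    ∃ f : M ⟶ M', u.hom ≫ (show ModDesc.N D ⟶ ModDesc.N D' from α.hom PUnit.unit) =
      (extendScalars (sm R S).hom).map f ≫ u'.hom := by
  let β : ModDesc.N D ⟶ ModDesc.N D' := α.hom PUnit.unit
  have hβ : ∀ m : M, ρ D' (β (c1 u m)) = (1 : S) ⊗ₜ[R] (β (c1 u m)) := by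
    intro m
    have hc : (extendScalars (l R S).hom).map β ≫ H D' (l R S) (r R S) (lr R S) =
        H D (l R S) (r R S) (lr R S) ≫ (extendScalars (r R S).hom).map β :=
      α.comm (sm R S ≫ l R S).op (i₁ := PUnit.unit) (i₂ := PUnit.unit) (l R S).op (r R S).op (by rw [← op_comp])
        (by rw [← op_comp, lr])
    have hc' := congrArg (fun φ : Ext (l R S) (ModDesc.N D) ⟶ Ext (r R S) (ModDesc.N D') =>
        φ (tm (l R S) (1 : T₂ R S) (c1 u m))) hc
    simp only [ConcreteCategory.comp_apply] at hc'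
    rw [H_c1 u hu, map_tm, map_tm] at hc'
    exact ρ_eq_of_H _ hc'
  choose g hg using fun m => exists_c1_eq u' hu' hj _ (hβ m)
  have hinj := c1_injective u' hj
  let f : M ⟶ M' := ModuleCat.ofHom
    { toFun := g
      map_add' := fun x y => hinj (by rw [hg, c1_add, c1_add, hg, hg, map_add])
      map_smul' := fun c x => hinj (by
        show c1 u' (g (c • x)) = c1 u' (c • g x)
        rw [hg, c1_smul, c1_smul, hg, map_smul]) }
  refine ⟨f, ?_⟩
  show u.hom ≫ β = _
  refine hom_ext_tm (sm R S) fun m => ?_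
  rw [ConcreteCategory.comp_apply, ConcreteCategory.comp_apply]
  erw [ExtendScalars.map_tmul]
  exact (hg m).symm

include u' in
theorem eq_of_map_eq (hj : Pi1.UnivInjective R S) {f g : M ⟶ M'}
    (h : (extendScalars (sm R S).hom).map f = (extendScalars (sm R S).hom).map g) : f = g := by
  ext m
  refine c1_injective u' hj ?_
  show u'.hom (tm (sm R S) 1 (f m)) = u'.hom (tm (sm R S) 1 (g m))
  refine congrArg u'.hom ?_
  have := congrArg (fun φ : Ext (sm R S) M ⟶ Ext (sm R S) M' => φ (tm (sm R S) (1 : CommRingCat.of S) m)) h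
  simp only at this
  erw [ExtendScalars.map_tmul, ExtendScalars.map_tmul] at this
  exact this

/-- the canonical datum -/
abbrev F : ModuleCat.{u} (CommRingCat.of R) ⥤ Desc.ringModPF.{u}.DescentData (fun _ : PUnit.{u + 1} => (sm R S).op) :=
  Desc.ringModPF.{u}.toDescentData (fun _ : PUnit.{u + 1} => (sm R S).op)

lemma sq {C C' : Type*} [Category C] [Category C'] (G₁ G₂ : C ⥤ C') {X : C} (A : G₁.obj X ⟶ G₂.obj X) :
    G₁.map (𝟙 X) ≫ A = A ≫ G₂.map (𝟙 X) := by simp

/-- the canonical identification -/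
def can (M : ModuleCat.{u} (CommRingCat.of R)) : Ext (sm R S) M ≅ ModDesc.N ((F (S := S)).obj M) :=
  Iso.refl (Ext (sm R S) M)

lemma isCompat_can (M : ModuleCat.{u} (CommRingCat.of R)) : IsCompat (can (S := S) M) := by
  intro T φ₁ φ₂ h w₁ w₂
  exact sq (extendScalars φ₁.hom) (extendScalars φ₂.hom)
    (X := Ext (sm R S) M) (mcInv (sm R S) φ₁ (sm R S ≫ φ₁) M w₁ ≫ mcHom (sm R S) φ₂ (sm R S ≫ φ₁) M w₂)

lemma map_eq {M M' : ModuleCat.{u} (CommRingCat.of R)} (f : M ⟶ M') :
    (can (S := S) M).hom ≫ ((F (S := S)).map f).hom PUnit.unit =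
      (extendScalars (sm R S).hom).map f ≫ (can (S := S) M').hom :=
  (Category.id_comp ((extendScalars (sm R S).hom).map f)).trans (Category.comp_id _).symm

theorem full (hj : Pi1.UnivInjective R S) {M M' : ModuleCat.{u} (CommRingCat.of R)}
    (α : (F (S := S)).obj M ⟶ (F (S := S)).obj M') : ∃ f : M ⟶ M', (F (S := S)).map f = α := by
  obtain ⟨f, hf⟩ := exists_hom (can (S := S) M) (can (S := S) M') (isCompat_can M) (isCompat_can M') hj α
  exact ⟨f, Pseudofunctor.DescentData.hom_ext fun _ =>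
    (cancel_epi (can (S := S) M).hom).1 ((map_eq f).trans hf.symm)⟩

theorem faithful (hj : Pi1.UnivInjective R S) : (F (R := R) (S := S)).Faithful where
  map_injective {M M'} f g h := by
    refine eq_of_map_eq (can (S := S) M') hj ((cancel_mono (can (S := S) M').hom).1 ?_)
    exact (map_eq f).symm.trans ((congrArg (fun α => (can (S := S) M).hom ≫ α.hom PUnit.unit) h).trans (map_eq g))

theorem isEquivalence (hj : Pi1.UnivInjective R S) : (F (R := R) (S := S)).IsEquivalence where
  faithful := faithful hj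
  full := ⟨fun α => full hj α⟩
  essSurj := ⟨fun D => effective_of_bijective D (μ_bijective hj D)⟩

theorem univInjective_of_faithful [(F (R := R) (S := S)).Faithful] : Pi1.UnivInjective R S := by
  intro P _ _
  rw [injective_iff_map_eq_zero]
  intro x hx
  obtain ⟨p, rfl⟩ := (TensorProduct.rid R P).symm.surjective x
  have hp : p ⊗ₜ[R] (1 : S) = 0 := by simpa using hx
  have hp' : (1 : S) ⊗ₜ[R] p = 0 := by
    simpa using congrArg (TensorProduct.comm R P S) hp
  let A : ModuleCat.{u} (CommRingCat.of R) := ModuleCat.of R R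
  let B : ModuleCat.{u} (CommRingCat.of R) := ModuleCat.of R P
  let f : A ⟶ B := ModuleCat.ofHom (LinearMap.toSpanSingleton R P p)
  let pB : B := p
  have hz : tm (sm R S) (M := B) (1 : CommRingCat.of S) pB = 0 :=
    toT_injective (M := B) (hp'.trans (map_zero (toT (S := S) B)).symm)
  have h0 : (extendScalars (sm R S).hom).map f = (extendScalars (sm R S).hom).map (0 : A ⟶ B) := by
    refine hom_ext_tm (sm R S) fun c => ?_
    erw [ExtendScalars.map_tmul, ExtendScalars.map_tmul]
    show tm (sm R S) (1 : CommRingCat.of S) (c • pB) = tm (sm R S) (1 : CommRingCat.of S) (0 : B)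
    rw [← tm_balance, tm_eq_smul_one, hz, smul_zero, tm_zero]
  have hf : (F (S := S)).map f = (F (S := S)).map (0 : A ⟶ B) :=
    Pseudofunctor.DescentData.hom_ext fun _ => h0
  have := congrArg (fun φ : A ⟶ B => φ (1 : R)) ((F (S := S)).map_injective hf)
  have hp0 : p = 0 := (one_smul R p).symm.trans ((LinearMap.toSpanSingleton_apply R P p 1).symm.trans this)
  simp [hp0]

end Groth.Agent.Desc44.UnivInjDesc
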