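import Groth.Agent.Desc44.VirtualDim
import Groth.Agent.Desc44.CompPres
import Groth.Agent.RegImm44.KoszulMor
import Groth.Agent.Omega.ConormalZero
import Groth.Agent.KReg44.Vars

/-!
# Virtual relative dimensions add under composition
-/

set_option autoImplicit false
set_option linter.style.haveILetI false
set_option backward.isDefEq.respectTransparency false
set_option backward.isDefEq.respectTransparency.types false

universe u

open CategoryTheory CategoryTheory.Limits AlgebraicGeometry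
open Groth.Agent.Omega.StalkAlg

noncomputable section

namespace Groth.Agent.Desc44.VirtualComp

variable {X Y Z : Scheme.{u}}

/-- The kernel on local rings of a Koszul-regular immersion. -/
theorem exists_ker_list {W : Scheme.{u}} (i : Y ⟶ W) (h : RegImm.IsRegularImmersion .koszul i) (y : Y) :
    ∃ l : List (W.presheaf.stalk (i y)),
      LCI.IsKoszulRegularSeq _ l ∧ RingHom.ker (i.stalkMap y).hom = Ideal.ofList l := by
  obtain ⟨⟨V, hV⟩, hyV, hci, rs, hrs, hker⟩ := h.2 y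
  haveI := hci
  haveI := h.1
  let g := (W.presheaf.germ V (i y) hyV).hom
  letI : Algebra Γ(W, V) (W.presheaf.stalk (i y)) := W.presheaf.algebra_section_stalk ⟨i y, hyV⟩
  haveI := hV.isLocalization_stalk ⟨i y, hyV⟩
  refine ⟨rs.map g, KReg44.isKoszulRegularSeq_map g (RingHom.flat_algebraMap_iff.mpr
    (IsLocalization.flat _ (hV.primeIdealOf ⟨i y, hyV⟩).asIdeal.primeCompl)) hrs, ?_⟩
  rw [Omega.ConormalZero.ker_stalkMap_eq i hV (RegImm44.isAffineOpen_preimage i hV) hyV
    (RegImm44.app_surjective i hV), hker, ← Ideal.map_ofList]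

/-- A Koszul morphism on local rings: a Koszul-regular quotient of a local ring of affine space. -/
theorem exists_chart (f : X ⟶ Y) (hf : ∀ x, Synt.IsKoszulAt f x) (x : X) :
    ∃ (n : ℕ) (S : Type u) (_ : CommRing S) (_ : IsLocalRing S)
      (ψ : MvPolynomial (Fin n) (Y.presheaf.stalk (f x)) →+* S) (πf : S →+* X.presheaf.stalk x),
      (∀ z, ψ z = 0 → ∃ t, IsUnit (ψ t) ∧ t * z = 0) ∧ (∀ z, ∃ b t, IsUnit (ψ t) ∧ ψ t * z = ψ b) ∧
      Function.Surjective πf ∧
      (∀ b, πf (ψ (MvPolynomial.C b)) = QCohDescent.κ f x (specializes_of_eq rfl) b) ∧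
      ∃ s : List S, LCI.IsKoszulRegularSeq S s ∧ RingHom.ker πf = Ideal.ofList s := by
  haveI := RegImm44.locallyOfFiniteType_of_isKoszulAt hf
  obtain ⟨V, hV, hxV, -⟩ := exists_isAffineOpen_mem_and_subset (show f x ∈ (⊤ : Y.Opens) from trivial)
  obtain ⟨U, n, i, hxU, hi, hfac⟩ := RegImm44.exists_presentation f x hV hxV
  haveI := hi
  let A₁ := Γ(Y, V)
  let P₁ := MvPolynomial (Fin n) A₁
  let cC := CommRingCat.ofHom (MvPolynomial.C : A₁ →+* P₁)
  haveI : Smooth (Spec.map cC) := RegImm44.smooth_specMap_C _ n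
  haveI := hV.isOpenImmersion_fromSpec
  let p : Spec (.of P₁) ⟶ Y := Spec.map cC ≫ hV.fromSpec
  have hreg : RegImm.IsRegularImmersion .koszul i :=
    RegImm44.isRegularImmersion_of_isKoszulAt (fun u => RegImm44.isKoszulAt_open_comp U.ι u (hf _)) p i hfac
  let x' : (U : Scheme.{u}) := ⟨x, hxU⟩
  let q : PrimeSpectrum P₁ := i x'
  let S := (Spec (.of P₁)).presheaf.stalk (i x')
  let alg : P₁ →+* S :=
    ((Scheme.ΓSpecIso (.of P₁)).inv ≫ (Spec (.of P₁)).presheaf.germ ⊤ (i x') trivial).hom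
  letI : Algebra P₁ S := alg.toAlgebra
  haveI : IsLocalization.AtPrime S q.asIdeal := StructureSheaf.IsLocalization.to_stalk P₁ q
  have hpx : p (i x') = f x := by
    rw [← Scheme.Hom.comp_apply, hfac]; rfl
  let B := Y.presheaf.stalk (f x)
  let cS : B →+* S := (QCohDescent.κ p (i x') (specializes_of_eq hpx)).hom
  letI : Algebra A₁ B := Y.presheaf.algebra_section_stalk ⟨f x, hxV⟩
  haveI := hV.isLocalization_stalk ⟨f x, hxV⟩
  let M := (hV.primeIdealOf ⟨f x, hxV⟩).asIdeal.primeCompl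
  have hcS : ∀ a, cS (algebraMap A₁ B a) = algebraMap P₁ S (MvPolynomial.C a) := fun a => by
    show QCohDescent.κ p (i x') _ (Y.presheaf.germ V (f x) hxV a) = _
    rw [QCohDescent.κ_germ]
    have hle : (⊤ : (Spec (.of P₁)).Opens) ≤ p ⁻¹ᵁ V := fun z _ => by
      show p z ∈ V
      rw [← SetLike.mem_coe, ← hV.range_fromSpec]
      exact ⟨_, rfl⟩
    have h0 : (⊤ : (Spec (Γ(Y, V))).Opens) ≤ hV.fromSpec ⁻¹ᵁ V := by rw [hV.fromSpec_preimage_self]
    have h1 : p.appLE V ⊤ hle = cC ≫ (Scheme.ΓSpecIso (.of P₁)).inv := by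
      rw [Scheme.ΓSpecIso_inv_naturality]
      refine (Scheme.Hom.appLE_comp_appLE (Spec.map cC) hV.fromSpec V ⊤ ⊤ h0 le_top).symm.trans ?_
      congr 1
      · simp [Scheme.Hom.appLE, IsAffineOpen.fromSpec_app_self]
        erw [← Functor.map_comp, Subsingleton.elim (_ ≫ _) (𝟙 _), CategoryTheory.Functor.map_id, Category.comp_id]
        rfl
    have h2 := ConcreteCategory.congr_hom h1 a
    show _ = (Spec (.of P₁)).presheaf.germ ⊤ (i x') trivial ((cC ≫ (Scheme.ΓSpecIso (.of P₁)).inv) a)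
    rw [← h2, Scheme.Hom.appLE, ConcreteCategory.comp_apply, TopCat.Presheaf.germ_res_apply]
  let mp : P₁ →+* MvPolynomial (Fin n) B := MvPolynomial.map (algebraMap A₁ B)
  letI : Algebra P₁ (MvPolynomial (Fin n) B) := mp.toAlgebra
  haveI : IsLocalization (M.map (MvPolynomial.C : A₁ →+* P₁)) (MvPolynomial (Fin n) B) :=
    MvPolynomial.isLocalization M B
  let ψ : MvPolynomial (Fin n) B →+* S := MvPolynomial.eval₂Hom cS fun j => algebraMap P₁ S (MvPolynomial.X j)
  have hψ : ∀ z, ψ (mp z) = algebraMap P₁ S z := RingHom.congr_fun (f := ψ.comp mp)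
    (MvPolynomial.ringHom_ext (fun a => by simp [ψ, mp, hcS]; rfl) fun j => by simp [ψ, mp]; rfl)
  have hden : ∀ d : M.map (MvPolynomial.C : A₁ →+* P₁), IsUnit (ψ (mp d)) := fun d =>
    (IsLocalization.map_units (MvPolynomial (Fin n) B) d).map ψ
  haveI : IsLocalRing S := IsLocalization.AtPrime.isLocalRing S q.asIdeal
  haveI : IsIso (U.ι.stalkMap x') := inferInstance
  let e : (U : Scheme.{u}).presheaf.stalk x' ⟶ X.presheaf.stalk x := inv (U.ι.stalkMap x')
  have hbe : Function.Bijective e.hom := ConcreteCategory.bijective_of_isIso e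
  let πf : S →+* X.presheaf.stalk x := e.hom.comp (i.stalkMap x').hom
  obtain ⟨s, hs, hsker⟩ := exists_ker_list i hreg x'
  refine ⟨n, S, inferInstance, inferInstance, ψ, πf, fun z hz => ?_, fun z => ?_,
    hbe.2.comp (i.stalkMap_surjective x'), fun b => ?_, s, hs, ?_⟩
  · obtain ⟨⟨z₁, d⟩, hzd⟩ := IsLocalization.surj (M.map (MvPolynomial.C : A₁ →+* P₁)) z
    have h0 : algebraMap P₁ S z₁ = 0 := by
      rw [← hψ, ← show z * mp d = mp z₁ from hzd, map_mul, hz, zero_mul]
    obtain ⟨t, ht⟩ := (IsLocalization.map_eq_zero_iff q.asIdeal.primeCompl S _).1 h0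
    refine ⟨mp t * mp d, ?_, ?_⟩
    · rw [map_mul, hψ]
      exact (IsLocalization.map_units S t).mul (hden d)
    · rw [mul_assoc, mul_comm (mp d), show z * mp d = mp z₁ from hzd, ← map_mul, ht, map_zero]
  · obtain ⟨⟨b, t⟩, hbt⟩ := IsLocalization.surj q.asIdeal.primeCompl z
    refine ⟨mp b, mp t, ?_, ?_⟩
    · rw [hψ]; exact IsLocalization.map_units S t
    · rw [hψ, hψ, mul_comm, hbt]
  · show e (i.stalkMap x' (ψ (MvPolynomial.C b))) = _
    rw [show ψ (MvPolynomial.C b) = cS b from MvPolynomial.eval₂Hom_C _ _ _]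
    refine (congrArg e.hom ((QCohDescent.κ_comp i p (U.ι ≫ f) hfac x' (specializes_of_eq hpx) (specializes_of_eq rfl) b).trans
      (QCohDescent.κ_comp U.ι f (U.ι ≫ f) rfl x' (specializes_of_eq rfl) (specializes_of_eq rfl) b).symm)).trans ?_
    exact ConcreteCategory.congr_hom (IsIso.hom_inv_id (U.ι.stalkMap x')) _
  · rw [← hsker]
    exact RingHom.ker_comp_of_injective _ hbe.1

theorem id_univ {B C : Type u} [CommRing B] [CommRing C] (τ : B →+* C) :
    IsDerUniv τ (RingHom.id B) (0 : B →+ (Fin 0 → C)) := fun N _ _ e _ he0 =>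
  ⟨0, fun b => by simp [show e b = 0 from he0 b], fun m _ => LinearMap.ext fun v => by
    rw [Subsingleton.elim v 0, map_zero, map_zero]⟩

/-- The differentials of a presentation of `A → B` in a basis, pushed to `C`. -/
theorem exists_baseChange_der {A B C R P Q : Type u} [CommRing A] [CommRing B] [CommRing C] [CommRing R]
    [AddCommGroup P] [Module B P] [AddCommGroup Q] [Module B Q] {τ : A →+* B}
    (D : ConormalEuler.Pres τ R P Q) {a : ℕ} (b : Module.Basis (Fin a) B Q) (τf : B →+* C) :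
    ∃ δ₀ : R →+ (Fin a → C), (∀ x y, δ₀ (x * y) = τf (D.π x) • δ₀ y + τf (D.π y) • δ₀ x) ∧
      (∀ x, δ₀ (D.σ x) = 0) ∧ IsDerUniv (τf.comp D.π) D.σ δ₀ := by
  refine ⟨AddMonoidHom.mk' (fun r i => τf (b.repr (D.δ r) i)) fun x y => by funext i; simp,
    fun x y => ?_, fun x => ?_, ?_⟩
  · funext i; simp [D.δ_mul]
  · funext i; simp [D.δ_zero]
  intro N _ _ e he he0
  letI : Module B N := Module.compHom N τf
  obtain ⟨l, hl, hlu⟩ := D.δ_univ N e he he0
  refine ⟨(Pi.basisFun C (Fin a)).constr C fun i => l (b i), fun x => ?_, fun m hm => ?_⟩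
  · rw [Module.Basis.constr_apply_fintype, ← hl]
    conv_rhs => rw [← b.sum_repr (D.δ x), map_sum]
    refine Finset.sum_congr rfl fun i _ => ?_
    rw [map_smul]
    simp
    rfl
  · let m' : Q →ₗ[B] N := { toFun := fun q => m fun i => τf (b.repr q i)
                            map_add' := fun x y => by rw [← map_add]; congr 1; funext i; simp
                            map_smul' := fun c x => by
                              show m _ = τf c • m _
                              rw [← map_smul]; congr 1; funext i; simp }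
    have hm' : m' = l := hlu m' hm
    refine (Pi.basisFun C (Fin a)).ext fun i => ?_
    rw [Module.Basis.constr_basis, ← hm', Pi.basisFun_apply]
    show m _ = m _
    congr 1
    funext j
    simp [Finsupp.single_apply, Pi.single_apply, eq_comm, apply_ite τf]

theorem rank_comp {V W T : Scheme.{u}} (f : X ⟶ Y) (g : Y ⟶ Z)
    (hf : ∀ x : X, Synt.IsKoszulAt f x) (hg : ∀ y : Y, Synt.IsKoszulAt g y)
    (gf : V ⟶ Y) [Smooth gf] (jf : X ⟶ V) [IsClosedImmersion jf] (hjf : jf ≫ gf = f)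
    (gg : W ⟶ Z) [Smooth gg] (jg : Y ⟶ W) [IsClosedImmersion jg] (hjg : jg ≫ gg = g)
    (gh : T ⟶ Z) [Smooth gh] (jh : X ⟶ T) [IsClosedImmersion jh] (hjh : jh ≫ gh = f ≫ g)
    (Ωf : V.Modules) (df : OmegaSh.Der gf Ωf) (hdf : OmegaSh.IsUniversal df)
    (Ωg : W.Modules) (dg : OmegaSh.Der gg Ωg) (hdg : OmegaSh.IsUniversal dg)
    (Ωh : T.Modules) (dh : OmegaSh.Der gh Ωh) (hdh : OmegaSh.IsUniversal dh)
    (x : X) (af bf ag bg ah bh : ℕ) (U₁ U₂ U₃ U₄ : X.Opens) (U₅ U₆ : Y.Opens)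
    (h₁ : x ∈ U₁) (h₂ : x ∈ U₂) (h₃ : x ∈ U₃) (h₄ : x ∈ U₄) (h₅ : f x ∈ U₅) (h₆ : f x ∈ U₆)
    (haf : FlatMod.IsFinLocFreeOfRank af ((Scheme.Modules.restrictFunctor U₁.ι).obj ((Scheme.Modules.pullback jf).obj Ωf)))
    (hbf : FlatMod.IsFinLocFreeOfRank bf ((Scheme.Modules.restrictFunctor U₂.ι).obj (Omega.conormal jf)))
    (hah : FlatMod.IsFinLocFreeOfRank ah ((Scheme.Modules.restrictFunctor U₃.ι).obj ((Scheme.Modules.pullback jh).obj Ωh)))
    (hbh : FlatMod.IsFinLocFreeOfRank bh ((Scheme.Modules.restrictFunctor U₄.ι).obj (Omega.conormal jh)))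
    (hag : FlatMod.IsFinLocFreeOfRank ag ((Scheme.Modules.restrictFunctor U₅.ι).obj ((Scheme.Modules.pullback jg).obj Ωg)))
    (hbg : FlatMod.IsFinLocFreeOfRank bg ((Scheme.Modules.restrictFunctor U₆.ι).obj (Omega.conormal jg))) :
    (ah : ℤ) - bh = ((af : ℤ) - bf) + ((ag : ℤ) - bg) := by
  obtain ⟨Dg, hgπ⟩ := VirtualDim.exists_pres g gg jg hjg Ωg dg hdg (f x)
  obtain ⟨Df, -⟩ := VirtualDim.exists_pres f gf jf hjf Ωf df hdf x
  obtain ⟨Dh, -⟩ := VirtualDim.exists_pres (f ≫ g) gh jh hjh Ωh dh hdh x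
  let bQg := (VirtualDim.exists_basis h₅ hag).some
  let bPg := (VirtualDim.exists_basis h₆ hbg).some
  let τf : Y.presheaf.stalk (f x) →+* X.presheaf.stalk x := (QCohDescent.κ f x (specializes_of_eq rfl)).hom
  -- generators of the first kernel
  obtain ⟨r, hr, hrker⟩ := exists_ker_list jg (RegImm44.isRegularImmersion_of_isKoszulAt hg gg jg hjg) (f x)
  rw [← hgπ] at hrker
  obtain ⟨Dg'⟩ := CompPres.exists_presOfList Dg.σ Dg.π Dg.surj Dg.comp Dg.smooth r hr hrker Dg.δ Dg.δ_mul Dg.δ_zero Dg.δ_univ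
  have eg := ConormalEuler.rank_eq Dg Dg' bQg bPg bQg (Pi.basisFun _ _)
  obtain ⟨n, S, _, _, ψ, πf, hψker, hψsurj, hπf, hπfC, s, hs, hsker⟩ := exists_chart f hf x
  obtain ⟨δ₀, hδ₀, hδ₀', hδ₀u⟩ := exists_baseChange_der Dg bQg τf
  obtain ⟨R', _, ⟨Dc⟩⟩ := CompPres.exists_comp Dg.σ Dg.π Dg.surj Dg.smooth r hr hrker τf
    (τ := (QCohDescent.κ (f ≫ g) x (specializes_of_eq rfl)).hom)
    (fun a => by
      rw [Dg.comp a]
      exact (QCohDescent.κ_trans g f (f ≫ g) rfl x (specializes_of_eq rfl) (specializes_of_eq rfl)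
        (specializes_of_eq rfl) a).symm)
    δ₀ hδ₀ hδ₀' hδ₀u ψ hψker hψsurj πf hπf hπfC s hs hsker
  obtain ⟨S', _, ⟨Df'⟩⟩ := CompPres.exists_comp (RingHom.id (Y.presheaf.stalk (f x))) (RingHom.id _)
    Function.surjective_id (RingHom.FormallySmooth.of_bijective Function.bijective_id) []
    KReg44.isKoszulRegularSeq_nil (by simp [RingHom.ker_eq_bot_iff_eq_zero, Ideal.ofList_nil]) τf (τ := τf)
    (fun a => rfl) (a := 0) 0 (fun _ _ => by simp) (fun _ => rfl) (id_univ τf) ψ hψker hψsurj πf hπf hπfC s hs hsker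
  let b : ∀ a : ℕ, Module.Basis (Fin (a + n)) (X.presheaf.stalk x)
      ((Fin a → X.presheaf.stalk x) × (Fin n → X.presheaf.stalk x)) := fun a =>
    ((Pi.basisFun _ _).prod (Pi.basisFun _ _)).reindex finSumFinEquiv
  have ef := ConormalEuler.rank_eq Df Df' (VirtualDim.exists_basis h₁ haf).some (VirtualDim.exists_basis h₂ hbf).some
    (b 0) (Pi.basisFun _ _)
  have eh := ConormalEuler.rank_eq Dh Dc (VirtualDim.exists_basis h₃ hah).some (VirtualDim.exists_basis h₄ hbh).some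
    (b ag) (Pi.basisFun _ _)
  simp only [List.length_nil] at ef
  omega

end Groth.Agent.Desc44.VirtualComp
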