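import Groth.Agent.Desc44.ConormalEuler
import Groth.Agent.Desc44.QCohDescent.Core
import Groth.Agent.Omega.StalkSeq
import Groth.Agent.Omega.StalkSmooth
import Groth.Agent.GrpScheme.SectionConormal
import Groth.Agent.EulerChar.Rank
import Groth.Agent.Ref1.Rank

/-!
# The virtual relative dimension does not depend on the factorisation
-/

set_option autoImplicit false
set_option linter.style.haveILetI false
set_option backward.isDefEq.respectTransparency false
set_option backward.isDefEq.respectTransparency.types false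

universe u

open CategoryTheory CategoryTheory.Limits AlgebraicGeometry
open OmegaSh Groth.Agent.Omega.Basic Groth.Agent.Omega.Stalks Groth.Agent.Omega.StalkConormal Groth.Agent.Omega.StalkSeq Groth.Agent.Omega.StalkAlg
  Groth.Agent.PullStalk.Sky Groth.Agent.PullStalk.Exact Groth.Agent.PullStalk.Basic

noncomputable section

namespace Groth.Agent.Desc44.VirtualDim

variable {X Y V : Scheme.{u}}

/-- The stalk of a module free on an open neighbourhood. -/
theorem exists_basis {M : X.Modules} {U : X.Opens} {x : X} (hx : x ∈ U) {n : ℕ}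
    (h : FlatMod.IsFinLocFreeOfRank n ((Scheme.Modules.restrictFunctor U.ι).obj M)) :
    Nonempty (Module.Basis (Fin n) (X.presheaf.stalk x) (M.presheaf.stalk x)) := by
  obtain ⟨U', hxU', ⟨φ⟩⟩ := h ⟨x, hx⟩
  obtain ⟨e, he⟩ := VBLib.exists_isFrame_of_iso φ
  exact ⟨Module.Basis.ofEquivFun (LinearEquiv.ofBijective _
    ((Ref1.isFrame_of_restrict he).stalkComb_bijective x ⟨⟨x, hx⟩, hxU', rfl⟩)).symm⟩

lemma surjective_specializes {y y' : Y} (e : y' = y) :
    Function.Surjective (Y.presheaf.stalkSpecializes (specializes_of_eq e)) := by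
  subst e
  intro a
  exact ⟨a, by rw [TopCat.Presheaf.stalkSpecializes_refl]; rfl⟩

/-- The presentation of a local ring given by a factorisation through a smooth morphism. -/
theorem exists_pres (f : X ⟶ Y) (g : V ⟶ Y) [Smooth g] (i : X ⟶ V) [IsClosedImmersion i] (hi : i ≫ g = f)
    (Ω : V.Modules) (d : OmegaSh.Der g Ω) (hd : OmegaSh.IsUniversal d) (x : X) :
    ∃ D : ConormalEuler.Pres (QCohDescent.κ f x (specializes_of_eq (rfl : f x = f x))).hom
      (V.presheaf.stalk (i x)) ((Omega.conormal i).presheaf.stalk x)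
      (((Scheme.Modules.pullback i).obj Ω).presheaf.stalk x), D.π = (i.stalkMap x).hom := by
  have e : g (i x) = f x := by rw [← Scheme.Hom.comp_apply, hi]
  have hind := i.isEmbedding.isInducing
  obtain ⟨δ, hδ₁, hδ₂, hδ₃, hδu⟩ := exists_pullDer i x hd
  obtain ⟨κ₀, hκ₁, hκ₂, hκu⟩ := exists_conormal i x hind
  obtain ⟨φ, hφ⟩ := GrpScheme.SectionConormal.exists_conormalDiff i d
  have hsurj := surjective_specializes (Y := Y) (y := f x) (y' := g (i x)) e
  have hbij : Function.Bijective (Y.presheaf.stalkSpecializes (specializes_of_eq e)).hom := by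
    refine ⟨fun a b hab => ?_, hsurj⟩
    have := congrArg (Y.presheaf.stalkSpecializes (specializes_of_eq e.symm)) hab
    simpa only [← ConcreteCategory.comp_apply, TopCat.Presheaf.stalkSpecializes_comp,
      TopCat.Presheaf.stalkSpecializes_refl, ConcreteCategory.id_apply] using this
  refine ⟨⟨(QCohDescent.κ g (i x) (specializes_of_eq e)).hom, (i.stalkMap x).hom, i.stalkMap_surjective x,
    fun a => QCohDescent.κ_comp i g f hi x (specializes_of_eq e) (specializes_of_eq rfl) a, ?_,
    κ₀, hκ₁, hκu, δ, hδ₁, fun a => hδ₂ _, ?_, (stalkLin φ x), conormalDiff_stalk hind hφ x κ₀ hκ₂ δ hδ₃⟩, rfl⟩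
  · exact (RingHom.FormallySmooth.of_bijective hbij).comp
      (Omega.StalkSmooth.formallySmooth_stalkMap_of_smooth g (i x))
  · intro N _ _ ev hev hev₀
    exact hδu N ev hev fun c => by
      obtain ⟨a, rfl⟩ := hsurj c
      exact hev₀ a

theorem rank_sub_eq {V' : Scheme.{u}} (f : X ⟶ Y)
    (g : V ⟶ Y) [Smooth g] (i : X ⟶ V) [IsClosedImmersion i] (hi : i ≫ g = f)
    (g' : V' ⟶ Y) [Smooth g'] (i' : X ⟶ V') [IsClosedImmersion i'] (hi' : i' ≫ g' = f)
    (Ω : V.Modules) (d : OmegaSh.Der g Ω) (hd : OmegaSh.IsUniversal d)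
    (Ω' : V'.Modules) (d' : OmegaSh.Der g' Ω') (hd' : OmegaSh.IsUniversal d')
    (x : X) (a b a' b' : ℕ) (U₁ U₂ U₃ U₄ : X.Opens) (h₁ : x ∈ U₁) (h₂ : x ∈ U₂) (h₃ : x ∈ U₃) (h₄ : x ∈ U₄)
    (ha : FlatMod.IsFinLocFreeOfRank a ((Scheme.Modules.restrictFunctor U₁.ι).obj ((Scheme.Modules.pullback i).obj Ω)))
    (hb : FlatMod.IsFinLocFreeOfRank b ((Scheme.Modules.restrictFunctor U₂.ι).obj (Omega.conormal i)))
    (ha' : FlatMod.IsFinLocFreeOfRank a' ((Scheme.Modules.restrictFunctor U₃.ι).obj ((Scheme.Modules.pullback i').obj Ω')))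
    (hb' : FlatMod.IsFinLocFreeOfRank b' ((Scheme.Modules.restrictFunctor U₄.ι).obj (Omega.conormal i'))) :
    (a : ℤ) - b = (a' : ℤ) - b' := by
  obtain ⟨D, -⟩ := exists_pres f g i hi Ω d hd x
  obtain ⟨D', -⟩ := exists_pres f g' i' hi' Ω' d' hd' x
  have := ConormalEuler.rank_eq D D' (exists_basis h₁ ha).some (exists_basis h₂ hb).some
    (exists_basis h₃ ha').some (exists_basis h₄ hb').some
  omega

end Groth.Agent.Desc44.VirtualDim
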