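import Groth.Agent.Desc44.SemiProper
import Groth.Agent.RadPtLib.Basic
import Mathlib.AlgebraicGeometry.Morphisms.Separated

/-!
# Well intersecting closed subsets
-/

set_option autoImplicit false
set_option linter.style.haveILetI false

universe u

open CategoryTheory AlgebraicGeometry Limits Topology TopologicalSpace
open Groth.Agent.EquidimPt

noncomputable section

namespace Groth.Agent.Desc44.WellInt

variable (k : Type u) [Field k] {X S : Scheme.{u}} (q : S ⟶ Spec (CommRingCat.of k)) (f : X ⟶ S)
  [LocallyOfFiniteType q] [CompactSpace S] [IsSeparated q] [LocallyOfFiniteType f] [CompactSpace X] [IsSeparated f]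

/-- The part of `Y ×_S Z` off the diagonal. -/
abbrev D (Y Z : Set X) : Set ↥(pullback f f) :=
  {p | pullback.fst f f p ∈ Y ∧ pullback.snd f f p ∈ Z ∧ p ∉ Set.range (pullback.diagonal f)}

omit [CompactSpace X] [LocallyOfFiniteType f] in
lemma isLocallyClosed_D {Y Z : Set X} (hY : IsClosed Y) (hZ : IsClosed Z) : IsLocallyClosed (D f Y Z) :=
  (hY.preimage (pullback.fst f f).continuous).isLocallyClosed.inter
    ((hZ.preimage (pullback.snd f f).continuous).isLocallyClosed.inter
      (pullback.diagonal f).isClosedEmbedding.isClosed_range.isOpen_compl.isLocallyClosed)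

omit [LocallyOfFiniteType f] [CompactSpace X] [IsSeparated f] in
lemma exists_nat {Z : Set X} {c : X ⟶ Spec (CommRingCat.of k)} [LocallyOfFiniteType c] {ζ : X}
    (hζ : IsGenericPoint ζ Z) : topologicalKrullDim Z = (dimOver k c ζ : WithBot ℕ∞) := by
  rw [← topDim_closure_eq k c ζ, hζ.def]

include k q in
/-- No point of `Y ×_S Z` off the diagonal lies over the generic point of `Y`. -/
theorem generic_not_mem {Y Z : Set X} (hYc : IsClosed Y) (hZc : IsClosed Z)
    (hWI : topologicalKrullDim (D f Y Z) + topologicalKrullDim S ≤ topologicalKrullDim Y + topologicalKrullDim Z)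
    {ζ : X} (hζ : IsGenericPoint ζ Z) (hZS : topologicalKrullDim Z < topologicalKrullDim S)
    {η : X} (hη : IsGenericPoint η Y) {p : ↥(pullback f f)} (hp : p ∈ D f Y Z) (hpη : pullback.fst f f p = η) :
    False := by
  haveI : IsLocallyNoetherian S := LocallyOfFiniteType.isLocallyNoetherian q
  obtain ⟨t, -, hD⟩ := exists_dimOver_eq k (pullback.fst f f) (f ≫ q) p
  rw [hpη] at hD
  have h1 : (dimOver k (f ≫ q) η : WithBot ℕ∞) ≤ topologicalKrullDim (D f Y Z) :=
    le_trans (Nat.cast_le.2 (by omega)) (SemiProper.le_topDim k (pullback.fst f f ≫ f ≫ q) (isLocallyClosed_D f hYc hZc) hp)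
  rw [exists_nat k (c := f ≫ q) hη, exists_nat k (c := f ≫ q) hζ] at hWI
  rw [exists_nat k (c := f ≫ q) hζ] at hZS
  have h2 : (dimOver k (f ≫ q) η : WithBot ℕ∞) + topologicalKrullDim S ≤
      (dimOver k (f ≫ q) η : WithBot ℕ∞) + (dimOver k (f ≫ q) ζ : WithBot ℕ∞) :=
    (add_le_add_left h1 _).trans hWI
  revert h2 hZS
  generalize topologicalKrullDim S = s
  intro hZS h2
  induction s with
  | bot => exact not_lt_bot hZS
  | coe s =>
    induction s with
    | top =>
      have h3 : ((dimOver k (f ≫ q) η : ℕ∞) + ⊤ : ℕ∞) ≤ (dimOver k (f ≫ q) η : ℕ∞) + (dimOver k (f ≫ q) ζ : ℕ∞) := by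
        exact_mod_cast h2
      rw [add_top, ← Nat.cast_add] at h3
      exact (ENat.natCast_lt_top _).not_ge h3
    | coe s =>
      have h3 : dimOver k (f ≫ q) η + s ≤ dimOver k (f ≫ q) η + dimOver k (f ≫ q) ζ := by exact_mod_cast h2
      have h4 : dimOver k (f ≫ q) ζ < s := by exact_mod_cast hZS
      omega

include k q in
lemma gen_of_mem_closure {E : Set S} (hE : IsConstructible E) {s : S} (hs : s ∈ closure E) : ∃ e ∈ E, e ⤳ s :=
  LimTop.exists_specializes_of_mem_closure
    (fun x => ⟨Set.univ, isOpen_univ, trivial, {Subtype.val ⁻¹' E}, fun T hT => by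
      rw [Set.mem_singleton_iff.1 hT]
      exact (hE.preimage_of_isOpenEmbedding (Homeomorph.Set.univ S).isOpenEmbedding).isLocallyConstructible,
      (Set.sInter_singleton _).symm⟩) hs

include k q in
lemma isConstructible_image {Y : Set X} (hY : IsClosed Y) : IsConstructible (f.base '' Y) := by
  haveI : IsLocallyNoetherian S := LocallyOfFiniteType.isLocallyNoetherian q
  haveI : IsLocallyNoetherian X := LocallyOfFiniteType.isLocallyNoetherian f
  haveI : IsNoetherian X := ⟨⟩
  haveI : QuasiCompact f := ⟨fun U _ _ => NoetherianSpace.isCompact _⟩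
  haveI : LocallyOfFinitePresentation f := LocallyOfFinitePresentation.iff_locallyOfFiniteType.2 inferInstance
  refine f.isConstructible_image ?_
  have := (IsRetrocompact.isConstructible hY.isOpen_compl (fun W _ _ => NoetherianSpace.isCompact _)).compl
  rwa [compl_compl] at this

include k q in
theorem image_not_subset {Y Z : Set X} (hYc : IsClosed Y) (hYi : IsIrreducible Y) (hZc : IsClosed Z)
    (hZi : IsIrreducible Z)
    (hWI : topologicalKrullDim (D f Y Z) + topologicalKrullDim S ≤ topologicalKrullDim Y + topologicalKrullDim Z)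
    (hZS : topologicalKrullDim Z < topologicalKrullDim S) (hYZ : ¬ Y ⊆ Z) :
    ¬ (f.base '' Y ⊆ closure (f.base '' Y ∩ f.base '' Z)) ∧ ¬ (f.base '' Y ⊆ f.base '' Z) := by
  obtain ⟨η, hη⟩ := QuasiSober.sober hYi hYc
  obtain ⟨ζ, hζ⟩ := QuasiSober.sober hZi hZc
  have key : ¬ (f.base '' Y ⊆ closure (f.base '' Y ∩ f.base '' Z)) := fun hsub => by
    obtain ⟨s, ⟨⟨y, hy, rfl⟩, z, hz, hzy⟩, hs⟩ := gen_of_mem_closure k q
      ((isConstructible_image k q f hYc).inter (isConstructible_image k q f hZc)) (hsub ⟨η, hη.mem, rfl⟩)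
    have e : f η = f z := ((hs.antisymm ((hη.specializes hy).map f.continuous)).eq.symm).trans hzy.symm
    obtain ⟨p, hp1, hp2⟩ := Scheme.Pullback.exists_preimage_pullback (f := f) (g := f) η z e
    refine generic_not_mem k q f hYc hZc hWI hζ hZS hη ⟨hp1 ▸ hη.mem, hp2 ▸ hz, ?_⟩ hp1
    rintro ⟨x, rfl⟩
    rw [← Scheme.Hom.comp_apply, pullback.diagonal_fst] at hp1
    rw [← Scheme.Hom.comp_apply, pullback.diagonal_snd] at hp2
    exact hYZ fun w hw => (hη.specializes hw).mem_closed hZc (hp1 ▸ hp2 ▸ hz)
  exact ⟨key, fun h => key (h.trans' (le_refl _) |> fun h' => by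
    rw [Set.inter_eq_left.2 h']; exact subset_closure)⟩

include k q in
theorem generically_radicial {Y : Set X} (hYc : IsClosed Y) (hYi : IsIrreducible Y)
    (hWI : topologicalKrullDim (D f Y Y) + topologicalKrullDim S ≤ topologicalKrullDim Y + topologicalKrullDim Y)
    (hYS : topologicalKrullDim Y < topologicalKrullDim S) :
    ∃ V : Set X, IsOpen V ∧ (V ∩ Y).Nonempty ∧ Set.InjOn f.base (V ∩ Y) ∧
      ∀ x ∈ V ∩ Y, (f.residueFieldMap x).hom.IsPurelyInseparable := by
  obtain ⟨η, hη⟩ := QuasiSober.sober hYi hYc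
  haveI : IsLocallyNoetherian S := LocallyOfFiniteType.isLocallyNoetherian q
  haveI : IsLocallyNoetherian X := LocallyOfFiniteType.isLocallyNoetherian f
  haveI : IsNoetherian X := ⟨⟩
  haveI : QuasiCompact f := ⟨fun U _ _ => NoetherianSpace.isCompact _⟩
  haveI : IsLocallyNoetherian (pullback f f) := LocallyOfFiniteType.isLocallyNoetherian (pullback.fst f f)
  haveI : CompactSpace ↥(pullback f f) := QuasiCompact.compactSpace_of_compactSpace (pullback.fst f f)
  haveI : IsNoetherian (pullback f f) := ⟨⟩
  haveI : LocallyOfFinitePresentation (pullback.fst f f) :=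
    LocallyOfFinitePresentation.iff_locallyOfFiniteType.2 inferInstance
  have hcons : IsConstructible (D f Y Y) := by
    have hcl : ∀ T : Set ↥(pullback f f), IsOpen T → IsConstructible T := fun T hT =>
      IsRetrocompact.isConstructible hT fun W _ _ => NoetherianSpace.isCompact _
    have h1 := (hcl _ (hYc.preimage (pullback.fst f f).continuous).isOpen_compl).compl
    have h2 := (hcl _ (hYc.preimage (pullback.snd f f).continuous).isOpen_compl).compl
    have h3 := hcl _ (pullback.diagonal f).isClosedEmbedding.isClosed_range.isOpen_compl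
    rw [compl_compl] at h1 h2
    exact h1.inter (h2.inter h3)
  have hFc := (pullback.fst f f).isConstructible_image hcons
  have hηF : η ∉ closure ((pullback.fst f f).base '' D f Y Y) := fun h => by
    obtain ⟨_, ⟨p, hp, rfl⟩, hpη⟩ := LimTop.exists_specializes_of_mem_closure
      (fun x => ⟨Set.univ, isOpen_univ, trivial, {Subtype.val ⁻¹' ((pullback.fst f f).base '' D f Y Y)}, fun T hT => by
        rw [Set.mem_singleton_iff.1 hT]
        exact (hFc.preimage_of_isOpenEmbedding (Homeomorph.Set.univ X).isOpenEmbedding).isLocallyConstructible,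
        (Set.sInter_singleton _).symm⟩) h
    exact generic_not_mem k q f hYc hYc hWI hη hYS hη hp ((hη.specializes hp.1).antisymm hpη).eq.symm
  refine ⟨(closure ((pullback.fst f f).base '' D f Y Y))ᶜ, isClosed_closure.isOpen_compl, ⟨η, hηF, hη.mem⟩, ?_, ?_⟩
  · rintro a ⟨haV, haY⟩ b ⟨-, hbY⟩ hab
    obtain ⟨p, hp1, hp2⟩ := Scheme.Pullback.exists_preimage_pullback (f := f) (g := f) a b hab
    by_contra hne
    refine haV (subset_closure ⟨p, ⟨hp1 ▸ haY, hp2 ▸ hbY, ?_⟩, hp1⟩)
    rintro ⟨x, rfl⟩
    rw [← Scheme.Hom.comp_apply, pullback.diagonal_fst] at hp1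
    rw [← Scheme.Hom.comp_apply, pullback.diagonal_snd] at hp2
    exact hne (hp1.symm.trans hp2)
  · rintro x ⟨hxV, hxY⟩
    let g : Spec (X.residueField x) ⟶ S := X.fromSpecResidueField x ≫ f
    haveI : UniversallyInjective g := by
      refine (UniversallyInjective.iff_diagonal g).2 ⟨fun r => ?_⟩
      let m : pullback g g ⟶ pullback f f := pullback.map g g f f (X.fromSpecResidueField x)
        (X.fromSpecResidueField x) (𝟙 S) (by simp [g]) (by simp [g])
      have hm1 : m ≫ pullback.fst f f = pullback.fst g g ≫ X.fromSpecResidueField x := pullback.lift_fst _ _ _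
      have hm2 : m ≫ pullback.snd f f = pullback.snd g g ≫ X.fromSpecResidueField x := pullback.lift_snd _ _ _
      have hr1 : pullback.fst f f (m r) = x := by
        rw [← Scheme.Hom.comp_apply, hm1, Scheme.Hom.comp_apply, Scheme.fromSpecResidueField_apply]
      have hr2 : pullback.snd f f (m r) = x := by
        rw [← Scheme.Hom.comp_apply, hm2, Scheme.Hom.comp_apply, Scheme.fromSpecResidueField_apply]
      obtain ⟨y, hy⟩ : m r ∈ Set.range (pullback.diagonal f) := by_contra fun h =>
        hxV (subset_closure ⟨m r, ⟨hr1.symm ▸ hxY, hr2.symm ▸ hxY, h⟩, hr1⟩)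
      obtain ⟨t⟩ : Nonempty ↥(Spec (X.residueField x)) := inferInstance
      haveI : Mono m := ⟨fun a b hab => pullback.hom_ext
        (by rw [← cancel_mono (X.fromSpecResidueField x), Category.assoc, Category.assoc, ← hm1,
          reassoc_of% hab])
        (by rw [← cancel_mono (X.fromSpecResidueField x), Category.assoc, Category.assoc, ← hm2,
          reassoc_of% hab])⟩
      refine ⟨t, m.injective ?_⟩
      rw [← hy]
      have hyx : y = x := by
        rw [← hy, ← Scheme.Hom.comp_apply, pullback.diagonal_fst] at hr1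
        exact hr1
      rw [hyx, ← Scheme.Hom.comp_apply, show pullback.diagonal g ≫ m = X.fromSpecResidueField x ≫ pullback.diagonal f from
        pullback.hom_ext (by simp [hm1]) (by simp [hm2]), Scheme.Hom.comp_apply, Scheme.fromSpecResidueField_apply]
    obtain ⟨t⟩ : Nonempty ↥(Spec (X.residueField x)) := inferInstance
    have hiff := (tfae_universallyInjective (f := g)).out 0 2
    have h := (hiff.mp (show UniversallyInjective g by infer_instance)).2 t
    have e : X.fromSpecResidueField x t = x := Scheme.fromSpecResidueField_apply x t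
    have hcomp : (g.residueFieldMap t).hom = ((X.fromSpecResidueField x).residueFieldMap t).hom.comp
        (f.residueFieldMap (X.fromSpecResidueField x t)).hom := by
      rw [← CommRingCat.hom_comp, ← Scheme.residueFieldMap_comp]
      rfl
    rw [hcomp] at h
    have h2 := (RadPtLib.pi_of_comp h).1
    have key : ∀ y, y = x → (f.residueFieldMap y).hom.IsPurelyInseparable →
        (f.residueFieldMap x).hom.IsPurelyInseparable := by rintro y rfl h; exact h
    exact key _ e h2

end Groth.Agent.Desc44.WellInt
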