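import Groth.Agent.Desc44.SemiProper
import Groth.Agent.AlgSpD.FibreDimBC
import Mathlib.AlgebraicGeometry.Morphisms.Flat

/-!
# Well intersection and faithfully flat base change
-/

set_option autoImplicit false
set_option linter.style.haveILetI false

universe u

open CategoryTheory AlgebraicGeometry Limits Topology TopologicalSpace
open Groth.Agent.EquidimPt

noncomputable section

namespace Groth.Agent.Desc44.WellIntBC

variable (k : Type u) [Field k] {S S' P P' : Scheme.{u}}

lemma exists_nat_or_bot (c : P ⟶ Spec (CommRingCat.of k)) [LocallyOfFiniteType c] [CompactSpace P] {A : Set P}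
    (hA : IsLocallyClosed A) : topologicalKrullDim A = ⊥ ∨ ∃ a : ℕ, topologicalKrullDim A = a := by
  rcases A.eq_empty_or_nonempty with rfl | ⟨a, ha⟩
  · exact Or.inl (by
      rw [Fibres16.JacobsonDim.topDim_eq_of_isLocallyClosed hA]; exact Order.krullDim_eq_bot)
  right
  haveI : IsLocallyNoetherian P := LocallyOfFiniteType.isLocallyNoetherian c
  haveI : IsNoetherian P := ⟨⟩
  have hfin := TopologicalSpace.NoetherianSpace.finite_irreducibleComponents (α := (P : Type u))
  haveI : Nonempty P := ⟨a⟩
  choose! η hη using fun (T : Set P) (hT : T ∈ irreducibleComponents (P : Type u)) =>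
    QuasiSober.sober hT.1 (isClosed_of_mem_irreducibleComponents T hT)
  obtain ⟨N, hN⟩ : ∃ N : ℕ, ∀ y : P, dimOver k c y + 0 ≤ N := ⟨hfin.toFinset.sup fun T => dimOver k c (η T),
    fun y => (dimOver_le k c ((hη _ (irreducibleComponent_mem_irreducibleComponents y)).specializes
      mem_irreducibleComponent)).trans (Finset.le_sup (f := fun T => dimOver k c (η T))
        (hfin.mem_toFinset.2 (irreducibleComponent_mem_irreducibleComponents y)))⟩
  have hle := SemiProper.topDim_add_le k c hA 0 N fun z _ => hN z
  simp only [Nat.cast_zero, add_zero] at hle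
  have hge := SemiProper.le_topDim k c hA ha
  revert hle hge
  generalize topologicalKrullDim A = D
  intro hle hge
  induction D with
  | bot => exact absurd hge (by simp)
  | coe D =>
    induction D with
    | top => exact absurd hle (by exact_mod_cast (ENat.natCast_lt_top N).not_ge)
    | coe D => exact ⟨D, rfl⟩

variable (g : S' ⟶ S) [LocallyOfFiniteType g] (d : ℕ) (hd : ∀ s : S, topologicalKrullDim (g.fiber s) = d)

include hd in
/-- Preimages under a base change of a morphism with `d`-dimensional fibres. -/
theorem topDim_preimage (c : P ⟶ Spec (CommRingCat.of k)) [LocallyOfFiniteType c] [CompactSpace P] (φ : P ⟶ S)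
    (g' : P' ⟶ S') (p : P' ⟶ P) [LocallyOfFiniteType p] (sq : IsPullback g' p g φ) {A : Set P}
    (hA : IsLocallyClosed A) :
    topologicalKrullDim (p ⁻¹' A) = topologicalKrullDim A + (d : WithBot ℕ∞) := by
  have hA' : IsLocallyClosed (p ⁻¹' A) := hA.preimage p.continuous
  have hub : ∀ x' : P', FlatMor.fibreDimAt p x' ≤ d := fun x' => by
    rw [AlgSpD.fibreDimAt_of_isPullback g sq x']
    exact (fibreDimAt_le_topDim_fiber g _).trans (hd _).le
  have hlb : ∀ x : P, ∃ x', p x' = x ∧ dimOver k (p ≫ c) x' = dimOver k c x + d := fun x => by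
    obtain ⟨s', hs', hk'⟩ := exists_le_of_topDim_fibre g (r := d) (y := φ x)
      ((hd (φ x)).ge.trans_eq (g.fiberHomeo _).isHomeomorph.topologicalKrullDim_eq)
    obtain ⟨x', hx'1, hx'2⟩ := Scheme.exists_preimage_of_isPullback sq s' x hs'
    have h : (d : WithBot ℕ∞) ≤ topologicalKrullDim (p.fiber x) := by
      refine le_trans ?_ (hx'2 ▸ fibreDimAt_le_topDim_fiber p x')
      rw [AlgSpD.fibreDimAt_of_isPullback g sq x', hx'1]
      exact hk'.trans (le_fibreDimAt g s')
    obtain ⟨z, hz, hzd⟩ := exists_le_of_topDim_fibre p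
      (h.trans_eq (p.fiberHomeo x).isHomeomorph.topologicalKrullDim_eq)
    obtain ⟨t, ht, hD⟩ := exists_dimOver_eq k p c z
    rw [ht, Nat.cast_le] at hzd
    have htd : (t : WithBot ℕ∞) ≤ d := ht ▸ (le_fibreDimAt p z).trans (hub z)
    rw [Nat.cast_le] at htd
    rw [hz] at hD
    exact ⟨z, hz, by omega⟩
  rcases exists_nat_or_bot k c hA with hb | ⟨a, ha⟩
  · have hemp : A = ∅ := by
      refine Set.eq_empty_iff_forall_notMem.2 fun x hx => ?_
      have := SemiProper.le_topDim k c hA hx
      rw [hb] at this
      exact absurd this (by simp)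
    rw [hb, WithBot.bot_add, Fibres16.JacobsonDim.topDim_eq_of_isLocallyClosed hA', hemp, Set.preimage_empty]
    exact Order.krullDim_eq_bot
  · refine le_antisymm ?_ ?_
    · rw [ha, ← Nat.cast_add]
      have := SemiProper.topDim_add_le k (p ≫ c) hA' 0 (a + d) fun z hz => ?_
      · simpa using this
      obtain ⟨t, ht, hD⟩ := exists_dimOver_eq k p c z
      have htd : (t : WithBot ℕ∞) ≤ d := ht ▸ (le_fibreDimAt p z).trans (hub z)
      rw [Nat.cast_le] at htd
      have hza := SemiProper.le_topDim k c hA (show p z ∈ A from hz)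
      rw [ha, Nat.cast_le] at hza
      omega
    · obtain ⟨x, hx, hxa⟩ : ∃ x ∈ A, a ≤ dimOver k c x := by
        by_contra! hlt
        rcases a with _ | a
        · obtain ⟨x, hx⟩ : A.Nonempty := Set.nonempty_iff_ne_empty.2 fun h0 => by
            rw [Fibres16.JacobsonDim.topDim_eq_of_isLocallyClosed hA, h0, Order.krullDim_eq_bot] at ha
            exact WithBot.bot_ne_coe ha
          exact Nat.not_lt_zero _ (hlt x hx)
        · have := SemiProper.topDim_add_le k c hA 1 (a + 1) fun z hz => Nat.succ_le_of_lt (hlt z hz)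
          rw [ha] at this
          have h' : a + 1 + 1 ≤ a + 1 := by exact_mod_cast this
          omega
      obtain ⟨x', hx', hD⟩ := hlb x
      refine le_trans ?_ (SemiProper.le_topDim k (p ≫ c) hA' (show x' ∈ p ⁻¹' A by show p x' ∈ A; rw [hx']; exact hx))
      rw [hD, ha, ← Nat.cast_add, Nat.cast_le]
      omega

lemma add_le_add_iff_nat {x y : WithBot ℕ∞} (e : ℕ) : x + (e : WithBot ℕ∞) ≤ y + e ↔ x ≤ y := by
  refine ⟨fun h => ?_, fun h => add_le_add_left h _⟩
  induction x with
  | bot => exact bot_le
  | coe x =>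
    induction y with
    | bot => rw [WithBot.bot_add] at h; exact absurd h (WithBot.not_coe_le_bot (x + e))
    | coe y =>
      have h' : x + (e : ℕ∞) ≤ y + (e : ℕ∞) := by exact_mod_cast h
      exact WithBot.coe_le_coe.2 ((ENat.add_le_add_iff_right (ENat.natCast_ne_top e)).1 h')

variable {X : Scheme.{u}} (f : X ⟶ S) [IsSeparated f]

lemma diagonal_range (m : pullback (pullback.snd f g) (pullback.snd f g) ⟶ pullback f f)
    (hm1 : m ≫ pullback.fst f f = pullback.fst _ _ ≫ pullback.fst f g)
    (hm2 : m ≫ pullback.snd f f = pullback.snd _ _ ≫ pullback.fst f g)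
    (p : ↥(pullback (pullback.snd f g) (pullback.snd f g))) :
    p ∈ Set.range (pullback.diagonal (pullback.snd f g)) ↔ m p ∈ Set.range (pullback.diagonal f) := by
  constructor
  · rintro ⟨x, rfl⟩
    refine ⟨pullback.fst f g x, ?_⟩
    rw [← Scheme.Hom.comp_apply, ← Scheme.Hom.comp_apply]
    congr 1
    have : pullback.fst f g ≫ pullback.diagonal f = pullback.diagonal (pullback.snd f g) ≫ m :=
      pullback.hom_ext (by simp [hm1]) (by simp [hm2])
    rw [this]
  · rintro ⟨y, hy⟩
    let P2 := pullback (pullback.snd f g) (pullback.snd f g)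
    -- the two maps `Spec κ(p) → X` agree
    let ψ := P2.fromSpecResidueField p ≫ m
    have hψ : Set.range ψ ⊆ Set.range (pullback.diagonal f) := by
      rintro _ ⟨t, rfl⟩
      rw [Scheme.Hom.comp_apply, Scheme.fromSpecResidueField_apply]
      exact ⟨y, hy⟩
    have hlift : ∃ l : Spec (P2.residueField p) ⟶ X, l ≫ pullback.diagonal f = ψ := by
      let b := Spec.map (m.residueFieldMap p)
      have hb : b ≫ (pullback f f).fromSpecResidueField (m p) = ψ :=
        Scheme.Hom.SpecMap_residueFieldMap_fromSpecResidueField _ _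
      haveI : IsIso ((pullback.diagonal f).residueFieldMap y) :=
        (ConcreteCategory.isIso_iff_bijective _).2 ⟨RingHom.injective _, fun a => by
          obtain ⟨a, rfl⟩ := X.residue_surjective y a
          obtain ⟨c, rfl⟩ := (pullback.diagonal f).stalkMap_surjective y a
          exact ⟨(pullback f f).residue _ c, congr($(Scheme.residue_residueFieldMap (pullback.diagonal f) y) c)⟩⟩
      refine ⟨b ≫ Spec.map ((pullback f f).residueFieldCongr hy).hom ≫
        inv (Spec.map ((pullback.diagonal f).residueFieldMap y)) ≫ X.fromSpecResidueField y, ?_⟩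
      simp only [Category.assoc]
      rw [← Scheme.Hom.SpecMap_residueFieldMap_fromSpecResidueField, IsIso.inv_hom_id_assoc,
        Scheme.residueFieldCongr_fromSpecResidueField, hb]
    obtain ⟨l, hl⟩ := hlift
    have h1 : P2.fromSpecResidueField p ≫ pullback.fst _ _ ≫ pullback.fst f g = l := by
      rw [← hm1, ← Category.assoc, show P2.fromSpecResidueField p ≫ m = ψ from rfl, ← hl]; simp
    have h2 : P2.fromSpecResidueField p ≫ pullback.snd _ _ ≫ pullback.fst f g = l := by
      rw [← hm2, ← Category.assoc, show P2.fromSpecResidueField p ≫ m = ψ from rfl, ← hl]; simp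
    have heq : P2.fromSpecResidueField p ≫ pullback.fst _ _ = P2.fromSpecResidueField p ≫ pullback.snd _ _ := by
      refine pullback.hom_ext ?_ ?_
      · rw [Category.assoc, Category.assoc, h1, h2]
      · rw [Category.assoc, Category.assoc, pullback.condition]
    have hfac : P2.fromSpecResidueField p =
        (P2.fromSpecResidueField p ≫ pullback.fst _ _) ≫ pullback.diagonal (pullback.snd f g) := by
      refine pullback.hom_ext ?_ ?_
      · simp
      · rw [Category.assoc, pullback.diagonal_snd, Category.comp_id, heq]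
    obtain ⟨t⟩ : Nonempty ↥(Spec (P2.residueField p)) := inferInstance
    refine ⟨(P2.fromSpecResidueField p ≫ pullback.fst _ _) t, ?_⟩
    rw [← Scheme.Hom.comp_apply, ← hfac, Scheme.fromSpecResidueField_apply]

variable (q : S ⟶ Spec (CommRingCat.of k)) [LocallyOfFiniteType q] [CompactSpace S]
  [LocallyOfFiniteType f] [CompactSpace X]

include k q hd in
theorem wellIntersect_iff (Y Z : Set X) (hYc : IsClosed Y) (hZc : IsClosed Z) :
    (topologicalKrullDim {p : ↥(pullback f f) | pullback.fst f f p ∈ Y ∧ pullback.snd f f p ∈ Z ∧ p ∉ Set.range (pullback.diagonal f)} + topologicalKrullDim S ≤ topologicalKrullDim Y + topologicalKrullDim Z) ↔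
      (topologicalKrullDim {p : ↥(pullback (pullback.snd f g) (pullback.snd f g)) | pullback.fst (pullback.snd f g) (pullback.snd f g) p ∈ ((pullback.fst f g) ⁻¹' Y) ∧ pullback.snd (pullback.snd f g) (pullback.snd f g) p ∈ ((pullback.fst f g) ⁻¹' Z) ∧ p ∉ Set.range (pullback.diagonal (pullback.snd f g))} + topologicalKrullDim S' ≤ topologicalKrullDim ((pullback.fst f g) ⁻¹' Y) + topologicalKrullDim ((pullback.fst f g) ⁻¹' Z)) := by
  haveI : IsLocallyNoetherian S := LocallyOfFiniteType.isLocallyNoetherian q
  haveI : IsLocallyNoetherian X := LocallyOfFiniteType.isLocallyNoetherian f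
  haveI : IsNoetherian X := ⟨⟩
  haveI : QuasiCompact f := ⟨fun U _ _ => NoetherianSpace.isCompact _⟩
  haveI : CompactSpace ↥(pullback f f) := QuasiCompact.compactSpace_of_compactSpace (pullback.fst f f)
  let P2 := pullback (pullback.snd f g) (pullback.snd f g)
  let m : P2 ⟶ pullback f f := pullback.map _ _ f f (pullback.fst f g) (pullback.fst f g) g
    pullback.condition.symm pullback.condition.symm
  have hm1 : m ≫ pullback.fst f f = pullback.fst _ _ ≫ pullback.fst f g := pullback.lift_fst _ _ _
  have hm2 : m ≫ pullback.snd f f = pullback.snd _ _ ≫ pullback.fst f g := pullback.lift_snd _ _ _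
  -- the square over `X ×_S X`
  have sqX : IsPullback (pullback.snd f g) (pullback.fst f g) g f := (IsPullback.of_hasPullback f g).flip
  have sq1 : IsPullback (pullback.fst (pullback.snd f g) (pullback.snd f g)) (pullback.snd _ _)
      (pullback.snd f g) (pullback.snd f g) := IsPullback.of_hasPullback _ _
  have sq2 : IsPullback (pullback.fst (pullback.snd f g) (pullback.snd f g))
      (pullback.snd (pullback.snd f g) (pullback.snd f g) ≫ pullback.fst f g) (pullback.snd f g ≫ g) f :=
    sq1.paste_vert sqX
  have sq3 : IsPullback (pullback.fst (pullback.snd f g) (pullback.snd f g))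
      (m ≫ pullback.snd f f) (pullback.fst f g ≫ f) f := by
    rw [hm2, pullback.condition]; exact sq2
  have sqm : IsPullback (pullback.fst (pullback.snd f g) (pullback.snd f g)) m (pullback.fst f g) (pullback.fst f f) :=
    IsPullback.of_bot sq3 hm1.symm (IsPullback.of_hasPullback f f)
  have sqS : IsPullback (pullback.fst (pullback.snd f g) (pullback.snd f g) ≫ pullback.snd f g) m g (pullback.fst f f ≫ f) :=
    sqm.paste_horiz sqX
  haveI : LocallyOfFiniteType m := MorphismProperty.of_isPullback sqS ‹LocallyOfFiniteType g›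
  have hset : {p : ↥(pullback (pullback.snd f g) (pullback.snd f g)) | pullback.fst (pullback.snd f g) (pullback.snd f g) p ∈ ((pullback.fst f g) ⁻¹' Y) ∧ pullback.snd (pullback.snd f g) (pullback.snd f g) p ∈ ((pullback.fst f g) ⁻¹' Z) ∧ p ∉ Set.range (pullback.diagonal (pullback.snd f g))} =
      m ⁻¹' {p : ↥(pullback f f) | pullback.fst f f p ∈ Y ∧ pullback.snd f f p ∈ Z ∧ p ∉ Set.range (pullback.diagonal f)} := by
    ext p
    simp only [Set.mem_ofPred_eq, Set.mem_preimage]
    rw [diagonal_range g f m hm1 hm2 p]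
    simp only [← Scheme.Hom.comp_apply, hm1, hm2]
  have hD : IsLocallyClosed {p : ↥(pullback f f) | pullback.fst f f p ∈ Y ∧ pullback.snd f f p ∈ Z ∧ p ∉ Set.range (pullback.diagonal f)} :=
    (hYc.preimage (pullback.fst f f).continuous).isLocallyClosed.inter
      ((hZc.preimage (pullback.snd f f).continuous).isLocallyClosed.inter
        (pullback.diagonal f).isClosedEmbedding.isClosed_range.isOpen_compl.isLocallyClosed)
  have eS : topologicalKrullDim S' = topologicalKrullDim S + (d : WithBot ℕ∞) := by
    have h := topDim_preimage k g d hd q (𝟙 S) (𝟙 S') g (IsPullback.of_horiz_isIso ⟨by simp⟩)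
      (A := Set.univ) isClosed_univ.isLocallyClosed
    rwa [Set.preimage_univ, (Homeomorph.Set.univ _).isHomeomorph.topologicalKrullDim_eq,
      (Homeomorph.Set.univ _).isHomeomorph.topologicalKrullDim_eq] at h
  rw [hset, topDim_preimage k g d hd (pullback.fst f f ≫ f ≫ q) (pullback.fst f f ≫ f) _ m sqS hD,
    topDim_preimage k g d hd (f ≫ q) f (pullback.snd f g) (pullback.fst f g) sqX hYc.isLocallyClosed,
    topDim_preimage k g d hd (f ≫ q) f (pullback.snd f g) (pullback.fst f g) sqX hZc.isLocallyClosed, eS,
    add_add_add_comm, add_add_add_comm (topologicalKrullDim ↥Y), ← Nat.cast_add]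
  exact (add_le_add_iff_nat (d + d)).symm

end Groth.Agent.Desc44.WellIntBC
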